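import Mathlib
import Cfsg.Agent.Blocks.Local
import Cfsg.Agent.Blocks.Second
import Cfsg.Agent.Blocks.Reynolds
import Cfsg.Agent.Chars.Basic

/-!
# Lifting idempotents to the group ring over the place

Integral lifts of idempotents, and the value of a character at `r · f` for an idempotent `f` of
the residue group algebra fixed by `r`.
-/

set_option autoImplicit false
set_option linter.unusedSectionVars false
set_option linter.style.haveILetI false

namespace Cfsg.Lib.Blocks.Star

open Cfsg.Lib.Chars Polynomial
open scoped Classical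

universe u

section Poly

variable {R : Type*} [CommRing R]

theorem isCoprime_prod_X_sub_C (s t : Multiset R) (h : ∀ a ∈ s, ∀ b ∈ t, IsUnit (a - b)) :
    IsCoprime (s.map fun a => X - C a).prod (t.map fun b => X - C b).prod := by
  induction s using Multiset.induction with
  | empty => simpa using isCoprime_one_left
  | cons a s ih =>
    rw [Multiset.map_cons, Multiset.prod_cons]
    refine IsCoprime.mul_left ?_ (ih fun x hx => h x (Multiset.mem_cons_of_mem hx))
    clear ih
    induction t using Multiset.induction with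
    | empty => simpa using isCoprime_one_right
    | cons b t iht =>
      rw [Multiset.map_cons, Multiset.prod_cons]
      exact IsCoprime.mul_right (isCoprime_X_sub_C_of_isUnit_sub
          (h a (Multiset.mem_cons_self a s) b (Multiset.mem_cons_self b t)))
        (iht fun x hx y hy => h x hx y (Multiset.mem_cons_of_mem hy))

theorem aeval_idem {K A : Type*} [CommRing K] [Ring A] [Algebra K A] {f : A} (hf : f * f = f)
    (w : K[X]) : aeval f w = w.eval 0 • (1 - f) + w.eval 1 • f := by
  induction w using Polynomial.induction_on' with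
  | add a b ha hb => rw [map_add, ha, hb, eval_add, eval_add, add_smul, add_smul]; abel
  | monomial n c =>
    rcases n with _ | n
    · rw [monomial_zero_left, aeval_C, eval_C, eval_C, Algebra.algebraMap_eq_smul_one, ← smul_add,
        sub_add_cancel]
    · have hp : f ^ (n + 1) = f := by
        induction n with
        | zero => rw [zero_add, pow_one]
        | succ n ih => rw [pow_succ, ih, hf]
      rw [aeval_monomial, eval_monomial, eval_monomial, zero_pow (Nat.succ_ne_zero n), mul_zero,
        zero_smul, zero_add, one_pow, mul_one, hp, Algebra.smul_def]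

end Poly

variable {G : Type u} [Group G] [Fintype G] {M : Ideal AlgInt} {p : ℕ}

/-- The group element `r`, in the group algebra. -/
noncomputable abbrev sE {R : Type*} [CommRing R] (r : G) : MonoidAlgebra R G := MonoidAlgebra.single r 1

theorem commute_sE_iff {R : Type*} [CommRing R] (r : G) (a : MonoidAlgebra R G) :
    Commute (sE r) a ↔ ∀ g, fn a (r * g * r⁻¹) = fn a g := by
  constructor
  · intro h g
    have := congrArg (fun b => fn b (r * g)) h.eq
    simp only [fn_single_mul, fn_mul_single, one_mul, mul_one, inv_mul_cancel_left] at this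
    exact this.symm
  · intro h
    refine fn_ext fun g => ?_
    rw [fn_single_mul, fn_mul_single, one_mul, mul_one]
    have := h (r⁻¹ * g)
    rw [mul_inv_cancel_left] at this
    exact this.symm

theorem invOn_iff_commute {R : Type*} [CommRing R] (H : Subgroup G) (a : MonoidAlgebra R G) :
    InvOn H a ↔ ∀ h ∈ H, Commute (sE h) a :=
  ⟨fun ha h hh => (commute_sE_iff h a).2 (ha h hh), fun ha h hh => (commute_sE_iff h a).1 (ha h hh)⟩

theorem commute_sE_red {r : G} {a : MonoidAlgebra ℂ G} (h : Commute (sE r) a) :
    Commute (sE r) (red M a) := by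
  rw [commute_sE_iff] at h ⊢
  exact fun g => by rw [fn_red, fn_red, h g]

/-- The regular representation, as matrices. -/
noncomputable def regMat : MonoidAlgebra ℂ G →ₐ[ℂ] Matrix G G ℂ :=
  AlgHom.ofLinearMap
    { toFun := fun a => LinearMap.toMatrix' (convOp a)
      map_add' := fun a b => by ext i j; rw [Matrix.add_apply]; simp only [toMatrix'_convOp, fn_add]
      map_smul' := fun c a => by ext i j; rw [Matrix.smul_apply]; simp only [toMatrix'_convOp, fn_smul, RingHom.id_apply, smul_eq_mul] }
    (show LinearMap.toMatrix' (convOp (1 : MonoidAlgebra ℂ G)) = 1 by rw [convOp_one, LinearMap.toMatrix'_one])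
    (fun a b => show LinearMap.toMatrix' (convOp (a * b)) = _ by
      rw [convOp_mul, LinearMap.toMatrix'_mul]; rfl)

theorem regMat_apply (a : MonoidAlgebra ℂ G) (i j : G) : regMat a i j = fn a (i * j⁻¹) :=
  toMatrix'_convOp a i j

theorem regMat_injective : Function.Injective (regMat (G := G)) := fun a b h => fn_ext fun g => by
  have := congrFun (congrFun h g) 1
  rwa [regMat_apply, regMat_apply, inv_one, mul_one] at this

theorem integral_aeval {x : MonoidAlgebra ℂ G} (hx : Integral M x) (w : (place M)[X]) :
    Integral M (aeval x (w.map (place M).subtype)) := by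
  induction w using Polynomial.induction_on with
  | C a =>
    rw [map_C, aeval_C, Algebra.algebraMap_eq_smul_one]
    exact integral_one.smul a.2
  | add a b ha hb => rw [Polynomial.map_add, map_add]; exact ha.add hb
  | monomial n a ih =>
    rw [pow_succ, ← mul_assoc, Polynomial.map_mul, map_mul, map_X, aeval_X]
    exact ih.mul hx

theorem red_aeval {x : MonoidAlgebra ℂ G} (hx : Integral M x) (w : (place M)[X]) :
    red M (aeval x (w.map (place M).subtype)) = aeval (red M x) (w.map (IsLocalRing.residue (place M))) := by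
  induction w using Polynomial.induction_on with
  | C a =>
    rw [map_C, map_C, aeval_C, aeval_C, Algebra.algebraMap_eq_smul_one, Algebra.algebraMap_eq_smul_one,
      ValuationSubring.subtype_apply, red_smul integral_one a.2, red_one]
    exact congrArg (· • _) (res_coe a)
  | add a b ha hb =>
    rw [Polynomial.map_add, Polynomial.map_add, map_add, map_add,
      red_add (integral_aeval hx a) (integral_aeval hx b), ha, hb]
  | monomial n a ih =>
    rw [pow_succ, ← mul_assoc, Polynomial.map_mul, Polynomial.map_mul (IsLocalRing.residue (place M)),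
      map_mul, map_mul, map_X, map_X, aeval_X, aeval_X,
      red_mul (integral_aeval hx _) hx, ih]

theorem aeval_map_commute {x d : MonoidAlgebra ℂ G} (h : Commute d x) (w : ℂ[X]) :
    Commute d (aeval x w) := by
  induction w using Polynomial.induction_on with
  | C a => rw [aeval_C]; exact (Algebra.commute_algebraMap_right a d)
  | add a b ha hb => rw [map_add]; exact ha.add_right hb
  | monomial n a ih =>
    rw [pow_succ, ← mul_assoc, map_mul, aeval_X]
    exact ih.mul_right h

/-- **Lifting idempotents.** -/
theorem exists_lift_idem {x : MonoidAlgebra ℂ G} (hx : Integral M x)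
    (hidem : red M x * red M x = red M x) :
    ∃ F : MonoidAlgebra ℂ G, Integral M F ∧ F * F = F ∧ red M F = red M x ∧
      ∀ d, Commute d x → Commute d F := by
  classical
  set O := place M
  set L : Matrix G G O := fun i j => ⟨fn x (i * j⁻¹), hx _⟩
  have hL : L.map O.subtype = regMat x := by ext i j; rw [regMat_apply]; rfl
  set μ := L.charpoly
  have hμm : μ.Monic := L.charpoly_monic
  have hμC : μ.map O.subtype = (regMat x).charpoly := by rw [← hL, Matrix.charpoly_map]
  have hμm' : (μ.map O.subtype).Monic := hμm.map _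
  have hroot : ∀ z ∈ (μ.map O.subtype).roots, z ∈ O := fun z hz => by
    have h0 : Polynomial.eval₂ O.subtype z μ = 0 := by
      rw [← Polynomial.eval_map]
      exact (Polynomial.mem_roots hμm'.ne_zero).1 hz
    obtain ⟨w, rfl⟩ := IsIntegrallyClosed.isIntegral_iff.1 (⟨μ, hμm, h0⟩ : IsIntegral O z)
    exact w.2
  set s : Multiset O := (μ.map O.subtype).roots.attach.map fun z => ⟨z.1, hroot z.1 z.2⟩
  have hμprod : μ = (s.map fun a => X - C a).prod := by
    refine Polynomial.map_injective O.subtype Subtype.val_injective ?_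
    rw [Polynomial.map_multiset_prod, Multiset.map_map, Multiset.map_map]
    conv_lhs => rw [(IsAlgClosed.splits _).eq_prod_roots_of_monic hμm']
    conv_lhs => rw [← Multiset.attach_map_val (μ.map O.subtype).roots, Multiset.map_map]
    simp [Function.comp_def]
  set P0 : O → Prop := fun a => IsLocalRing.residue O a = 0
  set μ0 := ((s.filter P0).map fun a => X - C a).prod with hμ0
  set μ1 := ((s.filter fun a => ¬ P0 a).map fun a => X - C a).prod with hμ1
  have hμ01 : μ = μ0 * μ1 := by
    rw [hμprod, hμ0, hμ1, ← Multiset.prod_add, ← Multiset.map_add, Multiset.filter_add_not]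
  have hcop : IsCoprime μ0 μ1 := isCoprime_prod_X_sub_C _ _ fun a ha b hb => by
    rw [← IsLocalRing.residue_ne_zero_iff_isUnit, map_sub, (Multiset.mem_filter.1 ha).2, zero_sub,
      neg_ne_zero]
    exact (Multiset.mem_filter.1 hb).2
  obtain ⟨u, v, huv⟩ := hcop
  have hcay : aeval x (μ.map O.subtype) = 0 := regMat_injective <| by
    rw [← Polynomial.aeval_algHom_apply, map_zero, hμC]
    exact Matrix.aeval_self_charpoly _
  set F := aeval x ((u * μ0).map O.subtype) with hF
  refine ⟨F, integral_aeval hx _, ?_, ?_, fun d hd => aeval_map_commute hd _⟩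
  · have hd : u * μ0 * (u * μ0) = u * μ0 - u * v * μ := by
      rw [hμ01]; linear_combination (u * μ0) * huv
    rw [hF, ← map_mul, ← Polynomial.map_mul, hd, Polynomial.map_sub, map_sub,
      Polynomial.map_mul (p := u * v), map_mul, hcay, mul_zero, sub_zero]
  · rw [hF, red_aeval hx]
    set res0 := IsLocalRing.residue O
    set f := red M x
    set W := fun (q : O[X]) (e : Res M) => (q.map res0).eval e
    have hμf : aeval f (μ.map res0) = 0 := by
      rw [← red_aeval hx, hcay, red_zero]
    rw [aeval_idem hidem, hμ01, Polynomial.map_mul, eval_mul, eval_mul] at hμf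
    have h1 : (μ1.map res0).eval 0 ≠ 0 := by
      rw [hμ1, Polynomial.map_multiset_prod, Polynomial.eval_multiset_prod, Multiset.map_map,
        Multiset.map_map]
      refine Multiset.prod_ne_zero fun h => ?_
      obtain ⟨a, ha, h0⟩ := Multiset.mem_map.1 h
      simp only [Function.comp_apply, Polynomial.map_sub, map_X, map_C, eval_sub, eval_X, eval_C,
        zero_sub, neg_eq_zero] at h0
      exact (Multiset.mem_filter.1 ha).2 h0
    have h0 : (μ0.map res0).eval 1 ≠ 0 := by
      rw [hμ0, Polynomial.map_multiset_prod, Polynomial.eval_multiset_prod, Multiset.map_map,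
        Multiset.map_map]
      refine Multiset.prod_ne_zero fun h => ?_
      obtain ⟨a, ha, h0⟩ := Multiset.mem_map.1 h
      simp only [Function.comp_apply, Polynomial.map_sub, map_X, map_C, eval_sub, eval_X, eval_C,
        (show res0 a = 0 from (Multiset.mem_filter.1 ha).2), sub_zero] at h0
      exact one_ne_zero h0
    have e0 : (μ0.map res0).eval 0 • (1 - f) = 0 := by
      have := congrArg (fun z => (1 - f) * z) hμf
      simp only [mul_add, mul_smul_comm, mul_zero, sub_mul, one_mul, mul_sub, mul_one, hidem, sub_self,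
        smul_zero, add_zero, sub_zero] at this
      rw [mul_comm, ← smul_smul] at this
      exact (smul_eq_zero.1 this).resolve_left h1
    have e1 : (μ1.map res0).eval 1 • f = 0 := by
      have := congrArg (fun z => f * z) hμf
      simp only [mul_add, mul_smul_comm, mul_zero, mul_sub, mul_one, hidem, sub_self, smul_zero,
        zero_add] at this
      rw [← smul_smul] at this
      exact (smul_eq_zero.1 this).resolve_left h0
    have huv' : ∀ e, (u.map res0).eval e * (μ0.map res0).eval e +
        (v.map res0).eval e * (μ1.map res0).eval e = 1 := fun e => by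
      have := congrArg (fun q => (Polynomial.map res0 q).eval e) huv
      simpa using this
    rw [aeval_idem hidem, Polynomial.map_mul, eval_mul, eval_mul, ← smul_smul, e0, smul_zero, zero_add,
      eq_sub_of_add_eq (huv' 1), sub_smul, one_smul, ← smul_smul, e1, smul_zero, sub_zero]

/-- A lift with the same fixed elements. -/
theorem exists_lift_fixed {f : MonoidAlgebra (Res M) G} (hf : f * f = f) :
    ∃ F : MonoidAlgebra ℂ G, Integral M F ∧ F * F = F ∧ red M F = f ∧
      ∀ h, Commute (sE h) f → Commute (sE h) F := by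
  set σ := Function.surjInv (IsLocalRing.residue_surjective (R := place M))
  set x : MonoidAlgebra ℂ G := ofFn fun g => ((σ (fn f g) : place M) : ℂ)
  have hxi : Integral M x := fun g => by rw [fn_ofFn]; exact (σ (fn f g)).2
  have hred : red M x = f := fn_ext fun g => by
    rw [fn_red, fn_ofFn, res_coe]; exact Function.surjInv_eq _ _
  obtain ⟨F, h1, h2, h3, h4⟩ := exists_lift_idem hxi (by rw [hred, hf])
  refine ⟨F, h1, h2, h3.trans hred, fun h hh => h4 _ ((commute_sE_iff h x).2 fun g => ?_)⟩
  rw [fn_ofFn, show fn f (h * g * h⁻¹) = fn f g from (commute_sE_iff h f).1 hh g]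

/-- Units congruent to one are inverted integrally. -/
theorem exists_inv_of_red_one {w : MonoidAlgebra ℂ G} (hw : Integral M w) (h : red M w = 1) :
    ∃ z : MonoidAlgebra ℂ G, Integral M z ∧ w * z = 1 ∧ z * w = 1 ∧ red M z = 1 ∧
      ∀ d, Commute d w → Commute d z := by
  classical
  obtain ⟨V, hV, hVU, hUV⟩ := exists_integral_inverse (convOp w) (integralEnd_convOp hw) fun i j => by
    rw [map_sub, LinearMap.toMatrix'_one, Matrix.sub_apply, toMatrix'_convOp, Matrix.one_apply]
    have h1 := congrArg (fun a => fn a (i * j⁻¹)) h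
    simp only [fn_red, fn_one] at h1
    by_cases hij : i = j
    · rw [if_pos hij]
      rw [if_pos (show (1 : G) = i * j⁻¹ by rw [hij, mul_inv_cancel])] at h1
      exact (res_eq_iff (hw _) (one_mem _)).1 (h1.trans res_one.symm)
    · rw [if_neg hij, sub_zero]
      rw [if_neg (fun h' : (1 : G) = i * j⁻¹ => hij (mul_inv_eq_one.1 h'.symm))] at h1
      exact (res_eq_zero_iff (hw _)).1 h1
  set z : MonoidAlgebra ℂ G := ofFn (V (fn (1 : MonoidAlgebra ℂ G))) with hz
  have hzi : Integral M z := fun g => by rw [hz, fn_ofFn]; exact hV _ (fun i => integral_one i) g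
  have hconv : ∀ (a b : MonoidAlgebra ℂ G), convOp a (fn b) = fn (a * b) := fun a b => by
    funext g; rw [convOp_apply, fn_mul']
  have hwz : w * z = 1 := fn_ext fun g => by
    rw [← hconv, hz, fn_ofFn, ← Module.End.mul_apply, hUV, Module.End.one_apply]
  have hzw : z * w = 1 := by
    have hV' : V = convOp z := by
      calc V = V * (convOp w * convOp z) := by rw [← convOp_mul, hwz, convOp_one, mul_one]
        _ = convOp z := by rw [← mul_assoc, hVU, one_mul]
    refine fn_ext fun g => ?_
    rw [← hconv, ← mul_one w, ← hconv, ← hV', ← Module.End.mul_apply, hVU, Module.End.one_apply]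
  refine ⟨z, hzi, hwz, hzw, ?_, fun d hd => ?_⟩
  · have := congrArg (red M) hwz
    rwa [red_mul hw hzi, h, one_mul, red_one] at this
  · show d * z = z * d
    calc d * z = (z * w) * (d * z) := by rw [hzw, one_mul]
      _ = z * ((w * d) * z) := by simp only [mul_assoc]
      _ = z * ((d * w) * z) := by rw [hd.eq]
      _ = z * d * (w * z) := by simp only [mul_assoc]
      _ = z * d := by rw [hwz, mul_one]

/-- Equivalent idempotents give the same value. -/
theorem chiEval_eq_of_equiv (χ : IrrCharacter G) {r : G}
    {F F' U V : MonoidAlgebra ℂ G} (hF : Integral M F) (hF' : Integral M F') (hU : Integral M U)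
    (hV : Integral M V) (hFF : F * F = F) (hFF' : F' * F' = F') (cF : Commute (sE r) F)
    (cF' : Commute (sE r) F') (cU : Commute (sE r) U) (cV : Commute (sE r) V)
    (h1 : red M F * red M U * red M F' * red M V * red M F = red M F)
    (h2 : red M F' * red M V * red M F * red M U * red M F' = red M F') :
    chiEval (χ : G → ℂ) (sE r * F) = chiEval (χ : G → ℂ) (sE r * F') := by
  set X := F * U * F' * V * F with hX
  have hXi : Integral M X := (((hF.mul hU).mul hF').mul hV).mul hF
  have hFX : F * X = X := by rw [hX]; simp only [← mul_assoc, hFF]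
  have hXF : X * F = X := by rw [hX]; simp only [mul_assoc, hFF]
  set w := 1 - F + X with hw
  have hwi : Integral M w := (integral_one.sub hF).add hXi
  have hXred : red M X = red M F := by
    rw [hX, red_mul (((hF.mul hU).mul hF').mul hV) hF, red_mul ((hF.mul hU).mul hF') hV,
      red_mul (hF.mul hU) hF', red_mul hF hU]
    exact h1
  have hwred : red M w = 1 := by
    rw [hw, red_add (integral_one.sub hF) hXi, red_sub integral_one hF, hXred, red_one, sub_add_cancel]
  obtain ⟨z, hzi, hwz, hzw, hzred, hzc⟩ := exists_inv_of_red_one hwi hwred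
  have hFw : F * w = X := by rw [hw, mul_add, mul_sub, mul_one, hFF, sub_self, zero_add, hFX]
  have hXz : X * z = F := by rw [← hFw, mul_assoc, hwz, mul_one]
  set T := F * U * F' with hT
  set S := F' * V * F * z with hS
  have hTS : T * S = F := by
    calc T * S = F * U * (F' * F') * V * F * z := by rw [hT, hS]; simp only [mul_assoc]
      _ = X * z := by rw [hFF', hX]
      _ = F := hXz
  set H := S * T with hH
  have hFT : F * T = T := by rw [hT]; simp only [← mul_assoc, hFF]
  have hHH : H * H = H := by
    calc H * H = S * (T * S) * T := by rw [hH]; simp only [mul_assoc]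
      _ = H := by rw [hTS, mul_assoc, hFT]
  have hF'H : F' * H = H := by rw [hH, hS]; simp only [← mul_assoc, hFF']
  have hHF' : H * F' = H := by rw [hH, hT]; simp only [mul_assoc, hFF']
  have hSi : Integral M S := ((hF'.mul hV).mul hF).mul hzi
  have hTi : Integral M T := (hF.mul hU).mul hF'
  have hHred : red M H = red M F' := by
    rw [hH, red_mul hSi hTi, hS, hT, red_mul ((hF'.mul hV).mul hF) hzi, hzred, mul_one,
      red_mul (hF'.mul hV) hF, red_mul hF' hV, red_mul (hF.mul hU) hF', red_mul hF hU]
    have hf : red M F * red M F = red M F := by rw [← red_mul hF hF, hFF]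
    calc red M F' * red M V * red M F * (red M F * red M U * red M F')
        = red M F' * red M V * (red M F * red M F) * red M U * red M F' := by simp only [mul_assoc]
      _ = _ := by rw [hf]; exact h2
  have hHeq : H = F' := eq_of_red_eq_of_idem hHH hFF' (hHF'.trans hF'H.symm) (hSi.mul hTi) hF' hHred
  have cw : Commute (sE r) w := ((Commute.one_right _).sub_right cF).add_right
    ((((cF.mul_right cU).mul_right cF').mul_right cV).mul_right cF)
  have cS : Commute (sE r) S := (((cF'.mul_right cV).mul_right cF).mul_right (hzc _ cw))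
  calc chiEval (χ : G → ℂ) (sE r * F) = chiEval (χ : G → ℂ) (sE r * T * S) := by rw [mul_assoc, hTS]
    _ = chiEval (χ : G → ℂ) (S * (sE r * T)) := chiEval_mul_comm (isClassFunction_irr χ) _ _
    _ = chiEval (χ : G → ℂ) (sE r * F') := by rw [← mul_assoc, ← cS.eq, mul_assoc, ← hH, hHeq]

/-- The value of `χ` at `r` times a lift of an idempotent fixed by `r`. -/
noncomputable def th (M : Ideal AlgInt) (χ : IrrCharacter G) (r : G) (f : MonoidAlgebra (Res M) G) : ℂ :=
  if h : ∃ F : MonoidAlgebra ℂ G, Integral M F ∧ F * F = F ∧ red M F = f ∧ Commute (sE r) F then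
    chiEval (χ : G → ℂ) (sE r * h.choose) else 0

theorem th_eq (χ : IrrCharacter G) {r : G} {F : MonoidAlgebra ℂ G} (hi : Integral M F)
    (hFF : F * F = F) (hc : Commute (sE r) F) :
    th M χ r (red M F) = chiEval (χ : G → ℂ) (sE r * F) := by
  have h : ∃ F' : MonoidAlgebra ℂ G, Integral M F' ∧ F' * F' = F' ∧ red M F' = red M F ∧
      Commute (sE r) F' := ⟨F, hi, hFF, rfl, hc⟩
  rw [th, dif_pos h]
  obtain ⟨h1, h2, h3, h4⟩ := h.choose_spec
  have hf : red M F * red M F = red M F := by rw [← red_mul hi hi, hFF]
  refine chiEval_eq_of_equiv χ h1 hi integral_one integral_one h2 hFF h4 hc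
    (Commute.one_right _) (Commute.one_right _) ?_ ?_ <;>
    simp only [red_one, mul_one, h3, hf]

theorem exists_lift_r {r : G} {f : MonoidAlgebra (Res M) G} (hf : f * f = f) (hc : Commute (sE r) f) :
    ∃ F : MonoidAlgebra ℂ G, Integral M F ∧ F * F = F ∧ red M F = f ∧ Commute (sE r) F := by
  obtain ⟨F, h1, h2, h3, h4⟩ := exists_lift_fixed hf
  exact ⟨F, h1, h2, h3, h4 _ hc⟩

/-- `th` is invariant under equivalence. -/
theorem th_equiv (χ : IrrCharacter G) {r : G} {f f' u v : MonoidAlgebra (Res M) G} (hf : f * f = f)
    (hf' : f' * f' = f') (cf : Commute (sE r) f) (cf' : Commute (sE r) f') (cu : Commute (sE r) u)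
    (cv : Commute (sE r) v) (huv : u * v = f) (hvu : v * u = f') :
    th M χ r f = th M χ r f' := by
  obtain ⟨F, h1, h2, rfl, h4⟩ := exists_lift_r hf cf
  obtain ⟨F', k1, k2, rfl, k4⟩ := exists_lift_r hf' cf'
  set σ := Function.surjInv (IsLocalRing.residue_surjective (R := place M))
  have key : ∀ a : MonoidAlgebra (Res M) G, Commute (sE r) a →
      ∃ A : MonoidAlgebra ℂ G, Integral M A ∧ red M A = a ∧ Commute (sE r) A := fun a ha =>
    ⟨ofFn fun g => ((σ (fn a g) : place M) : ℂ), fun g => by rw [fn_ofFn]; exact (σ (fn a g)).2,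
      fn_ext fun g => by rw [fn_red, fn_ofFn, res_coe]; exact Function.surjInv_eq _ _,
      (commute_sE_iff r _).2 fun g => by
        rw [fn_ofFn, show fn a (r * g * r⁻¹) = fn a g from (commute_sE_iff r a).1 ha g]⟩
  obtain ⟨U, hU, rfl, cU⟩ := key u cu
  obtain ⟨V, hV, rfl, cV⟩ := key v cv
  rw [th_eq χ h1 h2 h4, th_eq χ k1 k2 k4]
  refine chiEval_eq_of_equiv χ h1 k1 hU hV h2 k2 h4 k4 cU cV ?_ ?_
  · calc red M F * red M U * red M F' * red M V * red M F
        = red M F * (red M U * red M V) * (red M U * red M V) * red M F := by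
          rw [← hvu]; simp only [mul_assoc]
      _ = _ := by rw [huv, hf, hf, hf]
  · calc red M F' * red M V * red M F * red M U * red M F'
        = red M F' * (red M V * red M U) * (red M V * red M U) * red M F' := by
          rw [← huv]; simp only [mul_assoc]
      _ = _ := by rw [hvu, hf', hf', hf']

theorem th_add (χ : IrrCharacter G) {r : G} {f f' : MonoidAlgebra (Res M) G} (hf : f * f = f)
    (hf' : f' * f' = f') (h : f * f' = 0) (h' : f' * f = 0) (cf : Commute (sE r) f)
    (cf' : Commute (sE r) f') : th M χ r (f + f') = th M χ r f + th M χ r f' := by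
  obtain ⟨F, h1, h2, h3, h4⟩ := exists_lift_r (r := r)
    (show (f + f') * (f + f') = f + f' by rw [add_mul, mul_add, mul_add, hf, hf', h, h']; abel) (cf.add_right cf')
  obtain ⟨A, a1, a2, a3, a4⟩ := exists_lift_r hf cf
  set x := F * A * F with hx
  have hxi : Integral M x := (h1.mul a1).mul h1
  have hxred : red M x = f := by
    rw [hx, red_mul (h1.mul a1) h1, red_mul h1 a1, h3, a3, add_mul, hf, h', add_zero, mul_add, hf, h,
      add_zero]
  obtain ⟨F₁, b1, b2, b3, b4⟩ := exists_lift_idem hxi (by rw [hxred, hf])
  have cFx : Commute F x := by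
    show F * x = x * F
    rw [hx]; simp only [← mul_assoc, h2]; simp only [mul_assoc, h2]
  have cFF₁ : Commute F F₁ := b4 _ cFx
  have crF₁ : Commute (sE r) F₁ := b4 _ ((h4.mul_right a4).mul_right h4)
  set P := F₁ * F with hP
  have hPP : P * P = P := by
    rw [hP, mul_assoc, ← mul_assoc F, cFF₁.eq, mul_assoc, ← mul_assoc F₁, b2, h2]
  have hPi : Integral M P := b1.mul h1
  have hPred : red M P = f := by rw [hP, red_mul b1 h1, b3, hxred, h3, mul_add, hf, h, add_zero]
  have hFP : F * P = P := by rw [hP, ← mul_assoc, cFF₁.eq, mul_assoc, h2]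
  have hPF : P * F = P := by rw [hP, mul_assoc, h2]
  have crP : Commute (sE r) P := crF₁.mul_right h4
  have hQ : (F - P) * (F - P) = F - P := by
    rw [sub_mul, mul_sub, mul_sub, h2, hFP, hPF, hPP]; abel
  have hQred : red M (F - P) = f' := by rw [red_sub h1 hPi, h3, hPred, add_sub_cancel_left]
  rw [← h3, th_eq χ h1 h2 h4, ← hPred, th_eq χ hPi hPP crP, ← hQred,
    th_eq χ (h1.sub hPi) hQ (h4.sub_right crP), mul_sub, chiEval_sub]
  ring

theorem th_zero (χ : IrrCharacter G) (r : G) : th M χ r 0 = 0 := by
  rw [← red_zero (M := M), th_eq χ integral_zero (mul_zero _) (Commute.zero_right _), mul_zero]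
  simp [chiEval]

theorem th_cj (χ : IrrCharacter G) (t : G) {r : G} {f : MonoidAlgebra (Res M) G} (hf : f * f = f)
    (hc : Commute (sE r) f) : th M χ (t * r * t⁻¹) (cj t f) = th M χ r f := by
  obtain ⟨F, h1, h2, rfl, h4⟩ := exists_lift_r hf hc
  have hcr : cj t (red M F) = red M (cj t F) := fn_ext fun g => by simp
  have hcs : cj t (sE r : MonoidAlgebra ℂ G) = sE (t * r * t⁻¹) := cj_single t r 1
  have hcomm : Commute (sE (t * r * t⁻¹)) (cj t F) := by
    show _ * _ = _ * _
    rw [← hcs, ← cj_mul, ← cj_mul, h4.eq]
  rw [hcr, th_eq χ (fun g => by rw [fn_cj]; exact h1 _) (by rw [← cj_mul, h2]) hcomm,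
    th_eq χ h1 h2 h4, ← hcs, ← cj_mul, chiEval_cj (isClassFunction_irr χ)]

/-- **Vanishing**: `th` kills idempotents killed by the Brauer map at `r`. -/
theorem th_eq_zero (hM : IsPModular p M) (χ : IrrCharacter G) {r : G} (hr : ∃ k : ℕ, orderOf r = p ^ k)
    {f : MonoidAlgebra (Res M) G} (hf : f * f = f) (hc : Commute (sE r) f)
    (hbr : br (Subgroup.zpowers r) f = 0) : th M χ r f = 0 := by
  classical
  obtain ⟨F, h1, h2, rfl, h4⟩ := exists_lift_r hf hc
  rw [th_eq χ h1 h2 h4]
  have hconj : conjElem r F = F := fn_ext fun g => by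
    simp only [conjElem, fn_ofFn]
    have := (commute_sE_iff r F).1 h4 (r⁻¹ * g * r)
    rw [show r * (r⁻¹ * g * r) * r⁻¹ = g by group] at this
    exact this.symm
  have hpart : IsPPart p r r :=
    ⟨1, mul_one r, Commute.one_right r, hr, by rw [orderOf_one]; exact hM.1.not_dvd_one⟩
  have hsmall : ∀ c : G, Commute r c → Small M (fn F c) := fun c hcc => by
    have hmem : c ∈ Subgroup.centralizer (Subgroup.zpowers r : Set G) := by
      rw [centralizer_zpowers, Subgroup.mem_centralizer_singleton_iff]
      exact hcc.eq.symm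
    have h0 := congrArg (fun a => fn a c) hbr
    simp only [br, fn_trunc_mem _ hmem, fn_red, fn_zero] at h0
    exact (res_eq_zero_iff (h1 c)).1 h0
  have hzero : ∀ h : G, ∑ a : G, fn F (r⁻¹ * a * h * a⁻¹) = 0 := fun h => by
    rw [← trace_transOp_mul_convOp]
    exact trace_transOp_convOp_eq_zero hM h1 h2 hconj hpart hsmall h
  have key : (Nat.card G : ℂ) * chiEval (χ : G → ℂ) (sE r * F) = 0 := by
    calc (Nat.card G : ℂ) * chiEval (χ : G → ℂ) (sE r * F)
        = ∑ _a : G, ∑ g : G, fn F (r⁻¹ * g) * (χ : G → ℂ) g := by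
          rw [Finset.sum_const, Finset.card_univ, nsmul_eq_mul, Nat.card_eq_fintype_card]
          simp [chiEval, fn_single_mul]
      _ = ∑ a : G, ∑ h : G, fn F (r⁻¹ * a * h * a⁻¹) * (χ : G → ℂ) h := by
          refine Finset.sum_congr rfl fun a _ => ?_
          refine (Fintype.sum_equiv (MulAut.conj a).toEquiv _ _ fun h => ?_).symm
          simp only [MulEquiv.toEquiv_eq_coe, MulEquiv.coe_toEquiv, MulAut.conj_apply]
          rw [isClassFunction_irr χ]
          simp only [mul_assoc]
      _ = 0 := by
          rw [Finset.sum_comm]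
          refine Finset.sum_eq_zero fun h _ => ?_
          rw [← Finset.sum_mul, hzero, zero_mul]
  exact (mul_eq_zero.1 key).resolve_left (Nat.cast_ne_zero.2 Nat.card_pos.ne')

/-- Translating by a lift of an idempotent fixed by a subgroup gives a character. -/
theorem isCharacter_th (χ : IrrCharacter G) (R : Subgroup G) {f : MonoidAlgebra (Res M) G}
    (hf : f * f = f) (hinv : InvOn R f) : IsCharacter R (fun r : R => th M χ (r : G) f) := by
  classical
  obtain ⟨F, h1, h2, rfl, h4⟩ := exists_lift_fixed hf
  obtain ⟨n, ρ, -, hρ⟩ := χ.2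
  set E := ρ.asAlgebraHom
  set W := LinearMap.range (E F)
  have hc : ∀ r : R, Commute (sE (r : G)) F := fun r => h4 _ ((invOn_iff_commute R _).1 hinv r r.2)
  have hsingle : ∀ g : G, E (sE g) = ρ g := fun g => by
    rw [show E (sE g) = ρ.asAlgebraHom (MonoidAlgebra.single g 1) from rfl,
      Representation.asAlgebraHom_single, one_smul]
  have hmaps : ∀ r : R, ∀ w ∈ W, ρ (r : G) w ∈ W := by
    rintro r _ ⟨y, rfl⟩
    refine ⟨ρ (r : G) y, ?_⟩
    rw [← Module.End.mul_apply, ← Module.End.mul_apply, ← hsingle, ← map_mul, ← map_mul, (hc r).eq]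
  let τ : Representation ℂ R W :=
    { toFun := fun r => (ρ (r : G)).restrict (hmaps r)
      map_one' := LinearMap.ext fun w => Subtype.ext (by simp)
      map_mul' := fun a b => LinearMap.ext fun w => Subtype.ext (by simp) }
  have htrace : ∀ a : MonoidAlgebra ℂ G, LinearMap.trace ℂ _ (E a) = chiEval (χ : G → ℂ) a := fun a => by
    conv_lhs => rw [eq_sum_single a]
    rw [map_sum, map_sum]
    refine Finset.sum_congr rfl fun g _ => ?_
    rw [show E (MonoidAlgebra.single g (fn a g)) = fn a g • ρ g from Representation.asAlgebraHom_single ρ g _,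
      map_smul, smul_eq_mul, ← hρ]
    rfl
  have hid : ∀ w ∈ W, E F w = w := by
    rintro _ ⟨y, rfl⟩
    rw [← Module.End.mul_apply, ← map_mul, h2]
  convert! isCharacter_character τ using 1
  funext r
  rw [th_eq χ h1 h2 (hc r), ← htrace, map_mul, hsingle]
  have hr : ∀ v, (ρ (r : G) * E F) v ∈ W := fun v => hmaps r _ ⟨v, rfl⟩
  rw [← LinearMap.trace_restrict_eq_of_forall_mem (p := W) _ hr]
  show _ = LinearMap.trace ℂ W (τ r)
  congr 1
  refine LinearMap.ext fun w => Subtype.ext ?_
  show ρ (r : G) (E F w) = ρ (r : G) w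
  rw [hid w w.2]

end Cfsg.Lib.Blocks.Star
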