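import Mathlib

/-!
# Idempotents of finite-dimensional algebras

Fitting idempotents, their images under homomorphisms, and equivalence of idempotents with the same
image under a homomorphism.
-/

set_option autoImplicit false
set_option linter.unusedSectionVars false

namespace Cfsg.Lib.Blocks.Star

open Polynomial

variable {k : Type*} [Field k] {A : Type*} [Ring A] [Algebra k A] [FiniteDimensional k A]

/-- Equivalent idempotents: `u * v = e` and `v * u = f`. -/
def Equiv' (e f : A) : Prop := ∃ u v : A, u * v = e ∧ v * u = f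

theorem Equiv'.symm {e f : A} (h : Equiv' e f) : Equiv' f e := by
  obtain ⟨u, v, h1, h2⟩ := h
  exact ⟨v, u, h2, h1⟩

theorem exists_pow_eq_pow_succ_mul (a : A) :
    ∃ n : ℕ, 0 < n ∧ ∃ y ∈ Algebra.adjoin k {a}, a ^ n = a ^ (n + 1) * y := by
  have hint : IsIntegral k a := Algebra.IsIntegral.isIntegral a
  have hne := minpoly.ne_zero hint
  obtain ⟨q, hq, hdvd⟩ := Polynomial.exists_eq_pow_rootMultiplicity_mul_and_not_dvd (minpoly k a) hne 0
  rw [map_zero, sub_zero] at hq hdvd
  set m := (minpoly k a).rootMultiplicity 0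
  have hc : q.coeff 0 ≠ 0 := fun h => hdvd (Polynomial.X_dvd_iff.2 h)
  have h0 : a ^ m * aeval a q = 0 := by
    have h := minpoly.aeval k a
    rwa [hq, map_mul, map_pow, aeval_X] at h
  have hq' : aeval a q = algebraMap k A (q.coeff 0) + a * aeval a q.divX := by
    conv_lhs => rw [← Polynomial.X_mul_divX_add q]
    rw [map_add, map_mul, aeval_X, aeval_C, add_comm]
  rw [hq'] at h0
  refine ⟨m + 1, Nat.succ_pos _, -(q.coeff 0)⁻¹ • aeval a q.divX,
    Subalgebra.smul_mem _ (aeval_mem_adjoin_singleton k a) _, ?_⟩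
  have h1 : a ^ m * (q.coeff 0 • (1 : A) + a * aeval a q.divX) = 0 := by
    rwa [← Algebra.algebraMap_eq_smul_one]
  rw [mul_add, mul_smul_comm, mul_one, ← mul_assoc, ← pow_succ] at h1
  have h2 : a ^ m = -(q.coeff 0)⁻¹ • (a ^ (m + 1) * aeval a q.divX) := by
    rw [eq_neg_of_add_eq_zero_right h1, smul_neg, neg_smul, neg_neg, smul_smul, inv_mul_cancel₀ hc,
      one_smul]
  calc a ^ (m + 1) = a * a ^ m := pow_succ' a m
    _ = _ := by rw [h2, mul_smul_comm, mul_smul_comm, ← mul_assoc, ← pow_succ' a (m + 1)]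

/-- **Fitting idempotents.** -/
theorem exists_fitting (a : A) :
    ∃ g z : A, z ∈ Algebra.adjoin k {a} ∧ g = a * z ∧ g = z * a ∧ g * g = g ∧
      (∀ {B : Type*} [Ring B] [Algebra k B] (π : A →ₐ[k] B), π a * π a = π a → π g = π a) ∧
      (∃ n : ℕ, 0 < n ∧ a ^ n = g * a ^ n) := by
  obtain ⟨n, hn, y, hy, hay⟩ := exists_pow_eq_pow_succ_mul (k := k) a
  obtain ⟨n, rfl⟩ : ∃ j, n = j + 1 := ⟨n - 1, by omega⟩
  have hcy : Commute a y := Algebra.commute_of_mem_adjoin_self hy
  set g := a ^ (n + 1) * y ^ (n + 1) with hg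
  have hiter : ∀ j : ℕ, a ^ (n + 1) = a ^ (n + 1 + j) * y ^ j := by
    intro j
    induction j with
    | zero => simp
    | succ j ih =>
      calc a ^ (n + 1) = a ^ (n + 1 + j) * y ^ j := ih
        _ = a ^ j * a ^ (n + 1) * y ^ j := by rw [← pow_add, Nat.add_comm]
        _ = a ^ j * (a ^ (n + 1 + 1) * y) * y ^ j := by rw [← hay]
        _ = a ^ j * a ^ (n + 1 + 1) * (y * y ^ j) := by simp only [mul_assoc]
        _ = _ := by rw [← pow_add, ← pow_succ' y j, show j + (n + 1 + 1) = n + 1 + (j + 1) by omega]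
  have hkey : g * a ^ (n + 1) = a ^ (n + 1) := by
    rw [hg, mul_assoc, ((hcy.symm).pow_pow _ _).eq, ← mul_assoc, ← pow_add, ← hiter]
  refine ⟨g, a ^ n * y ^ (n + 1), mul_mem (pow_mem (Algebra.self_mem_adjoin_singleton k a) _)
    (pow_mem hy _), by rw [hg, ← mul_assoc, ← pow_succ'], ?_, ?_, fun π hπ => ?_,
    ⟨n + 1, Nat.succ_pos _, hkey.symm⟩⟩
  · rw [hg, mul_assoc, ← (hcy.pow_right (n + 1)).eq, ← mul_assoc, ← pow_succ]
  · calc g * g = g * a ^ (n + 1) * y ^ (n + 1) := by rw [mul_assoc g (a ^ (n + 1)), ← hg]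
      _ = g := by rw [hkey]
  · have hpow : ∀ j : ℕ, π a ^ (j + 1) = π a := fun j => by
      induction j with
      | zero => simp
      | succ j ih => rw [pow_succ, ih, hπ]
    have h1 : π a = π a * π y := by
      have := congrArg π hay
      rwa [map_mul, map_pow, map_pow, hpow, hpow] at this
    have h2 : ∀ j : ℕ, π a * π y ^ j = π a := fun j => by
      induction j with
      | zero => simp
      | succ j ih => rw [pow_succ, ← mul_assoc, ih, ← h1]
    rw [hg, map_mul, map_pow, map_pow, hpow, h2]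

variable {B : Type*} [Ring B] [Algebra k B] (π : A →ₐ[k] B)

/-- An idempotent inside `f` with prescribed image. -/
theorem exists_idem_below {f a : A} (ha : f * a = a) (ha' : a * f = a) (hπ : π a * π a = π a) :
    ∃ g : A, g * g = g ∧ f * g = g ∧ g * f = g ∧ π g = π a ∧ g ∈ Algebra.adjoin k {a} := by
  obtain ⟨g, z, hz, h1, h2, h3, h4, -⟩ := exists_fitting (k := k) a
  refine ⟨g, h3, by rw [h1, ← mul_assoc, ha], by rw [h2, mul_assoc, ha'], h4 π hπ, ?_⟩
  rw [h1]
  exact mul_mem (Algebra.self_mem_adjoin_singleton k a) hz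

/-- Idempotents with the same image contain equivalent idempotents with that image. -/
theorem exists_equiv_below {f f' : A} (hf : f * f = f) (hf' : f' * f' = f') (h : π f = π f') :
    ∃ g g' : A, g * g = g ∧ f * g = g ∧ g * f = g ∧ π g = π f ∧
      g' * g' = g' ∧ f' * g' = g' ∧ g' * f' = g' ∧ π g' = π f ∧ Equiv' g g' := by
  have hπe : π f * π f = π f := by rw [← map_mul, hf]
  set a := f * f' * f with ha
  have haf : f * a = a := by rw [ha, ← mul_assoc, ← mul_assoc, hf]
  have haf' : a * f = a := by rw [ha, mul_assoc, hf]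
  have hπa : π a = π f := by rw [ha, map_mul, map_mul, ← h, hπe, hπe]
  obtain ⟨g, z, hz, hgz, hgz', hgg, hgπ, -⟩ := exists_fitting (k := k) a
  have hπg : π g = π f := (hgπ π (by rw [hπa, hπe])).trans hπa
  have hgf : g * f = g := by rw [hgz', mul_assoc, haf']
  have hfg : f * g = g := by rw [hgz, ← mul_assoc, haf]
  set u := g * f' with hu
  set v := f' * f * z * g with hv
  have huv : u * v = g := by
    calc u * v = g * (f' * f') * f * z * g := by rw [hu, hv]; simp only [mul_assoc]
      _ = g * (f * f' * f) * z * g := by rw [hf', show g * (f * f' * f) = g * f * f' * f by simp only [mul_assoc], hgf]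
      _ = g * (a * z) * g := by rw [ha]; simp only [mul_assoc]
      _ = g := by rw [← hgz, hgg, hgg]
  have hgu : g * u = u := by rw [hu, ← mul_assoc, hgg]
  refine ⟨g, v * u, hgg, hfg, hgf, hπg, ?_, ?_, ?_, ?_, u, v, huv, rfl⟩
  · rw [show v * u * (v * u) = v * (u * v * u) by simp only [mul_assoc], huv, hgu]
  · rw [hv]; simp only [← mul_assoc, hf']
  · rw [hu]; simp only [mul_assoc, hf']
  · have h5 : π (a * z) = π f := by rw [← hgz, hπg]
    rw [map_mul, hπa] at h5
    rw [hv, hu]
    simp only [map_mul, ← h, hπg]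
    simp only [hπe]
    rw [h5, hπe, hπe]

end Cfsg.Lib.Blocks.Star
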