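import Mathlib
import Cfsg.Agent.Blocks.Brauer
import Cfsg.Agent.Blocks.Star.Idem

/-!
# Additive functions on idempotents and traces of automorphisms of order `p`

An additive, equivalence invariant function of idempotents which is invariant under an
automorphism `σ` with `σ ^ p = 1` takes a value divisible by `p` at every idempotent of the form
`∑ σ ^ l c`.
-/

set_option autoImplicit false
set_option linter.unusedSectionVars false
set_option linter.style.haveILetI false

namespace Cfsg.Lib.Blocks.Star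

open scoped Classical

universe u

variable {k : Type*} [Field k]

theorem exists_semisimple_map (k : Type*) [Field k] [IsAlgClosed k] (B : Type*) [Ring B]
    [Algebra k B] [FiniteDimensional k B] :
    ∃ (n : ℕ) (d : Fin n → ℕ) (π : B →ₐ[k] Π i, Matrix (Fin (d i)) (Fin (d i)) k),
      (∀ i, NeZero (d i)) ∧ Function.Surjective π ∧ ∀ a, π a = 0 → IsNilpotent a := by
  haveI := IsArtinianRing.of_finite k B
  haveI : FiniteDimensional k (B ⧸ Ring.jacobson B) :=
    Module.Finite.of_surjective (Ideal.Quotient.mkₐ k (Ring.jacobson B)).toLinearMap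
      Ideal.Quotient.mk_surjective
  obtain ⟨n, d, hd, ⟨e⟩⟩ :=
    IsSemisimpleRing.exists_algEquiv_pi_matrix_of_isAlgClosed k (B ⧸ Ring.jacobson B)
  refine ⟨n, d, e.toAlgHom.comp (Ideal.Quotient.mkₐ k (Ring.jacobson B)), hd,
    e.surjective.comp Ideal.Quotient.mk_surjective, fun a ha => ?_⟩
  have ha' : a ∈ Ring.jacobson B :=
    Ideal.Quotient.eq_zero_iff_mem.1 (e.injective (ha.trans (map_zero e).symm))
  obtain ⟨m, hm⟩ := (IsSemiprimaryRing.isNilpotent : IsNilpotent (Ring.jacobson B))
  exact ⟨m, (Submodule.mem_bot B).1 (hm.le (Ideal.pow_mem_pow ha' m))⟩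

section

variable {B : Type*} [Ring B] [Algebra k B] [FiniteDimensional k B]
variable {ι : Type*} [Fintype ι] [DecidableEq ι] {d : ι → ℕ}
variable (π : B →ₐ[k] Π i, Matrix (Fin (d i)) (Fin (d i)) k)

/-- The trace of the `i`-th component. -/
noncomputable def blockTr (i : ι) : B →ₗ[k] k :=
  (Matrix.traceLinearMap (Fin (d i)) k k).comp
    ((LinearMap.proj (φ := fun i => Matrix (Fin (d i)) (Fin (d i)) k) i).comp π.toLinearMap)

lemma blockTr_apply (i : ι) (x : B) : blockTr π i x = Matrix.trace (π x i) := rfl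

lemma blockTr_mul_comm (i : ι) (x y : B) : blockTr π i (x * y) = blockTr π i (y * x) := by
  simp only [blockTr_apply, map_mul, Pi.mul_apply]
  exact Matrix.trace_mul_comm _ _

lemma blockTr_equiv (i : ι) {e f : B} (h : Equiv' e f) : blockTr π i e = blockTr π i f := by
  obtain ⟨u, v, rfl, rfl⟩ := h
  exact blockTr_mul_comm π i u v

lemma Equiv'.trans {e f g : B} (he : e * e = e) (hg : g * g = g) (h : Equiv' e f)
    (h' : Equiv' f g) : Equiv' e g := by
  obtain ⟨u, v, h1, h2⟩ := h
  obtain ⟨u', v', h1', h2'⟩ := h'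
  refine ⟨u * u', v' * v, ?_, ?_⟩
  · calc u * u' * (v' * v) = u * (u' * v') * v := by simp only [mul_assoc]
      _ = u * v * (u * v) := by rw [h1', ← h2]; simp only [mul_assoc]
      _ = e := by rw [h1, he]
  · calc v' * v * (u * u') = v' * (v * u) * u' := by simp only [mul_assoc]
      _ = v' * u' * (v' * u') := by rw [h2, ← h1']; simp only [mul_assoc]
      _ = g := by rw [h2', hg]

lemma eq_zero_of_map_eq_zero (hker : ∀ a, π a = 0 → IsNilpotent a) {f : B} (hf : f * f = f)
    (h : π f = 0) : f = 0 := by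
  obtain ⟨m, hm⟩ := hker f h
  have : f ^ (m + 1) = f := IsIdempotentElem.pow_succ_eq m hf
  rw [← this, pow_succ, hm, zero_mul]

/-- The first matrix unit of a component. -/
noncomputable def unit00 (d : ι → ℕ) (hd : ∀ i, 0 < d i) (i : ι) :
    Π j, Matrix (Fin (d j)) (Fin (d j)) k :=
  Pi.single i (Matrix.single ⟨0, hd i⟩ ⟨0, hd i⟩ 1)

variable (hsurj : Function.Surjective π) (hker : ∀ a, π a = 0 → IsNilpotent a)
variable (hd : ∀ i, 0 < d i)

include hsurj hker hd in
/-- Below a nonzero idempotent lies one equivalent to a standard one. -/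
theorem exists_unit_below (e : ι → B) (he : ∀ i, e i * e i = e i)
    (hπe : ∀ i, π (e i) = unit00 d hd i) {f : B} (hf : f * f = f) (hf0 : f ≠ 0) :
    ∃ (i : ι) (g : B), g * g = g ∧ f * g = g ∧ g * f = g ∧ g ≠ 0 ∧ Equiv' g (e i) := by
  obtain ⟨i, hi⟩ : ∃ i, π f i ≠ 0 := by
    by_contra h
    push Not at h
    exact hf0 (eq_zero_of_map_eq_zero π hker hf (funext h))
  set P := π f i with hP
  have hPP : P * P = P := by rw [hP, ← Pi.mul_apply, ← map_mul, hf]
  obtain ⟨r0, s0, hrs⟩ : ∃ a b, P a b ≠ 0 := by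
    by_contra h
    push Not at h
    exact hi (Matrix.ext h)
  -- a column of `P` and a dual row
  set U : Matrix (Fin (d i)) (Fin (d i)) k := P * Matrix.single s0 ⟨0, hd i⟩ 1 with hU
  set V : Matrix (Fin (d i)) (Fin (d i)) k :=
    (P r0 s0)⁻¹ • (Matrix.single ⟨0, hd i⟩ r0 1 * P) with hV
  set E : Matrix (Fin (d i)) (Fin (d i)) k := Matrix.single ⟨0, hd i⟩ ⟨0, hd i⟩ 1 with hE
  have hVU : V * U = E := by
    rw [hV, hU, smul_mul_assoc, mul_assoc, ← mul_assoc P, hPP, ← mul_assoc,
      Matrix.single_mul_mul_single, one_mul, mul_one, hE, Matrix.smul_single, smul_eq_mul,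
      inv_mul_cancel₀ hrs]
  have hUE : U * E = U := by rw [hU, hE, mul_assoc, Matrix.single_mul_single_same, mul_one]
  have hEV : E * V = V := by
    rw [hV, mul_smul_comm, ← mul_assoc, hE, Matrix.single_mul_single_same, mul_one]
  have hPU : P * U = U := by rw [hU, ← mul_assoc, hPP]
  have hVP : V * P = V := by rw [hV, smul_mul_assoc, mul_assoc, hPP]
  obtain ⟨u₀, hu₀⟩ := hsurj (Pi.single i U)
  obtain ⟨v₀, hv₀⟩ := hsurj (Pi.single i V)
  set a := f * (u₀ * v₀) * f with ha
  have hπa : π a = Pi.single i (U * V) := by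
    rw [ha, map_mul, map_mul, map_mul, hu₀, hv₀, ← Pi.single_mul, ← Pi.single_mul_right,
      ← Pi.single_mul_left, ← hP, ← mul_assoc P, hPU, mul_assoc, hVP]
  have hUVUV : U * V * (U * V) = U * V := by
    rw [mul_assoc, ← mul_assoc V, hVU, hEV]
  obtain ⟨g, hgg, hfg, hgf, hπg, -⟩ := exists_idem_below (k := k) π (f := f) (a := a)
    (by rw [ha, ← mul_assoc, ← mul_assoc, hf]) (by rw [ha, mul_assoc, hf])
    (by rw [hπa, ← Pi.single_mul, hUVUV])
  rw [hπa] at hπg
  set u := g * u₀ * e i with hu
  set v := e i * v₀ * g with hv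
  have hπuv : π (u * v) = π g := by
    rw [hu, hv, map_mul, map_mul, map_mul, map_mul, map_mul, hπg, hu₀, hv₀, hπe, unit00, ← hE]
    simp only [← Pi.single_mul]
    congr 1
    have l1 : ∀ x, V * (U * x) = E * x := fun x => by rw [← mul_assoc, hVU]
    have l2 : ∀ x, E * (V * x) = V * x := fun x => by rw [← mul_assoc, hEV]
    have l3 : ∀ x, E * (E * x) = E * x := fun x => by
      rw [← mul_assoc, hE, Matrix.single_mul_single_same, mul_one]
    have l4 : ∀ x, U * (E * x) = U * x := fun x => by rw [← mul_assoc, hUE]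
    simp only [mul_assoc, l1, l2, l3, l4, hEV]
  have hgu : g * u = u := by rw [hu, ← mul_assoc, ← mul_assoc, hgg]
  have hvg : v * g = v := by rw [hv, mul_assoc, hgg]
  obtain ⟨g₁, z, -, h1, h2, hg₁, h4, -⟩ := exists_fitting (k := k) (u * v)
  have hg₁π : π g₁ = π g := (h4 π (by rw [hπuv, ← map_mul, hgg])).trans hπuv
  have hgg₁ : g * g₁ = g₁ := by rw [h1, ← mul_assoc, ← mul_assoc, hgu]
  have hg₁g : g₁ * g = g₁ := by rw [h2, mul_assoc, mul_assoc, hvg]
  have heq : g = g₁ := by
    refine sub_eq_zero.1 (eq_zero_of_map_eq_zero π hker ?_ (by rw [map_sub, hg₁π, sub_self]))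
    rw [sub_mul, mul_sub, mul_sub, hgg, hgg₁, hg₁g, hg₁]; abel
  set v' := v * z * g with hv'
  have huv' : u * v' = g := by rw [hv', ← mul_assoc, ← mul_assoc, ← h1, ← heq, hgg]
  set h := v' * u with hh
  have hhh : h * h = h := by
    calc h * h = v' * (u * v') * u := by rw [hh]; simp only [mul_assoc]
      _ = h := by rw [huv', mul_assoc, hgu]
  have heh : e i * h = h := by
    rw [hh, hv', hv]; simp only [← mul_assoc, he]
  have hhe : h * e i = h := by
    rw [hh, hu]; simp only [mul_assoc, he]
  have hπg0 : π g ≠ 0 := fun h0 => by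
    rw [hπg, Pi.single_eq_zero_iff] at h0
    have h1 : E = 0 := by
      calc E = E * E := by rw [hE, Matrix.single_mul_single_same, mul_one]
        _ = V * (U * V) * U := by rw [← hVU]; simp only [mul_assoc]
        _ = 0 := by rw [h0, mul_zero, zero_mul]
    have h2 := congrFun (congrFun h1 ⟨0, hd i⟩) ⟨0, hd i⟩
    rw [hE, Matrix.single_apply_same, Matrix.zero_apply] at h2
    exact one_ne_zero h2
  have hg0 : g ≠ 0 := fun h0 => hπg0 (by rw [h0, map_zero])
  refine ⟨i, g, hgg, hfg, hgf, hg0, ?_⟩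
  suffices h = e i from ⟨u, v', huv', this⟩
  refine (sub_eq_zero.1 (eq_zero_of_map_eq_zero π hker ?_ ?_)).symm
  · rw [sub_mul, mul_sub, mul_sub, he, heh, hhe, hhh]; abel
  rw [map_sub, sub_eq_zero]
  have hh0 : h ≠ 0 := fun h0 => hg0 <| by
    calc g = u * v' * (u * v') := by rw [huv', hgg]
      _ = u * h * v' := by rw [hh]; simp only [mul_assoc]
      _ = 0 := by rw [h0, mul_zero, zero_mul]
  have hπh : π h = Pi.single i (E * π h i * E) := by
    have : π h = π (e i) * π h * π (e i) := by rw [← map_mul, ← map_mul, heh, hhe]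
    conv_lhs => rw [this, hπe, unit00, ← hE, ← Pi.single_mul_left, ← Pi.single_mul]
  have hEXE : E * π h i * E = π h i ⟨0, hd i⟩ ⟨0, hd i⟩ • E := by
    rw [hE, Matrix.single_mul_mul_single, Matrix.smul_single, smul_eq_mul, one_mul, mul_one]
  rw [hEXE] at hπh
  set t := π h i ⟨0, hd i⟩ ⟨0, hd i⟩ with ht
  have htt : t * t = t := by
    have h1 := congrArg (fun x => x i ⟨0, hd i⟩ ⟨0, hd i⟩) (show π h * π h = π h by rw [← map_mul, hhh])
    simp only [hπh, ← Pi.single_mul, Pi.single_eq_same, smul_mul_smul_comm, hE,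
      Matrix.single_mul_single_same, mul_one, Matrix.smul_apply, Matrix.single_apply_same,
      smul_eq_mul] at h1
    exact h1
  rcases IsIdempotentElem.iff_eq_zero_or_one.1 htt with ht0 | ht1
  · exact absurd (eq_zero_of_map_eq_zero π hker hhh (by rw [hπh, ht0, zero_smul, Pi.single_zero])) hh0
  · rw [hπh, ht1, one_smul, hπe]; rfl

include hsurj hker hd in
/-- An additive function of idempotents is a combination of its values at the standard ones. -/
theorem exists_decomposition (e : ι → B) (he : ∀ i, e i * e i = e i)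
    (hπe : ∀ i, π (e i) = unit00 d hd i) (G : B → ℤ)
    (hadd : ∀ e f, e * e = e → f * f = f → e * f = 0 → f * e = 0 → G (e + f) = G e + G f)
    (hequiv : ∀ e f, e * e = e → f * f = f → Equiv' e f → G e = G f)
    (f : B) (hf : f * f = f) :
    ∃ m : ι → ℕ, G f = ∑ i, (m i : ℤ) * G (e i) ∧ ∀ i, blockTr π i f = (m i : k) := by
  induction hn : Module.finrank k (LinearMap.range (LinearMap.mulLeft k f))
    using Nat.strong_induction_on generalizing f with
  | _ n ih =>
  by_cases hf0 : f = 0
  · refine ⟨0, ?_, fun i => by simp [hf0]⟩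
    have h := hadd 0 0 (mul_zero _) (mul_zero _) (mul_zero _) (mul_zero _)
    rw [add_zero] at h
    simp [hf0]
    omega
  obtain ⟨i, g, hgg, hfg, hgf, hg0, hge⟩ := exists_unit_below π hsurj hker hd e he hπe hf hf0
  have hr : (f - g) * (f - g) = f - g := by rw [sub_mul, mul_sub, mul_sub, hf, hfg, hgf, hgg]; abel
  have hlt : Module.finrank k (LinearMap.range (LinearMap.mulLeft k (f - g))) < n := by
    rw [← hn]
    refine Submodule.finrank_lt_finrank_of_lt (lt_of_le_not_ge ?_ fun h => hg0 ?_)
    · rintro _ ⟨a, rfl⟩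
      exact ⟨(f - g) * a, by simp only [LinearMap.mulLeft_apply, ← mul_assoc, mul_sub, hf, hfg]⟩
    · obtain ⟨a, ha⟩ := h ⟨f, show f * f = f from hf⟩
      simp only [LinearMap.mulLeft_apply] at ha
      calc g = g * f := hgf.symm
        _ = g * ((f - g) * a) := by rw [ha]
        _ = 0 := by rw [← mul_assoc, mul_sub, hgf, hgg, sub_self, zero_mul]
  obtain ⟨m, hG, hm⟩ := ih _ hlt _ hr rfl
  refine ⟨fun j => m j + if j = i then 1 else 0, ?_, fun j => ?_⟩
  · have h := hadd g (f - g) hgg hr (by rw [mul_sub, hgf, hgg, sub_self])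
      (by rw [sub_mul, hfg, hgg, sub_self])
    rw [add_sub_cancel, hG, hequiv g _ hgg (he i) hge] at h
    rw [h]
    simp [add_mul, Finset.sum_add_distrib, add_comm]
  · rw [show f = g + (f - g) by abel, map_add, hm j, blockTr_equiv π j hge, blockTr_apply, hπe,
      unit00, Nat.cast_add, add_comm]
    congr 1
    by_cases hj : j = i
    · subst hj; simp [Matrix.trace_single_eq_same]
    · simp [hj]

end

/-- A trace functional on a product of matrix algebras is a combination of the traces. -/
theorem eq_sum_trace {ι : Type*} [Fintype ι] [DecidableEq ι] {d : ι → ℕ} (hd : ∀ i, 0 < d i)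
    (T : (Π i, Matrix (Fin (d i)) (Fin (d i)) k) →ₗ[k] k) (hT : ∀ x y, T (x * y) = T (y * x))
    (x : Π i, Matrix (Fin (d i)) (Fin (d i)) k) :
    T x = ∑ i, T (unit00 d hd i) * Matrix.trace (x i) := by
  have hs : ∀ i a b, T (Pi.single i (Matrix.single a b (1 : k))) =
      if a = b then T (unit00 d hd i) else 0 := by
    intro i a b
    have : Pi.single i (Matrix.single a b (1 : k)) =
        (Pi.single i (Matrix.single a ⟨0, hd i⟩ (1 : k)) : Π i, Matrix (Fin (d i)) (Fin (d i)) k) *
          Pi.single i (Matrix.single ⟨0, hd i⟩ b (1 : k)) := by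
      rw [← Pi.single_mul, Matrix.single_mul_single_same, mul_one]
    rw [this, hT, ← Pi.single_mul]
    by_cases hab : a = b
    · subst hab; rw [if_pos rfl, Matrix.single_mul_single_same, mul_one, unit00]
    · rw [if_neg hab, Matrix.single_mul_single_of_ne _ _ _ _ (Ne.symm hab), Pi.single_zero, map_zero]
  conv_lhs => rw [← Finset.univ_sum_single x]
  rw [map_sum]
  refine Finset.sum_congr rfl fun i _ => ?_
  have hlin : T (Pi.single i (x i)) =
      (T.comp (LinearMap.single k (fun i => Matrix (Fin (d i)) (Fin (d i)) k) i)) (x i) := rfl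
  rw [hlin, Matrix.matrix_eq_sum_single (x i), map_sum]
  simp only [map_sum]
  have hterm : ∀ a b, (T.comp (LinearMap.single k (fun i => Matrix (Fin (d i)) (Fin (d i)) k) i))
      (Matrix.single a b (x i a b)) = if a = b then x i a b * T (unit00 d hd i) else 0 := by
    intro a b
    rw [show Matrix.single a b (x i a b) = x i a b • Matrix.single a b (1 : k) by
      rw [Matrix.smul_single, smul_eq_mul, mul_one], map_smul, LinearMap.comp_apply,
      LinearMap.coe_single, hs, smul_eq_mul, mul_ite, mul_zero]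
  simp only [hterm, Finset.sum_ite_eq, Finset.mem_univ, if_true]
  rw [← Matrix.matrix_eq_sum_single (x i), Matrix.trace, Finset.mul_sum]
  exact Finset.sum_congr rfl fun a _ => mul_comm _ _

/-- **Divisibility at traces.** -/
theorem dvd_of_sum_auto [IsAlgClosed k] {p : ℕ} [Fact p.Prime] [CharP k p] {B : Type*} [Ring B]
    [Algebra k B] [FiniteDimensional k B] (σ : B ≃ₐ[k] B) (hσ : σ ^ p = 1) (G : B → ℤ)
    (hadd : ∀ e f, e * e = e → f * f = f → e * f = 0 → f * e = 0 → G (e + f) = G e + G f)
    (hequiv : ∀ e f, e * e = e → f * f = f → Equiv' e f → G e = G f)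
    (hGσ : ∀ e, e * e = e → G (σ e) = G e)
    {ε c : B} (hε : ε * ε = ε) (htr : ε = ∑ l ∈ Finset.range p, (σ ^ l) c) : (p : ℤ) ∣ G ε := by
  obtain ⟨n, d, π, hd', hsurj, hker⟩ := exists_semisimple_map k B
  have hd : ∀ i, 0 < d i := fun i => Nat.pos_of_ne_zero (hd' i).ne
  have hlift : ∀ i, ∃ e : B, e * e = e ∧ π e = unit00 d hd i := fun i => by
    obtain ⟨a, ha⟩ := hsurj (unit00 d hd i)
    obtain ⟨g, hgg, -, -, hπg, -⟩ := exists_idem_below (k := k) π (f := (1 : B)) (one_mul a)
      (mul_one a) (by rw [ha, unit00, ← Pi.single_mul, Matrix.single_mul_single_same, mul_one])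
    exact ⟨g, hgg, hπg.trans ha⟩
  choose e he hπe using hlift
  have htre : ∀ i j, blockTr π i (e j) = if i = j then 1 else 0 := fun i j => by
    rw [blockTr_apply, hπe, unit00]
    by_cases h : i = j
    · subst h; simp [Matrix.trace_single_eq_same]
    · simp [h]
  -- the permutation
  have hs : ∀ i, ∃ j, Equiv' (σ (e i)) (e j) := by
    intro i
    have hne : σ (e i) ≠ 0 := fun h => by
      have := htre i i
      rw [σ.injective (h.trans (map_zero σ).symm), map_zero, if_pos rfl] at this
      exact zero_ne_one this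
    obtain ⟨j, g, hgg, hl, hr, hg0, hge⟩ := exists_unit_below π hsurj hker hd e he hπe
      (f := σ (e i)) (by rw [← map_mul, he]) hne
    refine ⟨j, ?_⟩
    suffices σ.symm g = e i by rwa [← this, AlgEquiv.apply_symm_apply]
    set g' := σ.symm g
    have hgg' : g' * g' = g' := by rw [← map_mul, hgg]
    have hl' : e i * g' = g' := σ.injective (by rw [map_mul, AlgEquiv.apply_symm_apply, hl])
    have hr' : g' * e i = g' := σ.injective (by rw [map_mul, AlgEquiv.apply_symm_apply, hr])
    have hg'0 : g' ≠ 0 := fun h => hg0 (by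
      rw [← AlgEquiv.apply_symm_apply σ g]; exact (congrArg σ h).trans (map_zero σ))
    -- `e i` has no proper idempotent below it
    set E : Matrix (Fin (d i)) (Fin (d i)) k := Matrix.single ⟨0, hd i⟩ ⟨0, hd i⟩ 1 with hE
    have hπg : π g' = Pi.single i (E * π g' i * E) := by
      have : π g' = π (e i) * π g' * π (e i) := by rw [← map_mul, ← map_mul, hl', hr']
      conv_lhs => rw [this, hπe, unit00, ← hE, ← Pi.single_mul_left, ← Pi.single_mul]
    rw [hE, Matrix.single_mul_mul_single, one_mul, mul_one] at hπg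
    set t := π g' i ⟨0, hd i⟩ ⟨0, hd i⟩
    have htt : t * t = t := by
      have h1 := congrArg (fun x => x i ⟨0, hd i⟩ ⟨0, hd i⟩)
        (show π g' * π g' = π g' by rw [← map_mul, hgg'])
      simp only [hπg, ← Pi.single_mul, Pi.single_eq_same,
        Matrix.single_mul_single_same, Matrix.single_apply_same] at h1
      exact h1
    rcases IsIdempotentElem.iff_eq_zero_or_one.1 htt with ht0 | ht1
    · exact absurd (eq_zero_of_map_eq_zero π hker hgg'
        (by rw [hπg, ht0, Matrix.single_zero, Pi.single_zero])) hg'0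
    · refine (sub_eq_zero.1 (eq_zero_of_map_eq_zero π hker ?_ ?_)).symm
      · rw [sub_mul, mul_sub, mul_sub, he, hl', hr', hgg']; abel
      · rw [map_sub, hπg, ht1, hπe, unit00, sub_self]
  choose s hs using hs
  have hidx : ∀ i j, Equiv' (e i) (e j) → i = j := fun i j h => by
    by_contra hne
    have h1 := (blockTr_equiv π i h).symm.trans (htre i i)
    rw [htre, if_neg hne, if_pos rfl] at h1
    exact zero_ne_one h1
  have hidem : ∀ i, σ (e i) * σ (e i) = σ (e i) := fun i => by rw [← map_mul, he]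
  have hmap : ∀ (τ : B ≃ₐ[k] B) {a b : B}, Equiv' a b → Equiv' (τ a) (τ b) := by
    rintro τ a b ⟨u, v, rfl, rfl⟩
    exact ⟨τ u, τ v, (map_mul τ u v).symm, (map_mul τ v u).symm⟩
  have hsinj : Function.Injective s := fun i j hij => hidx i j <| by
    have h := hmap σ.symm ((hs i).trans (hidem i) (hidem j) (hij ▸ (hs j).symm))
    rwa [AlgEquiv.symm_apply_apply, AlgEquiv.symm_apply_apply] at h
  set S : Equiv.Perm (Fin n) := Equiv.ofBijective s (Finite.injective_iff_bijective.1 hsinj)
  -- transport of the traces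
  have htrans : ∀ i x, blockTr π (s i) (σ x) = blockTr π i x := by
    intro i x
    set T₀ : B →ₗ[k] k := (blockTr π (s i)).comp σ.toLinearMap
    have hnil : LinearMap.ker π.toLinearMap ≤ LinearMap.ker T₀ := by
      intro a ha
      rw [LinearMap.mem_ker] at ha ⊢
      obtain ⟨m, hm⟩ := hker a ha
      show Matrix.trace (π (σ a) (s i)) = 0
      have hm' : IsNilpotent (π (σ a) (s i)) :=
        ⟨m, by rw [← Pi.pow_apply, ← map_pow, ← map_pow, hm, map_zero, map_zero]; rfl⟩
      exact (Matrix.isNilpotent_trace_of_isNilpotent hm').eq_zero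
    obtain ⟨sec, hsec⟩ := π.toLinearMap.exists_rightInverse_of_surjective
      (LinearMap.range_eq_top.2 hsurj)
    set T := T₀.comp sec
    have hT : ∀ a, T (π a) = T₀ a := fun a => by
      refine sub_eq_zero.1 ?_
      rw [LinearMap.comp_apply, ← map_sub]
      refine LinearMap.mem_ker.1 (hnil (LinearMap.mem_ker.2 ?_))
      rw [map_sub, sub_eq_zero]
      exact LinearMap.congr_fun hsec (π a)
    have hTc : ∀ x y, T (x * y) = T (y * x) := fun x y => by
      obtain ⟨a, rfl⟩ := hsurj x
      obtain ⟨b, rfl⟩ := hsurj y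
      rw [← map_mul, ← map_mul, hT, hT]
      show blockTr π (s i) (σ (a * b)) = blockTr π (s i) (σ (b * a))
      rw [map_mul σ, map_mul σ, blockTr_mul_comm]
    have hTe : ∀ j, T (unit00 d hd j) = if i = j then 1 else 0 := fun j => by
      rw [← hπe, hT]
      show blockTr π (s i) (σ (e j)) = _
      rw [blockTr_equiv π _ (hs j), htre]
      exact if_congr hsinj.eq_iff rfl rfl
    show T₀ x = _
    rw [← hT, eq_sum_trace hd T hTc, Finset.sum_eq_single i]
    · rw [hTe, if_pos rfl, one_mul, blockTr_apply]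
    · intro j _ hj
      rw [hTe, if_neg (Ne.symm hj), zero_mul]
    · exact fun h => absurd (Finset.mem_univ _) h
  have hGs : ∀ i, G (e (s i)) = G (e i) := fun i => by
    rw [← hequiv _ _ (hidem i) (he _) (hs i), hGσ _ (he i)]
  have hpow : ∀ (l : ℕ) i, Equiv' ((σ ^ l) (e i)) (e ((S ^ l) i)) := by
    intro l
    induction l with
    | zero => exact fun i => ⟨e i, e i, he i, he i⟩
    | succ l ih =>
      intro i
      rw [pow_succ' σ, pow_succ' S]
      exact (hmap σ (ih i)).trans (by rw [← map_mul, he]) (he _) (hs _)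
  have hSp : S ^ p = 1 := Equiv.ext fun i => by
    have h := hpow p i
    rw [hσ] at h
    exact (hidx _ _ h).symm
  have hσp : ∀ x, (σ ^ p) x = x := fun x => by rw [hσ]; rfl
  have hσε : σ ε = ε := by
    rw [htr, map_sum]
    have h1 : ∑ l ∈ Finset.range p, σ ((σ ^ l) c) = ∑ l ∈ Finset.range p, (σ ^ (l + 1)) c :=
      Finset.sum_congr rfl fun l _ => by rw [pow_succ', AlgEquiv.mul_apply]
    have h2 := (Finset.sum_range_succ' (fun l => (σ ^ l) c) p).symm.trans
      (Finset.sum_range_succ (fun l => (σ ^ l) c) p)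
    rw [hσp, pow_zero] at h2
    rw [h1]
    exact add_right_cancel h2
  obtain ⟨m, hGε, hm⟩ := exists_decomposition π hsurj hker hd e he hπe G hadd hequiv ε hε
  set F : Fin n → ZMod p := fun i => (m i : ZMod p) * (G (e i) : ZMod p) with hF
  have hFs : ∀ i, F (s i) = F i := fun i => by
    have h1 : (m (s i) : k) = (m i : k) := by
      rw [← hm, ← hm, ← htrans i ε, hσε]
    have h2 : (m (s i) : ZMod p) = (m i : ZMod p) :=
      (ZMod.natCast_eq_natCast_iff ..).2 ((CharP.natCast_eq_natCast k p).1 h1)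
    simp only [hF, h2, hGs]
  let H : Subgroup (Equiv.Perm (Fin n)) :=
    { carrier := {g | ∀ a, F (g a) = F a}
      one_mem' := fun _ => rfl
      mul_mem' := fun {g h} hg hh a => (hg (h a)).trans (hh a)
      inv_mem' := fun {g} hg a => by
        have := hg (g⁻¹ a)
        rw [← Equiv.Perm.mul_apply, mul_inv_cancel, Equiv.Perm.one_apply] at this
        exact this.symm }
  have hzp : Subgroup.zpowers S ≤ H := Subgroup.zpowers_le.2 fun a => hFs a
  have hP : IsPGroup p (Subgroup.zpowers S) := by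
    obtain ⟨j, -, hj⟩ := (Nat.dvd_prime_pow (Fact.out : p.Prime)).1
      (show orderOf S ∣ p ^ 1 by rw [pow_one]; exact orderOf_dvd_of_pow_eq_one hSp)
    exact IsPGroup.of_card (n := j) (by rw [Nat.card_zpowers, hj])
  have hzero : (∑ i, F i) = 0 := by
    rw [sum_eq_sum_fixed hP (fun r : ZMod p => by rw [nsmul_eq_mul, ZMod.natCast_self, zero_mul]) F
      fun g a => hzp g.2 a]
    refine Finset.sum_eq_zero fun i hi => ?_
    have hfix : s i = i := (Finset.mem_filter.1 hi).2 ⟨S, Subgroup.mem_zpowers S⟩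
    have h1 : ∀ l : ℕ, blockTr π i ((σ ^ l) c) = blockTr π i c := by
      intro l
      induction l with
      | zero => rfl
      | succ l ih =>
        have h := htrans i ((σ ^ l) c)
        rw [hfix, ← AlgEquiv.mul_apply, ← pow_succ'] at h
        rw [h, ih]
    have h2 : (m i : k) = 0 := by
      rw [← hm, htr, map_sum, Finset.sum_congr rfl fun l _ => h1 l, Finset.sum_const,
        Finset.card_range, nsmul_eq_mul, CharP.cast_eq_zero, zero_mul]
    rw [hF]
    beta_reduce
    rw [(ZMod.natCast_eq_zero_iff _ _).2 ((CharP.cast_eq_zero_iff k p _).1 h2), zero_mul]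
  rw [← ZMod.intCast_zmod_eq_zero_iff_dvd, hGε, ← hzero, Int.cast_sum]
  simp [hF]

end Cfsg.Lib.Blocks.Star
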