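import Mathlib
import Cfsg.Agent.Blocks.Maximal

/-!
# Invariant elements, relative traces and the Brauer map

The algebra of invariant elements of a group algebra, relative traces, and the description of
invariant elements killed by Brauer maps as traces.
-/

set_option autoImplicit false
set_option linter.unusedSectionVars false

namespace Cfsg.Lib.Blocks.Star

open Cfsg.Lib.Chars
open scoped Classical

universe u

local notation "C⟨" P "⟩" => Subgroup.centralizer (SetLike.coe P)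

variable {G : Type u} [Group G] [Fintype G] {A : Type*} [CommRing A]

lemma cj_add' (x : G) (a b : MonoidAlgebra A G) : cj x (a + b) = cj x a + cj x b :=
  fn_ext fun g => by simp

lemma cj_smul' (x : G) (t : A) (a : MonoidAlgebra A G) : cj x (t • a) = t • cj x a :=
  fn_ext fun g => by simp

lemma br_add' (P : Subgroup G) (a b : MonoidAlgebra A G) : br P (a + b) = br P a + br P b :=
  fn_ext fun g => by
    by_cases hg : g ∈ C⟨P⟩
    · simp [br, fn_trunc_mem _ hg]
    · simp [br, fn_trunc_not_mem _ hg]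

lemma br_smul' (P : Subgroup G) (t : A) (a : MonoidAlgebra A G) : br P (t • a) = t • br P a :=
  fn_ext fun g => by
    by_cases hg : g ∈ C⟨P⟩
    · simp [br, fn_trunc_mem _ hg]
    · simp [br, fn_trunc_not_mem _ hg]

lemma invOn_one (H : Subgroup G) : InvOn H (1 : MonoidAlgebra A G) := fun h _ g => by
  rw [fn_one, fn_one]
  exact if_congr ⟨fun h1 => (conj_eq_one_iff.1 h1.symm).symm, fun h1 => by rw [← h1]; group⟩ rfl rfl

/-- The algebra of invariant elements. -/
def invAlg (A : Type*) [CommRing A] (H : Subgroup G) : Subalgebra A (MonoidAlgebra A G) where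
  carrier := {a | InvOn H a}
  mul_mem' ha hb := InvOn.mul ha hb
  one_mem' := invOn_one H
  add_mem' := fun {a b} ha hb h hh g => by rw [fn_add, fn_add, ha h hh g, hb h hh g]
  zero_mem' := fun h _ g => by rw [fn_zero, fn_zero]
  algebraMap_mem' t := fun h hh g => by
    rw [Algebra.algebraMap_eq_smul_one, fn_smul, fn_smul, invOn_one H h hh g]

lemma mem_invAlg {H : Subgroup G} {a : MonoidAlgebra A G} : a ∈ invAlg A H ↔ InvOn H a := Iff.rfl

/-- The Brauer map, as an algebra map on invariant elements. -/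
noncomputable def brHom {p : ℕ} [Fact p.Prime] [CharP A p] {P : Subgroup G} (hP : IsPGroup p P) :
    invAlg A P →ₐ[A] MonoidAlgebra A G :=
  AlgHom.ofLinearMap
    { toFun := fun a => br P (a : MonoidAlgebra A G)
      map_add' := fun a b => br_add' P _ _
      map_smul' := fun t a => br_smul' P t _ }
    (br_one P) fun a b => br_mul hP a.2 b.2

@[simp] lemma brHom_apply {p : ℕ} [Fact p.Prime] [CharP A p] {P : Subgroup G} (hP : IsPGroup p P)
    (a : invAlg A P) : brHom hP a = br P (a : MonoidAlgebra A G) := rfl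

/-! ### Relative traces -/

/-- The relative trace from `Q` to `R`. -/
noncomputable def trR (R Q : Subgroup G) (c : MonoidAlgebra A G) : MonoidAlgebra A G :=
  ∑ q : R ⧸ Q.subgroupOf R, cj ((q.out : R) : G) c

lemma cj_mk_out {R Q : Subgroup G} {c : MonoidAlgebra A G} (hc : InvOn Q c) (r : R) :
    cj ((((r : R ⧸ Q.subgroupOf R)).out : R) : G) c = cj (r : G) c := by
  obtain ⟨⟨h, hh⟩, he⟩ := QuotientGroup.mk_out_eq_mul (Q.subgroupOf R) r
  rw [he, Subgroup.coe_mul, ← cj_cj]
  exact congrArg (cj (r : G)) (invOn_iff.1 hc _ (Subgroup.mem_subgroupOf.1 hh))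

lemma invOn_trR {R Q : Subgroup G} {c : MonoidAlgebra A G} (hc : InvOn Q c) :
    InvOn R (trR R Q c) := by
  rw [invOn_iff]
  intro h hh
  rw [trR, cj_sum]
  refine Fintype.sum_equiv (MulAction.toPerm (⟨h, hh⟩ : R)) _ _ fun q => ?_
  have hq : (⟨h, hh⟩ : R) • q = ((⟨h, hh⟩ * q.out : R) : R ⧸ Q.subgroupOf R) := by
    conv_lhs => rw [← QuotientGroup.out_eq' q]
    rfl
  rw [cj_cj, MulAction.toPerm_apply, hq, cj_mk_out hc, Subgroup.coe_mul]

lemma mul_trR {R Q : Subgroup G} {a c : MonoidAlgebra A G} (ha : InvOn R a) :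
    a * trR R Q c = trR R Q (a * c) := by
  rw [trR, trR, Finset.mul_sum]
  exact Finset.sum_congr rfl fun q _ => by rw [cj_mul, invOn_iff.1 ha _ (q.out : R).2]

lemma trR_mul {R Q : Subgroup G} {a c : MonoidAlgebra A G} (ha : InvOn R a) :
    trR R Q c * a = trR R Q (c * a) := by
  rw [trR, trR, Finset.sum_mul]
  exact Finset.sum_congr rfl fun q _ => by rw [cj_mul, invOn_iff.1 ha _ (q.out : R).2]

/-- A subgroup moving all cosets kills a trace. -/
lemma br_trR_eq_zero {p : ℕ} [Fact p.Prime] [CharP A p] {R Q U : Subgroup G} (hU : IsPGroup p U)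
    (hUR : U ≤ R) (hfree : ∀ r ∈ R, ∃ v ∈ U, r⁻¹ * v * r ∉ Q) {c : MonoidAlgebra A G}
    (hc : InvOn Q c) : br U (trR R Q c) = 0 := by
  letI : MulAction U (R ⧸ Q.subgroupOf R) := MulAction.compHom _ (Subgroup.inclusion hUR)
  have hsmul : ∀ (v : U) (q : R ⧸ Q.subgroupOf R),
      v • q = ((Subgroup.inclusion hUR v * q.out : R) : R ⧸ Q.subgroupOf R) := fun v q => by
    conv_lhs => rw [← QuotientGroup.out_eq' q]
    rfl
  rw [trR, br_sum, sum_eq_sum_fixed hU (fun r => fn_ext fun g => by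
      rw [← Nat.cast_smul_eq_nsmul A, CharP.cast_eq_zero, zero_smul])
    (fun q : R ⧸ Q.subgroupOf R => br U (cj ((q.out : R) : G) c)) fun v q => ?_]
  · refine Finset.sum_eq_zero fun q hq => absurd ?_ (not_not_intro (Finset.mem_filter.1 hq).2)
    intro hfix
    obtain ⟨v, hv, hnot⟩ := hfree _ (q.out : R).2
    have h1 := (hsmul ⟨v⁻¹, U.inv_mem hv⟩ q).symm.trans (hfix _)
    have h2 : ((Subgroup.inclusion hUR ⟨v⁻¹, U.inv_mem hv⟩ * q.out : R) : R ⧸ Q.subgroupOf R) =
        ((q.out : R) : R ⧸ Q.subgroupOf R) := h1.trans (QuotientGroup.out_eq' q).symm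
    rw [QuotientGroup.eq, Subgroup.mem_subgroupOf] at h2
    refine hnot ?_
    simpa [mul_assoc] using h2
  · show br U (cj (((v • q).out : R) : G) c) = _
    rw [hsmul, cj_mk_out hc, Subgroup.coe_mul, ← cj_cj, cj_br_of_mem _ (by exact v.2)]

/-- Traces from proper subgroups vanish under the Brauer map at `R`. -/
lemma br_trR_self {p : ℕ} [Fact p.Prime] [CharP A p] {R Q : Subgroup G} (hR : IsPGroup p R)
    (hQ : Q < R) {c : MonoidAlgebra A G} (hc : InvOn Q c) : br R (trR R Q c) = 0 := by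
  refine br_trR_eq_zero hR le_rfl (fun r hr => ?_) hc
  by_contra h
  push Not at h
  refine not_le_of_gt hQ fun x hx => ?_
  have := h (r * x * r⁻¹) (R.mul_mem (R.mul_mem hr hx) (R.inv_mem hr))
  simpa [mul_assoc] using this

/-- A coordinate of a trace of a function concentrated on representatives. -/
theorem exists_trR_of_killed {p : ℕ} [Fact p.Prime] {R Q : Subgroup G} (hR : IsPGroup p R)
    (hQR : Q ≤ R) {x : MonoidAlgebra A G} (hs : SuppOn C⟨Q⟩ x)
    (hi : InvOn (R ⊓ Subgroup.normalizer (Q : Set G)) x)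
    (hk : ∀ Q₁ : Subgroup G, Q < Q₁ → Q₁ ≤ R ⊓ Subgroup.normalizer (Q : Set G) → br Q₁ x = 0) :
    ∃ c : MonoidAlgebra A G, InvOn Q c ∧ br Q (trR R Q c) = x := by
  set N := R ⊓ Subgroup.normalizer (Q : Set G)
  have hstab : ∀ g : G, fn x g ≠ 0 → ∀ r ∈ R, r * g * r⁻¹ = g → r ∈ Q := by
    intro g hg r hr hrg
    by_contra hrQ
    set U := R ⊓ Subgroup.centralizer ({g} : Set G)
    have hgC : g ∈ C⟨Q⟩ := Classical.byContradiction fun h => hg (hs g h)
    have hQU : Q ≤ U := le_inf hQR fun y hy =>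
      Subgroup.mem_centralizer_singleton_iff.2 (Subgroup.mem_centralizer_iff.1 hgC y hy)
    have hrU : r ∈ U := ⟨hr, Subgroup.mem_centralizer_singleton_iff.2 (mul_inv_eq_iff_eq_mul.1 hrg)⟩
    have hlt : Q < U := lt_of_le_of_ne hQU fun h => hrQ (h ▸ hrU)
    have hlt' := lt_inf_normalizer (hR.to_le inf_le_left) hlt
    have h0 := congrArg (fun a => fn a g)
      (hk _ hlt' (le_inf (inf_le_left.trans inf_le_left) inf_le_right))
    refine hg ?_
    simp only [fn_zero] at h0
    rwa [br, fn_trunc_mem _ (Subgroup.mem_centralizer_iff.2 fun y hy =>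
      Subgroup.mem_centralizer_singleton_iff.1 hy.1.2)] at h0
  let s : Setoid G :=
    ⟨fun g h => ∃ n ∈ N, h = n * g * n⁻¹,
      fun g => ⟨1, N.one_mem, by simp⟩,
      fun {g h} ⟨n, hn, he⟩ => ⟨n⁻¹, N.inv_mem hn, by rw [he]; group⟩,
      fun {g h k} ⟨n, hn, he⟩ ⟨m, hm, hf⟩ => ⟨m * n, N.mul_mem hm hn, by rw [hf, he]; group⟩⟩
  set rep : G → G := fun g => Quotient.out (Quotient.mk s g) with hrep
  have hrep1 : ∀ g, ∃ n ∈ N, g = n * rep g * n⁻¹ := fun g => Quotient.mk_out (s := s) g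
  have hrep2 : ∀ g h : G, (∃ n ∈ N, h = n * g * n⁻¹) → rep h = rep g := fun g h hgh => by
    simp only [hrep]
    rw [Quotient.sound (s := s) hgh]
  set c : MonoidAlgebra A G := ofFn fun g => if rep g = g then fn x g else 0 with hcdef
  have hcne : ∀ g, fn c g ≠ 0 → rep g = g ∧ fn x g ≠ 0 ∧ fn c g = fn x g := fun g hg => by
    rw [hcdef, fn_ofFn] at hg ⊢
    beta_reduce at hg ⊢
    by_cases h : rep g = g
    · rw [if_pos h] at hg ⊢; exact ⟨h, hg, rfl⟩
    · rw [if_neg h] at hg; exact absurd rfl hg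
  have hc : InvOn Q c := fun k hk g => by
    have key : ∀ (k : G), k ∈ Q → ∀ g, fn c g ≠ 0 → k * g * k⁻¹ = g := fun k hk g hg => by
      have hgC : g ∈ C⟨Q⟩ := Classical.byContradiction fun h => (hcne g hg).2.1 (hs g h)
      rw [Subgroup.mem_centralizer_iff.1 hgC k hk, mul_inv_cancel_right]
    by_cases hg : fn c g = 0
    · rw [hg]
      by_contra hne
      have h1 := key k⁻¹ (Q.inv_mem hk) _ hne
      have h2 : g = k * g * k⁻¹ := by
        conv_lhs => rw [show g = k⁻¹ * (k * g * k⁻¹) * k⁻¹⁻¹ by group, h1]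
      rw [← h2] at hne
      exact hne hg
    · rw [key k hk g hg]
  refine ⟨c, hc, fn_ext fun h => ?_⟩
  by_cases hhC : h ∈ C⟨Q⟩
  swap
  · rw [suppOn_br Q _ h hhC, hs h hhC]
  rw [br, fn_trunc_mem _ hhC, trR, fn_sum]
  simp only [fn_cj]
  have key : ∀ r ∈ R, fn c (r⁻¹ * h * r) ≠ 0 → r ∈ N := by
    intro r hr hne
    obtain ⟨h1, h2, -⟩ := hcne _ hne
    refine ⟨hr, ?_⟩
    have hsub : Q.map (MulAut.conj r⁻¹).toMonoidHom ≤ Q := by
      rintro _ ⟨y, hy, rfl⟩
      have hyh := Subgroup.mem_centralizer_iff.1 hhC y hy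
      simp only [MulEquiv.coe_toMonoidHom, MulAut.conj_apply, inv_inv]
      refine hstab _ h2 _ (R.mul_mem (R.mul_mem (R.inv_mem hr) (hQR hy)) hr) ?_
      calc r⁻¹ * y * r * (r⁻¹ * h * r) * (r⁻¹ * y * r)⁻¹ = r⁻¹ * (y * h * y⁻¹) * r := by group
        _ = r⁻¹ * h * r := by rw [hyh, mul_inv_cancel_right]
    have heq := Subgroup.eq_of_le_of_card_ge hsub (card_map_conj Q r⁻¹).ge
    have hmem : r⁻¹ ∈ Subgroup.normalizer (Q : Set G) := by
      refine Subgroup.mem_normalizer_iff.2 fun y => ⟨fun hy => heq.le ⟨y, hy, by simp⟩, fun hy => ?_⟩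
      rw [← heq] at hy
      obtain ⟨z, hz, hzy⟩ := hy
      rwa [← (MulAut.conj r⁻¹).injective hzy]
    simpa using inv_mem hmem
  by_cases hxh : fn x h = 0
  · rw [hxh]
    refine Finset.sum_eq_zero fun q _ => ?_
    by_contra hne
    refine (hcne _ hne).2.1 ?_
    have h1 := hi _ (N.inv_mem (key _ (q.out : R).2 hne)) h
    rw [inv_inv, hxh] at h1
    exact h1
  · obtain ⟨n, hn, hng⟩ := hrep1 h
    have hg0 : n⁻¹ * h * n = rep h := by
      conv_lhs => rw [hng]
      group
    have hrep0 : rep (rep h) = rep h := (hrep2 (rep h) h ⟨n, hn, hng⟩).symm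
    have hx0 : fn x (rep h) = fn x h := by
      conv_rhs => rw [hng]
      exact (hi n hn _).symm
    rw [Finset.sum_eq_single ((⟨n, hn.1⟩ : R) : R ⧸ Q.subgroupOf R)]
    · rw [← fn_cj, cj_mk_out hc, fn_cj]
      show fn c (n⁻¹ * h * n) = _
      rw [hg0, hcdef, fn_ofFn]
      beta_reduce
      rw [if_pos hrep0, hx0]
    · intro q _ hq
      by_contra hne
      have hrN := key _ (q.out : R).2 hne
      obtain ⟨h1, h2, -⟩ := hcne _ hne
      have h3 : rep (((q.out : R) : G)⁻¹ * h * (q.out : R)) = rep h :=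
        hrep2 h _ ⟨_, N.inv_mem hrN, by rw [inv_inv]⟩
      have h4 : ((q.out : R) : G)⁻¹ * h * (q.out : R) = rep h := h1.symm.trans h3
      refine hq ?_
      rw [← QuotientGroup.out_eq' q, QuotientGroup.eq, Subgroup.mem_subgroupOf]
      refine hstab (rep h) (by rw [hx0]; exact hxh) _ ((q.out)⁻¹ * ⟨n, hn.1⟩ : R).2 ?_
      simp only [Subgroup.coe_mul, Subgroup.coe_inv]
      calc ((q.out : R) : G)⁻¹ * n * rep h * (((q.out : R) : G)⁻¹ * n)⁻¹
          = ((q.out : R) : G)⁻¹ * (n * rep h * n⁻¹) * (q.out : R) := by group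
        _ = rep h := by rw [← hng, h4]
    · exact fun h' => absurd (Finset.mem_univ _) h'

lemma exists_normal_index_p {p : ℕ} [Fact p.Prime] {R S : Subgroup G} (hR : IsPGroup p R)
    (hSR : S < R) : ∃ K : Subgroup G, S ≤ K ∧ K < R ∧ R ≤ Subgroup.normalizer (K : Set G) ∧
      K.relIndex R = p := by
  obtain ⟨m, hm⟩ := hR.exists_card_eq
  obtain ⟨j, hj⟩ := (hR.to_subgroup (S.subgroupOf R)).exists_card_eq
  have hlt : j < m := by
    have h1 : Nat.card (S.subgroupOf R) < Nat.card R := by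
      rw [Nat.card_congr (Subgroup.subgroupOfEquivOfLe hSR.le).toEquiv]
      exact lt_of_le_of_ne (Subgroup.card_le_of_le hSR.le)
        fun h => hSR.ne (Subgroup.eq_of_le_of_card_ge hSR.le h.ge)
    rw [hj, hm] at h1
    exact (Nat.pow_lt_pow_iff_right (Fact.out : p.Prime).one_lt).1 h1
  obtain ⟨m, rfl⟩ : ∃ m', m = m' + 1 := ⟨m - 1, by omega⟩
  obtain ⟨K₀, hK₀, hle⟩ := Sylow.exists_subgroup_card_pow_prime_le p
    (n := j) (m := m) (hm ▸ ⟨p, pow_succ p m⟩) (S.subgroupOf R) hj (by omega)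
  have hidx : K₀.index = p := by
    have h := K₀.card_mul_index
    rw [hK₀, hm, pow_succ] at h
    exact Nat.eq_of_mul_eq_mul_left (pow_pos (Fact.out : p.Prime).pos m) h
  haveI : K₀.Normal := Subgroup.normal_of_index_eq_minFac_card (by
    rw [hidx, hm, Nat.pow_minFac (Nat.succ_ne_zero m), (Fact.out : p.Prime).minFac_eq])
  have hK : (K₀.map R.subtype).subgroupOf R = K₀ :=
    Subgroup.comap_map_eq_self_of_injective Subtype.val_injective _
  have hidx' : (K₀.map R.subtype).relIndex R = p := by rw [Subgroup.relIndex, hK, hidx]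
  refine ⟨K₀.map R.subtype, fun x hx => ⟨⟨x, hSR.le hx⟩, hle hx, rfl⟩,
    lt_of_le_of_ne (Subgroup.map_subtype_le K₀) fun h => ?_, fun r hr => ?_, hidx'⟩
  · rw [h, Subgroup.relIndex_self] at hidx'
    exact (Fact.out : p.Prime).one_lt.ne hidx'
  · refine Subgroup.mem_normalizer_iff.2 fun x => ⟨?_, ?_⟩
    · rintro ⟨y, hy, rfl⟩
      exact ⟨⟨r, hr⟩ * y * ⟨r, hr⟩⁻¹, Subgroup.Normal.conj_mem ‹_› y hy _, rfl⟩
    · rintro ⟨y, hy, hyx⟩
      refine ⟨⟨r, hr⟩⁻¹ * y * ⟨r, hr⟩⁻¹⁻¹, Subgroup.Normal.conj_mem ‹_› y hy _, ?_⟩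
      simp only [Subgroup.coe_subtype, Subgroup.coe_mul, Subgroup.coe_inv, inv_inv]
      simp only [Subgroup.coe_subtype] at hyx
      rw [hyx]; group

/-- Elements killed by the Brauer map at `R` are combinations of traces from maximal subgroups. -/
theorem mem_span_trR {p : ℕ} [Fact p.Prime] {R : Subgroup G} (hR : IsPGroup p R)
    {x : MonoidAlgebra A G} (hi : InvOn R x) (h0 : br R x = 0) :
    x ∈ Submodule.span A {y | ∃ K : Subgroup G, K < R ∧ R ≤ Subgroup.normalizer (K : Set G) ∧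
      K.relIndex R = p ∧ ∃ c, InvOn K c ∧ y = trR R K c} := by
  induction hn : (Finset.univ.filter fun g => fn x g ≠ 0).card using Nat.strong_induction_on
    generalizing x with
  | _ n ih =>
  by_cases hx : x = 0
  · rw [hx]; exact Submodule.zero_mem _
  obtain ⟨g, hg⟩ : ∃ g, fn x g ≠ 0 := by
    by_contra h
    push Not at h
    exact hx (fn_ext fun g => by rw [h g, fn_zero])
  have hgC : g ∉ C⟨R⟩ := fun h => hg <| by
    have := congrArg (fun a => fn a g) h0
    simpa [br, fn_trunc_mem _ h] using this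
  have hSR : R ⊓ Subgroup.centralizer ({g} : Set G) < R := by
    refine lt_of_le_of_ne inf_le_left fun h => hgC (Subgroup.mem_centralizer_iff.2 fun y hy => ?_)
    exact Subgroup.mem_centralizer_singleton_iff.1 (h.ge hy).2
  obtain ⟨K, hSK, hKR, hKN, hKi⟩ := exists_normal_index_p hR hSR
  set o : MonoidAlgebra A G := ofFn fun h => if ∃ m ∈ K, h = m * g * m⁻¹ then 1 else 0 with ho
  have hoi : InvOn K o := fun k hk h => by
    rw [ho, fn_ofFn]
    refine if_congr ⟨?_, ?_⟩ rfl rfl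
    · rintro ⟨m, hm, he⟩
      refine ⟨k⁻¹ * m, K.mul_mem (K.inv_mem hk) hm, ?_⟩
      rw [show h = k⁻¹ * (k * h * k⁻¹) * k by group, he]; group
    · rintro ⟨m, hm, he⟩
      exact ⟨k * m, K.mul_mem hk hm, by rw [he]; group⟩
  have hy : ∀ h, fn (trR R K o) h = if ∃ r ∈ R, h = r * g * r⁻¹ then 1 else 0 := by
    intro h
    rw [trR, fn_sum]
    simp only [fn_cj, ho, fn_ofFn]
    by_cases hc : ∃ r ∈ R, h = r * g * r⁻¹
    · rw [if_pos hc]
      obtain ⟨r, hr, rfl⟩ := hc
      rw [Finset.sum_eq_single ((⟨r, hr⟩ : R) : R ⧸ K.subgroupOf R)]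
      · rw [if_pos]
        obtain ⟨⟨w, hw⟩, he⟩ := QuotientGroup.mk_out_eq_mul (K.subgroupOf R) (⟨r, hr⟩ : R)
        rw [he]
        exact ⟨(w : G)⁻¹, K.inv_mem hw, by simp only [Subgroup.coe_mul]; group⟩
      · intro q _ hq
        refine if_neg fun ⟨m, hm, he⟩ => hq ?_
        rw [← QuotientGroup.out_eq' q, QuotientGroup.eq, Subgroup.mem_subgroupOf]
        simp only [Subgroup.coe_mul, Subgroup.coe_inv]
        have h1 : m⁻¹ * (((q.out : R) : G)⁻¹ * r) ∈ R ⊓ Subgroup.centralizer ({g} : Set G) := by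
          refine ⟨R.mul_mem (R.inv_mem (hKR.le hm)) (R.mul_mem (R.inv_mem (q.out : R).2) hr),
            Subgroup.mem_centralizer_singleton_iff.2 ?_⟩
          calc m⁻¹ * (((q.out : R) : G)⁻¹ * r) * g
              = m⁻¹ * (((q.out : R) : G)⁻¹ * (r * g * r⁻¹) * (q.out : R)) * (((q.out : R) : G)⁻¹ * r) := by group
            _ = g * (m⁻¹ * (((q.out : R) : G)⁻¹ * r)) := by rw [he]; group
        simpa using K.mul_mem hm (hSK h1)
      · exact fun h' => absurd (Finset.mem_univ _) h'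
    · rw [if_neg hc]
      refine Finset.sum_eq_zero fun q _ => if_neg fun ⟨m, hm, he⟩ => hc ?_
      refine ⟨(q.out : R) * m, R.mul_mem (q.out : R).2 (hKR.le hm), ?_⟩
      rw [show h = ((q.out : R) : G) * (((q.out : R) : G)⁻¹ * h * (q.out : R)) * ((q.out : R) : G)⁻¹ by group, he]
      group
  have hTi := invOn_trR (R := R) hoi
  have hmem : trR R K o ∈ Submodule.span A {y | ∃ K : Subgroup G, K < R ∧
      R ≤ Subgroup.normalizer (K : Set G) ∧ K.relIndex R = p ∧ ∃ c, InvOn K c ∧ y = trR R K c} :=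
    Submodule.subset_span ⟨K, hKR, hKN, hKi, o, hoi, rfl⟩
  have hz : fn (x - fn x g • trR R K o) g = 0 := by
    rw [fn_sub, fn_smul, hy, if_pos ⟨1, R.one_mem, by simp⟩, mul_one, sub_self]
  have hsupp : ∀ h, fn (x - fn x g • trR R K o) h ≠ 0 → fn x h ≠ 0 := by
    intro h hne
    rw [fn_sub, fn_smul, hy] at hne
    intro hxh
    rw [hxh] at hne
    by_cases hc : ∃ r ∈ R, h = r * g * r⁻¹
    · obtain ⟨r, hr, rfl⟩ := hc
      rw [hi r hr g] at hxh
      exact hg hxh
    · simp [hc] at hne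
  have hi' : InvOn R (x - fn x g • trR R K o) := fun r hr h => by
    simp only [fn_sub, fn_smul, hi r hr h, hTi r hr h]
  have h0' : br R (x - fn x g • trR R K o) = 0 := fn_ext fun h => by
    rw [fn_zero]
    by_cases hh : h ∈ C⟨R⟩
    · rw [br, fn_trunc_mem _ hh, fn_sub, fn_smul, hy, if_neg, mul_zero, sub_zero]
      · have := congrArg (fun a => fn a h) h0
        simpa [br, fn_trunc_mem _ hh] using this
      · rintro ⟨r, hr, rfl⟩
        refine hgC ?_
        have h1 := Subgroup.mem_centralizer_iff.1 hh r hr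
        have h2 : g = r * g * r⁻¹ := by
          calc g = r⁻¹ * (r * g * r⁻¹ * r) := by group
            _ = r⁻¹ * (r * (r * g * r⁻¹)) := by rw [h1]
            _ = _ := by group
        rw [h2]; exact hh
    · rw [suppOn_br R _ h hh]
  have hlt : (Finset.univ.filter fun h => fn (x - fn x g • trR R K o) h ≠ 0).card < n := by
    rw [← hn]
    refine Finset.card_lt_card ((Finset.ssubset_iff_of_subset fun h hh => ?_).2 ⟨g, by simpa using hg, fun h => (Finset.mem_filter.1 h).2 hz⟩)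
    simp only [Finset.mem_filter, Finset.mem_univ, true_and] at hh ⊢
    exact hsupp h hh
  have := Submodule.add_mem _ (ih _ hlt hi' h0' rfl) (Submodule.smul_mem _ (fn x g) hmem)
  rwa [sub_add_cancel] at this

end Cfsg.Lib.Blocks.Star
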