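import Mathlib
import Cfsg.Agent.Blocks.Star.Idem
import Cfsg.Agent.Blocks.Star.Trace

/-!
# Primitive idempotents of invariant algebras and their Brauer pairs

A primitive idempotent of the `R`-invariant algebra is either a trace from a maximal subgroup of
`R` or determines a Brauer pair on `R` below which every nonzero Brauer image of it lies.
-/

set_option autoImplicit false
set_option linter.unusedSectionVars false

namespace Cfsg.Lib.Blocks.Star

open Cfsg.Lib.Chars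
open scoped Classical

universe u v

local notation "C⟨" P "⟩" => Subgroup.centralizer (SetLike.coe P)

section General

variable {G : Type u} [Group G] [Fintype G] {A : Type v} [Field A]

/-- A primitive idempotent of the invariant algebra. -/
structure IsPrim (R : Subgroup G) (ε : MonoidAlgebra A G) : Prop where
  idem : ε * ε = ε
  inv : InvOn R ε
  ne_zero : ε ≠ 0
  eq_of_le : ∀ g, InvOn R g → g * g = g → ε * g = g → g * ε = g → g = 0 ∨ g = ε

variable {R : Subgroup G} {ε a b : MonoidAlgebra A G}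

lemma mul_ne_of_isNilpotent (hne : ε ≠ 0) (hee : ε * ε = ε) (har : a * ε = a)
    (ha : IsNilpotent a) (z : MonoidAlgebra A G) : a * z ≠ ε := by
  intro h
  obtain ⟨n, hn⟩ := ha
  have key : ∀ j : ℕ, ∃ w, ε = a ^ (j + 1) * w := by
    intro j
    induction j with
    | zero => exact ⟨z, by rw [zero_add, pow_one, h]⟩
    | succ j ih =>
      obtain ⟨w, hw⟩ := ih
      refine ⟨w * z, ?_⟩
      calc ε = a * ε * z := by rw [har, h]
        _ = _ := by rw [pow_succ' a (j + 1), hw]; simp only [mul_assoc]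
  obtain ⟨w, hw⟩ := key n
  exact hne (by rw [hw, pow_succ, hn, zero_mul, zero_mul])

/-- Corner elements are nilpotent or invertible. -/
theorem IsPrim.dichotomy (h : IsPrim R ε) (hai : InvOn R a) (hal : ε * a = a) (har : a * ε = a) :
    IsNilpotent a ∨ ∃ z : MonoidAlgebra A G, InvOn R z ∧ a * z = ε := by
  obtain ⟨g, z, -, h1, h2, h3, -, n, -, hn⟩ := exists_fitting.{v, max u v, 0} (k := A) (⟨a, hai⟩ : invAlg A R)
  have h1' := congrArg Subtype.val h1
  have h2' := congrArg Subtype.val h2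
  simp only [Subalgebra.coe_mul] at h1' h2'
  have hl : ε * (g : MonoidAlgebra A G) = g := by rw [h1', ← mul_assoc, hal]
  have hr : (g : MonoidAlgebra A G) * ε = g := by rw [h2', mul_assoc, har]
  rcases h.eq_of_le g g.2 (congrArg Subtype.val h3) hl hr with h0 | h0
  · left
    refine ⟨n, ?_⟩
    have := congrArg Subtype.val hn
    simpa [h0] using this
  · exact .inr ⟨z, z.2, by rw [← h1', h0]⟩

theorem IsPrim.isNilpotent_mul (h : IsPrim R ε) (hai : InvOn R a) (hal : ε * a = a)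
    (har : a * ε = a) (ha : IsNilpotent a) (hbi : InvOn R b) (hbr : b * ε = b) :
    IsNilpotent (a * b) := by
  refine (h.dichotomy (hai.mul hbi) (by rw [← mul_assoc, hal])
    (by rw [mul_assoc, hbr])).resolve_right fun ⟨z, _, hz⟩ => ?_
  exact mul_ne_of_isNilpotent h.ne_zero h.idem har ha (b * z) (by rw [← mul_assoc, hz])

theorem IsPrim.isNilpotent_add (h : IsPrim R ε) (hai : InvOn R a) (hal : ε * a = a)
    (har : a * ε = a) (ha : IsNilpotent a) (hbi : InvOn R b) (hbl : ε * b = b) (hbr : b * ε = b)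
    (hb : IsNilpotent b) : IsNilpotent (a + b) := by
  refine (h.dichotomy ((invAlg A R).add_mem hai hbi) (by rw [mul_add, hal, hbl])
    (by rw [add_mul, har, hbr])).resolve_right fun ⟨z, hzi, hz⟩ => ?_
  have hz' : (a + b) * (ε * z * ε) = ε := by
    rw [← mul_assoc, ← mul_assoc, add_mul, har, hbr, hz, h.idem]
  set z' := ε * z * ε
  have hz'r : z' * ε = z' := by rw [mul_assoc, h.idem]
  obtain ⟨n, hn⟩ := h.isNilpotent_mul hbi hbl hbr hb ((h.inv.mul hzi).mul h.inv) hz'r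
  set t := b * z'
  have ht : ε * t = t := by rw [← mul_assoc, hbl]
  set w := ∑ i ∈ Finset.range n, t ^ i
  have hw : (1 - t) * w = 1 := by rw [mul_neg_geom_sum, hn, sub_zero]
  have haz : a * z' = ε * (1 - t) := by
    rw [mul_sub, mul_one, ht, eq_sub_iff_add_eq, ← add_mul, hz']
  refine mul_ne_of_isNilpotent h.ne_zero h.idem har ha (z' * w) ?_
  rw [← mul_assoc, haz, mul_assoc, hw, mul_one]

/-- A primitive idempotent killed by the Brauer map at `R` is a trace from a maximal subgroup. -/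
theorem IsPrim.exists_trR {p : ℕ} [Fact p.Prime] (hR : IsPGroup p R) (h : IsPrim R ε)
    (h0 : br R ε = 0) :
    ∃ K : Subgroup G, K < R ∧ R ≤ Subgroup.normalizer (K : Set G) ∧ K.relIndex R = p ∧
      ∃ c : MonoidAlgebra A G, InvOn K c ∧ ε * c = c ∧ c * ε = c ∧ trR R K c = ε := by
  by_contra hno
  push Not at hno
  have key : ∀ y, y ∈ Submodule.span A {y | ∃ K : Subgroup G, K < R ∧
      R ≤ Subgroup.normalizer (K : Set G) ∧ K.relIndex R = p ∧ ∃ c, InvOn K c ∧ y = trR R K c} →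
      InvOn R y ∧ IsNilpotent (ε * y * ε) := by
    intro y hy
    induction hy using Submodule.span_induction with
    | mem y hy =>
      obtain ⟨K, hK, hN, hi, c, hc, rfl⟩ := hy
      refine ⟨invOn_trR hc, ?_⟩
      rw [mul_trR h.inv, trR_mul h.inv]
      have hci : InvOn K (ε * c * ε) := ((h.inv.mono hK.le).mul hc).mul (h.inv.mono hK.le)
      have hl : ε * trR R K (ε * c * ε) = trR R K (ε * c * ε) := by
        rw [mul_trR h.inv, ← mul_assoc, ← mul_assoc, h.idem]
      have hr : trR R K (ε * c * ε) * ε = trR R K (ε * c * ε) := by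
        rw [trR_mul h.inv, mul_assoc, h.idem]
      refine (h.dichotomy (invOn_trR hci) hl hr).resolve_right fun ⟨z, hzi, hz⟩ => ?_
      refine hno K hK hN hi (ε * c * ε * z * ε) ((hci.mul (hzi.mono hK.le)).mul (h.inv.mono hK.le))
        (by simp only [← mul_assoc, h.idem]) (by rw [mul_assoc, h.idem]) ?_
      rw [← trR_mul h.inv, ← trR_mul hzi, hz, h.idem]
    | zero => exact ⟨fun _ _ _ => by rw [fn_zero, fn_zero], by simp⟩
    | add y z _ _ hy hz =>
      refine ⟨(invAlg A R).add_mem hy.1 hz.1, ?_⟩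
      rw [mul_add, add_mul]
      refine h.isNilpotent_add ((h.inv.mul hy.1).mul h.inv) ?_ ?_ hy.2 ((h.inv.mul hz.1).mul h.inv)
        ?_ ?_ hz.2 <;> first
        | (simp only [← mul_assoc, h.idem]) | (simp only [mul_assoc, h.idem])
    | smul t y _ hy =>
      refine ⟨Subalgebra.smul_mem (invAlg A R) hy.1 t, ?_⟩
      rw [mul_smul_comm, smul_mul_assoc]
      exact hy.2.smul t
  obtain ⟨-, n, hn⟩ := key ε (mem_span_trR hR h.inv h0)
  rw [h.idem, h.idem] at hn
  exact mul_ne_of_isNilpotent h.ne_zero h.idem h.idem ⟨n, hn⟩ ε h.idem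

/-- Induction over the primitive decompositions. -/
theorem induction_prim {motive : MonoidAlgebra A G → Prop} (h0 : motive 0)
    (hprim : ∀ e, IsPrim R e → e * ε = e → ε * e = e → motive e)
    (hadd : ∀ e f, InvOn R e → InvOn R f → e * e = e → f * f = f → e * f = 0 → f * e = 0 →
      e * ε = e → f * ε = f → motive e → motive f → motive (e + f))
    (hεi : InvOn R ε) (hee : ε * ε = ε) : motive ε := by
  suffices key : ∀ e, InvOn R e → e * e = e → e * ε = e → ε * e = e → motive e from key ε hεi hee hee hee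
  intro e
  induction hn : Module.finrank A (LinearMap.range (LinearMap.mulLeft A e))
    using Nat.strong_induction_on generalizing e with
  | _ n ih =>
  intro hi hid hre hle
  by_cases he0 : e = 0
  · rw [he0]; exact h0
  by_cases hp : IsPrim R e
  · exact hprim e hp hre hle
  obtain ⟨g, hgi, hgg, hl, hr, hg0, hge⟩ : ∃ g, InvOn R g ∧ g * g = g ∧ e * g = g ∧ g * e = g ∧
      g ≠ 0 ∧ g ≠ e := by
    by_contra h
    push Not at h
    exact hp ⟨hid, hi, he0, fun g a b c d => (em (g = 0)).imp id fun hg => h g a b c d hg⟩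
  have hsmaller : ∀ g : MonoidAlgebra A G, g * g = g → e * g = g → g * e = g → g ≠ e →
      Module.finrank A (LinearMap.range (LinearMap.mulLeft A g)) < n := by
    intro g hgg hl hr hge
    rw [← hn]
    refine Submodule.finrank_lt_finrank_of_lt (lt_of_le_not_ge ?_ fun h => hge ?_)
    · rintro _ ⟨a, rfl⟩
      exact ⟨g * a, by simp only [LinearMap.mulLeft_apply, ← mul_assoc, hl]⟩
    · obtain ⟨a, ha⟩ := h ⟨e, show e * e = e from hid⟩
      simp only [LinearMap.mulLeft_apply] at ha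
      rw [← hr]
      calc g * e = g * (g * a) := by rw [ha]
        _ = e := by rw [← mul_assoc, hgg, ha]
  have hf : (e - g) * (e - g) = e - g := by rw [sub_mul, mul_sub, mul_sub, hid, hl, hr, hgg]; abel
  have hfl : e * (e - g) = e - g := by rw [mul_sub, hid, hl]
  have hfr : (e - g) * e = e - g := by rw [sub_mul, hid, hr]
  have hfi : InvOn R (e - g) := (invAlg A R).sub_mem hi hgi
  have hge' : g * ε = g := by
    calc g * ε = g * (e * ε) := by rw [← mul_assoc, hr]
      _ = g := by rw [hre, hr]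
  have hge'' : ε * g = g := by
    calc ε * g = ε * e * g := by rw [mul_assoc, hl]
      _ = g := by rw [hle, hl]
  have hfe' : (e - g) * ε = e - g := by rw [sub_mul, hre, hge']
  have hfe'' : ε * (e - g) = e - g := by rw [mul_sub, hle, hge'']
  have := hadd g (e - g) hgi hfi hgg hf (by rw [mul_sub, hr, hgg, sub_self])
    (by rw [sub_mul, hl, hgg, sub_self]) hge' hfe'
    (ih _ (hsmaller g hgg hl hr hge) g rfl hgi hgg hge' hge'')
    (ih _ (hsmaller _ hf hfl hfr fun h => hg0 (sub_eq_self.1 h)) _ rfl hfi hf hfe' hfe'')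
  rwa [add_sub_cancel] at this

end General

section Pairs

variable {G : Type u} [Group G] [Fintype G] {M : Ideal AlgInt} {p : ℕ} [Fact p.Prime]
variable {R : Subgroup G} {ε : MonoidAlgebra (Res M) G}

/-- Invariance of a block idempotent of the centraliser. -/
lemma invOn_bi_self (Q : Subgroup G) (b : Set (IrrCharacter C⟨Q⟩)) :
    InvOn Q (bi M C⟨Q⟩ b) := invOn_iff.2 fun _ hk => cj_eq_self_of_suppOn (suppOn_bi b) hk

lemma br_idem (hM : IsPModular p M) {Q : Subgroup G} (hQ : IsPGroup p Q)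
    {f : MonoidAlgebra (Res M) G} (hi : InvOn Q f) (hf : f * f = f) :
    br Q f * br Q f = br Q f := by
  haveI := charP_res hM
  rw [← br_mul hQ hi hi, hf]

/-- The block of a primitive idempotent not killed by the Brauer map. -/
theorem IsPrim.exists_block (hM : IsPModular p M) (hR : IsPGroup p R) (h : IsPrim R ε)
    (hne : br R ε ≠ 0) :
    ∃ e : Set (IrrCharacter C⟨R⟩), IsPBlock M e ∧ br R ε * bi M C⟨R⟩ e = br R ε := by
  haveI := charP_res hM
  letI := Fintype.ofFinite C⟨R⟩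
  obtain ⟨e, he, hnz⟩ : ∃ e ∈ blocksFinset M C⟨R⟩, br R ε * bi M C⟨R⟩ e ≠ 0 := by
    refine Finset.exists_ne_zero_of_sum_ne_zero fun h0 => hne ?_
    rw [← Finset.mul_sum, sum_bi hM, mul_one] at h0
    exact h0
  have heb := (mem_blocksFinset hM).1 he
  refine ⟨e, heb, ?_⟩
  have hei := invOn_bi_self (M := M) R e
  have hcomm : bi M C⟨R⟩ e * br R ε = br R ε * bi M C⟨R⟩ e :=
    (invOn_bi e).comm (suppOn_br R ε)
  have hee := bi_mul_self hM heb
  set a := ε * bi M C⟨R⟩ e * ε with ha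
  have hai : InvOn R a := (h.inv.mul hei).mul h.inv
  have hbra : br R a = br R ε * bi M C⟨R⟩ e := by
    rw [ha, br_mul hR (h.inv.mul hei) h.inv, br_mul hR h.inv hei,
      show br R (bi M C⟨R⟩ e) = bi M C⟨R⟩ e from trunc_eq_self (suppOn_bi e), mul_assoc, hcomm,
      ← mul_assoc, br_idem hM hR h.inv h.idem]
  rcases h.dichotomy hai (by rw [ha, ← mul_assoc, ← mul_assoc, h.idem])
    (by rw [ha, mul_assoc, h.idem]) with ⟨n, hn⟩ | ⟨z, hzi, hz⟩
  · refine absurd ?_ hnz
    have hidem : IsIdempotentElem (br R ε * bi M C⟨R⟩ e) := by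
      show _ * _ = _
      rw [mul_assoc, ← mul_assoc (bi M C⟨R⟩ e), hcomm, mul_assoc, hee, ← mul_assoc,
        br_idem hM hR h.inv h.idem]
    have h2 : (brHom hR ⟨a, hai⟩ : MonoidAlgebra (Res M) G) ^ (n + 1) = 0 := by
      rw [← map_pow, show (⟨a, hai⟩ : invAlg (Res M) R) ^ (n + 1) = 0 from
        Subtype.ext (by simp [pow_succ, hn]), map_zero]
    rwa [brHom_apply, hbra, hidem.pow_succ_eq] at h2
  · have h1 := congrArg (br R) hz
    rw [br_mul hR hai hzi, hbra] at h1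
    calc br R ε * bi M C⟨R⟩ e = bi M C⟨R⟩ e * br R ε := hcomm.symm
      _ = bi M C⟨R⟩ e * (br R ε * bi M C⟨R⟩ e * br R z) := by rw [h1]
      _ = br R ε * bi M C⟨R⟩ e * br R z := by
          rw [← mul_assoc (bi M C⟨R⟩ e), ← mul_assoc (bi M C⟨R⟩ e), hcomm, mul_assoc (br R ε), hee]
      _ = br R ε := h1

/-- **Nonzero Brauer images lie below the pair.** -/
theorem IsPrim.subpairLE (hM : IsPModular p M) (hR : IsPGroup p R) (h : IsPrim R ε)
    (hne : br R ε ≠ 0) {e : Set (IrrCharacter C⟨R⟩)} (he : IsPBlock M e)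
    (hεe : br R ε * bi M C⟨R⟩ e = br R ε) :
    ∀ Q : Subgroup G, Q ≤ R → ∀ b : Set (IrrCharacter C⟨Q⟩), IsPBlock M b →
      br Q ε * bi M C⟨Q⟩ b ≠ 0 → SubpairLE p M Q b R e := by
  haveI := charP_res hM
  intro Q
  induction hn : Nat.card R - Nat.card Q using Nat.strong_induction_on generalizing Q with
  | _ n ih =>
  intro hQR b hb hbne
  letI := Fintype.ofFinite C⟨Q⟩
  rcases eq_or_lt_of_le hQR with rfl | hlt
  · suffices b = e by subst this; exact Relation.ReflTransGen.refl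
    by_contra hbe
    refine hbne ?_
    rw [← hεe, mul_assoc, bi_mul_bi hM he hb (Ne.symm hbe), mul_zero]
  set N := R ⊓ Subgroup.normalizer (Q : Set G) with hN
  have hQN : Q ≤ N := le_inf hlt.le Subgroup.le_normalizer
  have hQp : IsPGroup p Q := hR.to_le hlt.le
  set O : Finset (MonoidAlgebra (Res M) G) :=
    (Finset.univ.filter (· ∈ N)).image fun x => cj x (bi M C⟨Q⟩ b) with hO
  set β := ∑ o ∈ O, o with hβ
  have hconj : ∀ x ∈ N, IsConjSub C⟨Q⟩ C⟨Q⟩ x := fun x hx =>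
    isConjSub_of_mem_normalizer (centralizer_le_normalizer_centralizer hx.2 le_rfl)
  have hOmem : ∀ o ∈ O, ∃ x ∈ N, cj x (bi M C⟨Q⟩ b) = o := fun o ho => by
    obtain ⟨x, hx, rfl⟩ := Finset.mem_image.1 ho; exact ⟨x, (Finset.mem_filter.1 hx).2, rfl⟩
  have hOblock : ∀ o ∈ O, ∃ b' : Set (IrrCharacter C⟨Q⟩), IsPBlock M b' ∧ bi M C⟨Q⟩ b' = o := by
    intro o ho
    obtain ⟨x, hx, rfl⟩ := hOmem o ho
    exact ⟨_, IsPBlock.conjSet (hconj x hx) hb, bi_conjSet (hconj x hx) b⟩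
  have hbO : bi M C⟨Q⟩ b ∈ O :=
    Finset.mem_image.2 ⟨1, Finset.mem_filter.2 ⟨Finset.mem_univ _, N.one_mem⟩, cj_one _⟩
  have hmulβ : ∀ b' : Set (IrrCharacter C⟨Q⟩), IsPBlock M b' →
      (bi M C⟨Q⟩ b' ∈ O → β * bi M C⟨Q⟩ b' = bi M C⟨Q⟩ b') ∧
      (bi M C⟨Q⟩ b' ∉ O → β * bi M C⟨Q⟩ b' = 0) := by
    intro b' hb'
    have horth : ∀ o ∈ O, o ≠ bi M C⟨Q⟩ b' → o * bi M C⟨Q⟩ b' = 0 := fun o ho hne => by
      obtain ⟨b'', hb'', rfl⟩ := hOblock o ho
      exact bi_mul_bi hM hb'' hb' fun h => hne (by rw [h])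
    rw [hβ, Finset.sum_mul]
    refine ⟨fun hm => ?_, fun hm => Finset.sum_eq_zero fun o ho => horth o ho fun h => hm (h ▸ ho)⟩
    rw [Finset.sum_eq_single_of_mem _ hm horth, bi_mul_self hM hb']
  have hβs : SuppOn C⟨Q⟩ β := SuppOn.sum _ fun o ho => by
    obtain ⟨b', -, rfl⟩ := hOblock o ho; exact suppOn_bi b'
  have hβC : InvOn C⟨Q⟩ β := InvOn.sum _ fun o ho => by
    obtain ⟨b', -, rfl⟩ := hOblock o ho; exact invOn_bi b'
  have hβN : InvOn N β := invOn_iff.2 fun k hk => by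
    rw [hβ, cj_sum]
    refine Finset.sum_bij' (fun o _ => cj k o) (fun o _ => cj k⁻¹ o) ?_ ?_
      (fun o _ => by rw [cj_cj, inv_mul_cancel, cj_one])
      (fun o _ => by rw [cj_cj, mul_inv_cancel, cj_one]) (fun o _ => rfl)
    · intro o ho
      obtain ⟨x, hx, rfl⟩ := hOmem o ho
      rw [cj_cj]
      exact Finset.mem_image.2 ⟨_, Finset.mem_filter.2 ⟨Finset.mem_univ _, N.mul_mem hk hx⟩, rfl⟩
    · intro o ho
      obtain ⟨x, hx, rfl⟩ := hOmem o ho
      rw [cj_cj]
      exact Finset.mem_image.2 ⟨_, Finset.mem_filter.2 ⟨Finset.mem_univ _, N.mul_mem (N.inv_mem hk) hx⟩, rfl⟩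
  have hββ : β * β = β := by
    conv_lhs => arg 2; rw [hβ]
    rw [Finset.mul_sum]
    refine (Finset.sum_congr rfl fun o ho => ?_).trans hβ.symm
    obtain ⟨b', hb', rfl⟩ := hOblock o ho
    exact (hmulβ b' hb').1 ho
  have hεN : InvOn N ε := h.inv.mono inf_le_left
  have hεQ : InvOn Q ε := h.inv.mono hlt.le
  have hbrεN : InvOn N (br Q ε) :=
    invOn_br hεN fun k hk y hy => (Subgroup.mem_normalizer_iff.1 hk.2 y).1 hy
  have hcomm : β * br Q ε = br Q ε * β := hβC.comm (suppOn_br Q ε)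
  set x := br Q ε * β with hx
  have hεε := br_idem hM hQp hεQ h.idem
  have hxid : x * x = x := by
    rw [hx, mul_assoc, ← mul_assoc β, hcomm, mul_assoc, hββ, ← mul_assoc, hεε]
  have hxne : x ≠ 0 := fun h0 => hbne <| by
    calc br Q ε * bi M C⟨Q⟩ b = br Q ε * (β * bi M C⟨Q⟩ b) := by rw [(hmulβ b hb).1 hbO]
      _ = x * bi M C⟨Q⟩ b := by rw [hx, mul_assoc]
      _ = 0 := by rw [h0, zero_mul]
  obtain ⟨Q₁, hQQ₁, hQ₁N, hQ₁ne⟩ : ∃ Q₁ : Subgroup G, Q < Q₁ ∧ Q₁ ≤ N ∧ br Q₁ x ≠ 0 := by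
    by_contra hno
    push Not at hno
    obtain ⟨c, hc, hcx⟩ := exists_trR_of_killed hR hlt.le ((suppOn_br Q ε).mul hβs)
      (hbrεN.mul hβN) fun Q₁ h1 h2 => hno Q₁ h1 h2
    set a := trR R Q (ε * c * ε) with ha
    have hci : InvOn Q (ε * c * ε) := (hεQ.mul hc).mul hεQ
    have hai : InvOn R a := invOn_trR hci
    have hal : ε * a = a := by rw [ha, mul_trR h.inv, ← mul_assoc, ← mul_assoc, h.idem]
    have har : a * ε = a := by rw [ha, trR_mul h.inv, mul_assoc, h.idem]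
    have hbra : br R a = 0 := br_trR_self hR hlt hci
    rcases h.dichotomy hai hal har with ⟨m, hm⟩ | ⟨z, hzi, hz⟩
    · have hbrQ : br Q a = x := by
        rw [ha, ← trR_mul h.inv, ← mul_trR h.inv, br_mul hQp (hεQ.mul ((invOn_trR hc).mono hlt.le)) hεQ,
          br_mul hQp hεQ ((invOn_trR hc).mono hlt.le), hcx, hx, mul_assoc (br Q ε), mul_assoc (br Q ε),
          hcomm, ← mul_assoc (br Q ε), hεε, ← mul_assoc, hεε]
      refine hxne ?_
      have h2 : (brHom hQp ⟨a, hai.mono hlt.le⟩ : MonoidAlgebra (Res M) G) ^ (m + 1) = 0 := by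
        rw [← map_pow, show (⟨a, hai.mono hlt.le⟩ : invAlg (Res M) Q) ^ (m + 1) = 0 from
          Subtype.ext (by simp [pow_succ, hm]), map_zero]
      rwa [brHom_apply, hbrQ, IsIdempotentElem.pow_succ_eq m hxid] at h2
    · exact hne (by rw [← hz, br_mul hR hai hzi, hbra, zero_mul])
  have hQ₁R : Q₁ ≤ R := hQ₁N.trans inf_le_left
  have hQ₁p : IsPGroup p Q₁ := hR.to_le hQ₁R
  letI := Fintype.ofFinite C⟨Q₁⟩
  have hbrx : br Q₁ x = br Q₁ ε * br Q₁ β := by
    rw [hx, br_mul hQ₁p (hbrεN.mono hQ₁N) (hβN.mono hQ₁N), br_br hQQ₁.le]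
  obtain ⟨g, hg, hgne⟩ : ∃ g ∈ blocksFinset M C⟨Q₁⟩, br Q₁ x * bi M C⟨Q₁⟩ g ≠ 0 := by
    refine Finset.exists_ne_zero_of_sum_ne_zero fun h0 => hQ₁ne ?_
    rw [← Finset.mul_sum, sum_bi hM, mul_one] at h0
    exact h0
  have hgb := (mem_blocksFinset hM).1 hg
  have hβg : br Q₁ β * bi M C⟨Q₁⟩ g = bi M C⟨Q₁⟩ g * br Q₁ β :=
    ((invOn_bi g).comm (suppOn_br Q₁ β)).symm
  have hgε : br Q₁ ε * bi M C⟨Q₁⟩ g ≠ 0 := fun h0 => hgne <| by
    rw [hbrx, mul_assoc, hβg, ← mul_assoc, h0, zero_mul]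
  have hgβ : br Q₁ β * bi M C⟨Q₁⟩ g ≠ 0 := fun h0 => hgne <| by
    rw [hbrx, mul_assoc, h0, mul_zero]
  have hcard : Nat.card R - Nat.card Q₁ < n := by
    rw [← hn]
    have h1 : Nat.card Q < Nat.card Q₁ := lt_of_le_of_ne (Subgroup.card_le_of_le hQQ₁.le)
      fun h => hQQ₁.ne (Subgroup.eq_of_le_of_card_ge hQQ₁.le h.ge)
    have h2 : Nat.card Q₁ ≤ Nat.card R := Subgroup.card_le_of_le hQ₁R
    omega
  have hle := ih _ hcard Q₁ rfl hQ₁R g hgb hgε
  obtain ⟨b₀, hb₀, -⟩ := existsUnique_normalSubpair hM ⟨hQ₁p, hgb⟩ hQQ₁.le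
    (hQ₁N.trans inf_le_right)
  obtain ⟨hb₀p, -, -, -, hb₀fix, hb₀g⟩ := (isNormalSubpair_iff hM Q b₀ Q₁ g).1 hb₀
  have hb₀O : bi M C⟨Q⟩ b₀ ∈ O := by
    by_contra hnot
    refine hgβ ?_
    rw [← hb₀g, ← mul_assoc, ← br_mul hQ₁p (hβN.mono hQ₁N) (invOn_of_cj hb₀fix),
      (hmulβ b₀ hb₀p.2).2 hnot, br_zero, zero_mul]
  obtain ⟨k, hk, hkb⟩ := hOmem _ hb₀O
  have hfinal := subpairLE_conj hM
    (SubpairLE.trans' (Relation.ReflTransGen.single hb₀ : SubpairLE p M Q b₀ Q₁ g) hle) k⁻¹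
  have hidx1 : conjIdx k⁻¹ (⟨Q, b₀⟩ : BrauerPairIdx G) = ⟨Q, b⟩ := by
    refine idx_ext hM (map_conj_of_mem_normalizer (inv_mem hk.2)) (isPBlock_conjBlock _ _ hb₀p.2) hb ?_
    show bi M _ (conjBlock Q k⁻¹ b₀) = _
    rw [bi_conjBlock, ← hkb, cj_cj, inv_mul_cancel, cj_one]
  have hidx2 : conjIdx k⁻¹ (⟨R, e⟩ : BrauerPairIdx G) = ⟨R, e⟩ := by
    refine idx_ext hM (map_conj_of_mem_normalizer (inv_mem (Subgroup.le_normalizer hk.1)))
      (isPBlock_conjBlock _ _ he) he ?_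
    show bi M _ (conjBlock R k⁻¹ e) = _
    rw [bi_conjBlock, cj_eq_self_of_suppOn (suppOn_bi e) (R.inv_mem hk.1)]
  have hfinal' : Relation.ReflTransGen (NormalSubpairRel p M) (conjIdx k⁻¹ (⟨Q, b₀⟩ : BrauerPairIdx G))
      (conjIdx k⁻¹ (⟨R, e⟩ : BrauerPairIdx G)) := hfinal
  rw [hidx1, hidx2] at hfinal'
  exact hfinal'

/-- The pair belongs to every block containing the idempotent. -/
theorem isBrauerPairOf_of_prim (hM : IsPModular p M) (hR : IsPGroup p R) (h : IsPrim R ε)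
    (hne : br R ε ≠ 0) {e : Set (IrrCharacter C⟨R⟩)} (he : IsPBlock M e)
    (hεe : br R ε * bi M C⟨R⟩ e = br R ε) {B : Set (IrrCharacter G)} (hB : IsPBlock M B)
    (hεB : ε * red M (blockElem B) = ε) : IsBrauerPairOf p M B R e := by
  haveI := charP_res hM
  letI := Fintype.ofFinite C⟨R⟩
  refine (isBrauerPairOf_iff_br hM B R e).2 ⟨⟨hR, he⟩, hB, ?_⟩
  have hinv : InvOn (⊤ : Subgroup G) (red M (blockElem B)) :=
    invOn_top_iff.2 (isCentralFn_blockElem B).red
  have hid : br R (red M (blockElem B)) * br R (red M (blockElem B)) = br R (red M (blockElem B)) :=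
    br_idem hM hR (hinv.mono le_top) (by
      rw [← red_mul (integral_blockElem hM hB) (integral_blockElem hM hB), blockElem_mul_self])
  refine (mul_bi_eq_or hM (suppOn_br R _) (invOn_br (hinv.mono le_top)
    fun k hk y hy => centralizer_normalizes hk hy) hid he).resolve_right fun h0 => hne ?_
  rw [← hεe]
  conv_lhs => rw [← hεB, br_mul hR h.inv (hinv.mono le_top), mul_assoc, h0, mul_zero]

end Pairs

end Cfsg.Lib.Blocks.Star
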