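import Mathlib
import Cfsg.Agent.Blocks.Star.Lift
import Cfsg.Agent.Blocks.Star.Primitive
import Cfsg.Agent.Blocks.Star.Nonlocal
import Cfsg.Agent.Blocks.TwoMember.BlockAlgebra
import Cfsg.Agent.OddChar.Coherence

/-!
# Weighted values at idempotents

For a function `ψ` on `P` stable under the fusion of the block, `wF` weights the parts of
`χ (r · f)` belonging to the blocks of the centraliser of `r`; summed against a generalized
character of a `p`-group `R` it is divisible by `|R|`.
-/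

set_option autoImplicit false
set_option linter.unusedSectionVars false
set_option linter.style.haveILetI false

namespace Cfsg.Lib.Blocks.Star

open Cfsg.Lib.Chars
open scoped Classical ComplexConjugate

universe u

local notation "C⟨" P "⟩" => Subgroup.centralizer (SetLike.coe P)

variable {G : Type u} [Group G] [Fintype G] {M : Ideal AlgInt} {p : ℕ}

/-! ### The blocks of a centraliser as idempotents -/

/-- The block idempotents of the centraliser. -/
noncomputable def idems (M : Ideal AlgInt) (Q : Subgroup G) :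
    Finset (MonoidAlgebra (Res M) G) :=
  (blocksFinset M C⟨Q⟩).image (bi M C⟨Q⟩)

lemma mem_idems (hM : IsPModular p M) {Q : Subgroup G} {β : MonoidAlgebra (Res M) G} :
    β ∈ idems M Q ↔ ∃ b, IsPBlock M b ∧ bi M C⟨Q⟩ b = β := by
  simp only [idems, Finset.mem_image, mem_blocksFinset hM]

lemma sum_idems (hM : IsPModular p M) (Q : Subgroup G) : ∑ β ∈ idems M Q, β = 1 := by
  rw [idems, Finset.sum_image fun b hb b' hb' h =>
    bi_injective hM ((mem_blocksFinset hM).1 hb) ((mem_blocksFinset hM).1 hb') h]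
  exact sum_bi hM

lemma idems_invOn (hM : IsPModular p M) {Q : Subgroup G} {β : MonoidAlgebra (Res M) G}
    (h : β ∈ idems M Q) : InvOn Q β ∧ SuppOn C⟨Q⟩ β ∧ InvOn C⟨Q⟩ β ∧ β * β = β := by
  obtain ⟨b, hb, rfl⟩ := (mem_idems hM).1 h
  exact ⟨invOn_bi_self Q b, suppOn_bi b, invOn_bi b, bi_mul_self hM hb⟩

lemma cj_mem_idems (hM : IsPModular p M) {Q : Subgroup G} {β : MonoidAlgebra (Res M) G}
    (h : β ∈ idems M Q) (x : G) : cj x β ∈ idems M (Q.map (MulAut.conj x).toMonoidHom) := by
  obtain ⟨b, hb, rfl⟩ := (mem_idems hM).1 h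
  exact (mem_idems hM).2 ⟨_, isPBlock_conjBlock Q x hb, bi_conjBlock Q x b⟩

lemma map_conj_zpowers (x r : G) :
    (Subgroup.zpowers r).map (MulAut.conj x).toMonoidHom = Subgroup.zpowers (x * r * x⁻¹) := by
  rw [MonoidHom.map_zpowers]; simp

lemma invOn_zpowers_iff {A : Type*} [CommRing A] {r : G} {a : MonoidAlgebra A G} :
    InvOn (Subgroup.zpowers r) a ↔ Commute (sE r) a := by
  refine ⟨fun h => (invOn_iff_commute _ a).1 h r (Subgroup.mem_zpowers r), fun h => invOn_iff.2 ?_⟩
  let H : Subgroup G :=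
    { carrier := {h | cj h a = a}
      one_mem' := cj_one a
      mul_mem' := fun {g h} hg hh => by
        show cj (g * h) a = a
        rw [← cj_cj]; exact (congrArg (cj g) hh).trans hg
      inv_mem' := fun {g} hg => by
        show cj g⁻¹ a = a
        conv_lhs => rw [← (show cj g a = a from hg), cj_cj, inv_mul_cancel, cj_one] }
  have hr : r ∈ H := fn_ext fun g => by
    rw [fn_cj]
    have := (commute_sE_iff r a).1 h (r⁻¹ * g * r)
    rw [show r * (r⁻¹ * g * r) * r⁻¹ = g by group] at this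
    exact this.symm
  exact fun g hg => Subgroup.zpowers_le.2 hr hg

/-! ### The part belonging to a block of the centraliser -/

/-- `g` is the part of `f` at `β`. -/
def IsPart (r : G) (β f g : MonoidAlgebra (Res M) G) : Prop :=
  g * g = g ∧ f * g = g ∧ g * f = g ∧ InvOn (Subgroup.zpowers r) g ∧
    br (Subgroup.zpowers r) g = br (Subgroup.zpowers r) f * β

/-- The value at `r` of the part of `f` at `β`. -/
noncomputable def tp (M : Ideal AlgInt) (χ : IrrCharacter G) (r : G)
    (β f : MonoidAlgebra (Res M) G) : ℂ :=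
  if h : ∃ g, IsPart r β f g then th M χ r h.choose else 0

/-- `r` has order a power of `p`. -/
def IsPElem (p : ℕ) (r : G) : Prop := ∃ k : ℕ, orderOf r = p ^ k

lemma IsPElem.isPGroup {r : G} (h : IsPElem p r) : IsPGroup p (Subgroup.zpowers r) := by
  obtain ⟨k, hk⟩ := h
  exact IsPGroup.of_card (n := k) (by rw [Nat.card_zpowers, hk])

lemma IsPElem.conj {r : G} (h : IsPElem p r) (x : G) : IsPElem p (x * r * x⁻¹) := by
  obtain ⟨k, hk⟩ := h
  refine ⟨k, ?_⟩
  rw [← hk]
  exact orderOf_injective (MulAut.conj x).toMonoidHom (MulAut.conj x).injective r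

lemma isPElem_of_mem [Fact p.Prime] {R : Subgroup G} (hR : IsPGroup p R) {r : G} (hr : r ∈ R) :
    IsPElem p r := by
  obtain ⟨k, hk⟩ := IsPGroup.iff_orderOf.1 hR ⟨r, hr⟩
  exact ⟨k, by rw [← hk, ← Subgroup.orderOf_coe]⟩

variable [Fact p.Prime] {r : G} {β f : MonoidAlgebra (Res M) G}

theorem tp_eq (hM : IsPModular p M) (χ : IrrCharacter G) (hr : IsPElem p r)
    {g : MonoidAlgebra (Res M) G} (hg : IsPart r β f g) : tp M χ r β f = th M χ r g := by
  haveI := charP_res hM
  have h : ∃ g, IsPart r β f g := ⟨g, hg⟩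
  rw [tp, dif_pos h]
  obtain ⟨h1, -, -, h2, h3⟩ := h.choose_spec
  obtain ⟨k1, -, -, k2, k3⟩ := hg
  set a := h.choose
  obtain ⟨a', g', e1, e2, e3, e4, f1, f2, f3, f4, u, v, huv, hvu⟩ :=
    exists_equiv_below (k := Res M) (brHom (A := Res M) hr.isPGroup)
      (f := (⟨a, h2⟩ : invAlg (Res M) (Subgroup.zpowers r))) (f' := ⟨g, k2⟩) (Subtype.ext h1)
      (Subtype.ext k1) (by rw [brHom_apply, brHom_apply, h3, k3])
  have key : ∀ (a : MonoidAlgebra (Res M) G) (ha : InvOn (Subgroup.zpowers r) a)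
      (a' : invAlg (Res M) (Subgroup.zpowers r)), a * a = a → a' * a' = a' → ⟨a, ha⟩ * a' = a' →
      a' * ⟨a, ha⟩ = a' → br (Subgroup.zpowers r) (a' : MonoidAlgebra (Res M) G) =
        br (Subgroup.zpowers r) a → th M χ r a = th M χ r (a' : MonoidAlgebra (Res M) G) := by
    intro a ha a' haa ha'' hl hr' hbr
    have l1 : a * (a' : MonoidAlgebra (Res M) G) = a' := congrArg Subtype.val hl
    have l2 : (a' : MonoidAlgebra (Res M) G) * a = a' := congrArg Subtype.val hr'
    have l3 : (a' : MonoidAlgebra (Res M) G) * a' = a' := congrArg Subtype.val ha''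
    have cr := invOn_zpowers_iff.1 ha
    have cr' := invOn_zpowers_iff.1 a'.2
    have hd : (a - a') * (a - (a' : MonoidAlgebra (Res M) G)) = a - a' := by
      rw [sub_mul, mul_sub, mul_sub, haa, l1, l2, l3]; abel
    have hadd := th_add χ l3 hd (by rw [mul_sub, l2, l3, sub_self])
      (by rw [sub_mul, l1, l3, sub_self]) cr' (cr.sub_right cr')
    rw [add_sub_cancel] at hadd
    have h0 : br (Subgroup.zpowers r) (a - (a' : MonoidAlgebra (Res M) G)) = 0 := by
      have h' := br_add' (Subgroup.zpowers r) (a - (a' : MonoidAlgebra (Res M) G)) a'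
      rw [sub_add_cancel, hbr] at h'
      exact right_eq_add.1 h'
    rw [hadd, th_eq_zero hM χ hr hd (cr.sub_right cr') h0, add_zero]
  rw [brHom_apply, brHom_apply] at e4
  rw [brHom_apply, brHom_apply] at f4
  rw [key a h2 a' h1 e1 e2 e3 e4, key g k2 g' k1 f1 f2 f3 (f4.trans (h3.trans k3.symm))]
  exact th_equiv χ (congrArg Subtype.val e1) (congrArg Subtype.val f1) (invOn_zpowers_iff.1 a'.2)
    (invOn_zpowers_iff.1 g'.2) (invOn_zpowers_iff.1 u.2) (invOn_zpowers_iff.1 v.2)
    (congrArg Subtype.val huv) (congrArg Subtype.val hvu)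

theorem exists_part (hM : IsPModular p M) (hr : IsPElem p r) (hβ : β ∈ idems M (Subgroup.zpowers r))
    (hf : f * f = f) (hfi : InvOn (Subgroup.zpowers r) f) : ∃ g, IsPart r β f g := by
  haveI := charP_res hM
  obtain ⟨hβi, hβs, hβc, hββ⟩ := idems_invOn hM hβ
  have hP := hr.isPGroup
  have hid := br_idem hM hP hfi hf
  have hcomm : β * br (Subgroup.zpowers r) f = br (Subgroup.zpowers r) f * β :=
    hβc.comm (suppOn_br _ f)
  have hbr : br (Subgroup.zpowers r) (f * β * f) = br (Subgroup.zpowers r) f * β := by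
    rw [br_mul hP (hfi.mul hβi) hfi, br_mul hP hfi hβi,
      show br _ β = β from trunc_eq_self hβs, mul_assoc, hcomm, ← mul_assoc, hid]
  obtain ⟨g, h1, h2, h3, h4, -⟩ := exists_idem_below (k := Res M) (brHom (A := Res M) hP)
    (f := (⟨f, hfi⟩ : invAlg (Res M) (Subgroup.zpowers r))) (a := ⟨f * β * f, (hfi.mul hβi).mul hfi⟩)
    (Subtype.ext (by simp [← mul_assoc, hf])) (Subtype.ext (by simp [mul_assoc, hf]))
    (by
      rw [brHom_apply, hbr, mul_assoc, ← mul_assoc β, hcomm, mul_assoc, hββ, ← mul_assoc, hid])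
  rw [brHom_apply, brHom_apply, hbr] at h4
  exact ⟨g, congrArg Subtype.val h1, congrArg Subtype.val h2, congrArg Subtype.val h3, g.2, h4⟩

theorem tp_eq_zero (hM : IsPModular p M) (χ : IrrCharacter G) (hr : IsPElem p r)
    (h : br (Subgroup.zpowers r) f * β = 0) : tp M χ r β f = 0 := by
  rw [tp_eq hM χ hr (g := 0) ⟨mul_zero _, mul_zero _, zero_mul _,
    fun _ _ _ => by rw [fn_zero, fn_zero], by rw [br_zero, h]⟩, th_zero]

theorem tp_add (hM : IsPModular p M) (χ : IrrCharacter G) (hr : IsPElem p r)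
    (hβ : β ∈ idems M (Subgroup.zpowers r)) {f' : MonoidAlgebra (Res M) G} (hf : f * f = f)
    (hf' : f' * f' = f') (h : f * f' = 0) (h' : f' * f = 0)
    (hfi : InvOn (Subgroup.zpowers r) f) (hfi' : InvOn (Subgroup.zpowers r) f') :
    tp M χ r β (f + f') = tp M χ r β f + tp M χ r β f' := by
  obtain ⟨g, hg⟩ := exists_part hM hr hβ hf hfi
  obtain ⟨g', hg'⟩ := exists_part hM hr hβ hf' hfi'
  rw [tp_eq hM χ hr hg, tp_eq hM χ hr hg']
  obtain ⟨a1, a2, a3, a4, a5⟩ := hg
  obtain ⟨b1, b2, b3, b4, b5⟩ := hg'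
  have e1 : g * g' = 0 := by
    calc g * g' = g * f * (f' * g') := by rw [a3, b2]
      _ = g * (f * f') * g' := by simp only [mul_assoc]
      _ = 0 := by rw [h, mul_zero, zero_mul]
  have e2 : g' * g = 0 := by
    calc g' * g = g' * f' * (f * g) := by rw [b3, a2]
      _ = g' * (f' * f) * g := by simp only [mul_assoc]
      _ = 0 := by rw [h', mul_zero, zero_mul]
  have e3 : f * g' = 0 := by rw [← b2, ← mul_assoc, h, zero_mul]
  have e4 : f' * g = 0 := by rw [← a2, ← mul_assoc, h', zero_mul]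
  have e5 : g * f' = 0 := by rw [← a3, mul_assoc, h, mul_zero]
  have e6 : g' * f = 0 := by rw [← b3, mul_assoc, h', mul_zero]
  rw [tp_eq hM χ hr (g := g + g') ⟨by rw [add_mul, mul_add, mul_add, a1, b1, e1, e2]; abel,
      by rw [add_mul, mul_add, mul_add, a2, b2, e3, e4]; abel,
      by rw [add_mul, mul_add, mul_add, a3, b3, e5, e6]; abel,
      (invAlg (Res M) _).add_mem a4 b4, by rw [br_add', br_add', a5, b5, add_mul]⟩]
  exact th_add χ a1 b1 e1 e2 (invOn_zpowers_iff.1 a4) (invOn_zpowers_iff.1 b4)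

theorem tp_equiv (hM : IsPModular p M) (χ : IrrCharacter G) (hr : IsPElem p r)
    (hβ : β ∈ idems M (Subgroup.zpowers r)) {f' u v : MonoidAlgebra (Res M) G} (hf : f * f = f)
    (hf' : f' * f' = f') (hfi : InvOn (Subgroup.zpowers r) f)
    (hu : InvOn (Subgroup.zpowers r) u) (hv : InvOn (Subgroup.zpowers r) v) (huv : u * v = f)
    (hvu : v * u = f') : tp M χ r β f = tp M χ r β f' := by
  haveI := charP_res hM
  obtain ⟨g, hg⟩ := exists_part hM hr hβ hf hfi
  rw [tp_eq hM χ hr hg]
  obtain ⟨a1, a2, a3, a4, a5⟩ := hg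
  have hi : InvOn (Subgroup.zpowers r) (v * g * u) := (hv.mul a4).mul hu
  have hid : v * g * u * (v * g * u) = v * g * u := by
    calc v * g * u * (v * g * u) = v * (g * (u * v) * g) * u := by simp only [mul_assoc]
      _ = _ := by rw [huv, a3, a1]
  have hl : f' * (v * g * u) = v * g * u := by
    calc f' * (v * g * u) = v * ((u * v) * g) * u := by rw [← hvu]; simp only [mul_assoc]
      _ = _ := by rw [huv, a2]
  have hr' : v * g * u * f' = v * g * u := by
    calc v * g * u * f' = v * (g * (u * v)) * u := by rw [← hvu]; simp only [mul_assoc]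
      _ = _ := by rw [huv, a3]
  have hbr : br (Subgroup.zpowers r) (v * g * u) = br (Subgroup.zpowers r) f' * β := by
    have hP := hr.isPGroup
    obtain ⟨-, -, hβc, -⟩ := idems_invOn hM hβ
    calc br (Subgroup.zpowers r) (v * g * u)
        = br (Subgroup.zpowers r) v * (br (Subgroup.zpowers r) f * (β * br (Subgroup.zpowers r) u)) := by
          rw [br_mul hP (hv.mul a4) hu, br_mul hP hv a4, a5]; simp only [mul_assoc]
      _ = br (Subgroup.zpowers r) (v * f * u) * β := by
          rw [show β * br _ u = br _ u * β from hβc.comm (suppOn_br _ u),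
            br_mul hP (hv.mul hfi) hu, br_mul hP hv hfi]; simp only [mul_assoc]
      _ = _ := by
          rw [show v * f * u = f' by
            calc v * f * u = (v * u) * (v * u) := by rw [← huv]; simp only [mul_assoc]
              _ = f' := by rw [hvu, hf']]
  rw [tp_eq hM χ hr (g := v * g * u) ⟨hid, hl, hr', hi, hbr⟩]
  refine th_equiv χ a1 hid (invOn_zpowers_iff.1 a4) (invOn_zpowers_iff.1 hi)
    (u := g * u) (v := v * g) (invOn_zpowers_iff.1 (a4.mul hu)) (invOn_zpowers_iff.1 (hv.mul a4)) ?_ ?_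
  · calc g * u * (v * g) = g * (u * v) * g := by simp only [mul_assoc]
      _ = g := by rw [huv, a3, a1]
  · calc v * g * (g * u) = v * (g * g) * u := by simp only [mul_assoc]
      _ = _ := by rw [a1]

theorem tp_cj (hM : IsPModular p M) (χ : IrrCharacter G) (hr : IsPElem p r)
    (hβ : β ∈ idems M (Subgroup.zpowers r)) (hf : f * f = f)
    (hfi : InvOn (Subgroup.zpowers r) f) (x : G) :
    tp M χ (x * r * x⁻¹) (cj x β) (cj x f) = tp M χ r β f := by
  obtain ⟨g, hg⟩ := exists_part hM hr hβ hf hfi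
  rw [tp_eq hM χ hr hg]
  obtain ⟨a1, a2, a3, a4, a5⟩ := hg
  have hi : InvOn (Subgroup.zpowers (x * r * x⁻¹)) (cj x g) := by
    refine a4.cj fun k hk => ?_
    rw [← map_conj_zpowers] at hk
    obtain ⟨y, hy, rfl⟩ := hk
    simpa [mul_assoc] using hy
  rw [tp_eq hM χ (hr.conj x) (g := cj x g) ⟨by rw [← cj_mul, a1], by rw [← cj_mul, a2],
    by rw [← cj_mul, a3], hi, by
      rw [← map_conj_zpowers, ← cj_br, ← cj_br, a5, cj_mul]⟩]
  exact th_cj χ x a1 (invOn_zpowers_iff.1 a4)

/-! ### Weights -/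

/-- `t` carries `(⟨r⟩, β)` below `(P, c)`. -/
def Below (p : ℕ) (M : Ideal AlgInt) (P : Subgroup G) (c : Set (IrrCharacter C⟨P⟩)) (r : G)
    (β : MonoidAlgebra (Res M) G) (t : G) : Prop :=
  ∃ (Q : Subgroup G) (f : Set (IrrCharacter C⟨Q⟩)), Q = Subgroup.zpowers (t * r * t⁻¹) ∧
    SubpairLE p M Q f P c ∧ bi M C⟨Q⟩ f = cj t β

/-- Stability under the fusion of the block. -/
def Stable (p : ℕ) (M : Ideal AlgInt) (P : Subgroup G) (c : Set (IrrCharacter C⟨P⟩))
    (ψ : G → ℂ) : Prop :=
  ∀ (y g : G) (β : MonoidAlgebra (Res M) G), Below p M P c y β 1 → Below p M P c y β g →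
    ψ (g * y * g⁻¹) = ψ y

/-- The value of `ψ` at a subsection. -/
noncomputable def weight (p : ℕ) (M : Ideal AlgInt) (P : Subgroup G)
    (c : Set (IrrCharacter C⟨P⟩)) (ψ : G → ℂ) (r : G) (β : MonoidAlgebra (Res M) G) : ℂ :=
  if h : ∃ t, Below p M P c r β t then ψ (h.choose * r * h.choose⁻¹) else 0

variable {P : Subgroup G} {c : Set (IrrCharacter C⟨P⟩)} {ψ : G → ℂ}

lemma below_conj_iff (x t : G) :
    Below p M P c (x * r * x⁻¹) (cj x β) t ↔ Below p M P c r β (t * x) := by
  unfold Below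
  rw [cj_cj, show t * (x * r * x⁻¹) * t⁻¹ = t * x * r * (t * x)⁻¹ by group]

theorem weight_eq (hψ : Stable p M P c ψ) {t : G} (ht : Below p M P c r β t) :
    weight p M P c ψ r β = ψ (t * r * t⁻¹) := by
  have h : ∃ t, Below p M P c r β t := ⟨t, ht⟩
  rw [weight, dif_pos h]
  have h' := h.choose_spec
  set t' := h.choose
  have h1 : Below p M P c (t * r * t⁻¹) (cj t β) 1 := by rwa [below_conj_iff, one_mul]
  have h2 : Below p M P c (t * r * t⁻¹) (cj t β) (t' * t⁻¹) := by
    rwa [below_conj_iff, inv_mul_cancel_right]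
  rw [← hψ _ _ _ h1 h2]
  congr 1
  group

theorem weight_cj (hψ : Stable p M P c ψ) (x : G) :
    weight p M P c ψ (x * r * x⁻¹) (cj x β) = weight p M P c ψ r β := by
  by_cases h : ∃ t, Below p M P c r β t
  · obtain ⟨t, ht⟩ := h
    rw [weight_eq hψ ht, weight_eq hψ (t := t * x⁻¹) (by rwa [below_conj_iff, inv_mul_cancel_right])]
    congr 1
    group
  · rw [weight, weight, dif_neg h, dif_neg fun ⟨t, ht⟩ => h ⟨t * x, (below_conj_iff x t).1 ht⟩]

/-- The weighted value. -/
noncomputable def wF (p : ℕ) (M : Ideal AlgInt) (P : Subgroup G) (c : Set (IrrCharacter C⟨P⟩))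
    (ψ : G → ℂ) (χ : IrrCharacter G) (r : G) (f : MonoidAlgebra (Res M) G) : ℂ :=
  ∑ β ∈ idems M (Subgroup.zpowers r), weight p M P c ψ r β * tp M χ r β f

theorem wF_cj (hM : IsPModular p M) (hψ : Stable p M P c ψ) (χ : IrrCharacter G) (hr : IsPElem p r)
    (hf : f * f = f) (hfi : InvOn (Subgroup.zpowers r) f) (x : G) :
    wF p M P c ψ χ (x * r * x⁻¹) (cj x f) = wF p M P c ψ χ r f := by
  refine (Finset.sum_bij' (fun β _ => cj x β) (fun β _ => cj x⁻¹ β) ?_ ?_
    (fun β _ => by rw [cj_cj, inv_mul_cancel, cj_one])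
    (fun β _ => by rw [cj_cj, mul_inv_cancel, cj_one]) ?_).symm
  · intro β hβ
    have := cj_mem_idems hM hβ x
    rwa [map_conj_zpowers] at this
  · intro β hβ
    have := cj_mem_idems hM hβ x⁻¹
    rwa [map_conj_zpowers, show x⁻¹ * (x * r * x⁻¹) * x⁻¹⁻¹ = r by group] at this
  · intro β hβ
    rw [weight_cj hψ, tp_cj hM χ hr hβ hf hfi]

theorem wF_add (hM : IsPModular p M) (χ : IrrCharacter G) (hr : IsPElem p r)
    {f' : MonoidAlgebra (Res M) G} (hf : f * f = f) (hf' : f' * f' = f') (h : f * f' = 0)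
    (h' : f' * f = 0) (hfi : InvOn (Subgroup.zpowers r) f) (hfi' : InvOn (Subgroup.zpowers r) f') :
    wF p M P c ψ χ r (f + f') = wF p M P c ψ χ r f + wF p M P c ψ χ r f' := by
  simp only [wF, ← Finset.sum_add_distrib]
  exact Finset.sum_congr rfl fun β hβ => by rw [tp_add hM χ hr hβ hf hf' h h' hfi hfi', mul_add]

theorem wF_zero (hM : IsPModular p M) (χ : IrrCharacter G) (hr : IsPElem p r) :
    wF p M P c ψ χ r 0 = 0 :=
  Finset.sum_eq_zero fun β _ => by rw [tp_eq_zero hM χ hr (by rw [br_zero, zero_mul]), mul_zero]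

/-- The weighted value at a primitive idempotent with a pair. -/
theorem wF_prim (hM : IsPModular p M) (hψ : Stable p M P c ψ) (χ : IrrCharacter G)
    {R : Subgroup G} (hR : IsPGroup p R) {ε : MonoidAlgebra (Res M) G} (hε : IsPrim R ε)
    (hne : br R ε ≠ 0) {e : Set (IrrCharacter C⟨R⟩)} (he : IsPBlock M e)
    (hεe : br R ε * bi M C⟨R⟩ e = br R ε) {x : G}
    (hx : SubpairLE p M (R.map (MulAut.conj x).toMonoidHom) (conjBlock R x e) P c)
    (hr : r ∈ R) : wF p M P c ψ χ r ε = ψ (x * r * x⁻¹) * th M χ r ε := by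
  haveI := charP_res hM
  set Q := Subgroup.zpowers r
  have hQR : Q ≤ R := Subgroup.zpowers_le.2 hr
  have hrp := isPElem_of_mem hR hr
  obtain ⟨b, hb, huniq⟩ := existsUnique_subpairLE hM (show IsBrauerPair p M R e from ⟨hR, he⟩) hQR
  have hbb := (subpairLE_isBrauerPair ⟨hR, he⟩ hb).2
  have hzero : ∀ β ∈ idems M Q, β ≠ bi M C⟨Q⟩ b → br Q ε * β = 0 := by
    intro β hβ hne'
    obtain ⟨b', hb', rfl⟩ := (mem_idems hM).1 hβ
    by_contra h
    exact hne' (by rw [huniq b' (hε.subpairLE hM hR hne he hεe Q hQR b' hb' h)])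
  have hbm : bi M C⟨Q⟩ b ∈ idems M Q := (mem_idems hM).2 ⟨b, hbb, rfl⟩
  have hall : br Q ε * bi M C⟨Q⟩ b = br Q ε := by
    conv_rhs => rw [← mul_one (br Q ε), ← sum_idems hM Q, Finset.mul_sum,
      Finset.sum_eq_single_of_mem _ hbm hzero]
  rw [wF, Finset.sum_eq_single_of_mem _ hbm fun β hβ h => by
    rw [tp_eq_zero hM χ hrp (hzero β hβ h), mul_zero]]
  rw [tp_eq hM χ hrp (g := ε) ⟨hε.idem, hε.idem, hε.idem, hε.inv.mono hQR, hall.symm⟩,
    weight_eq hψ (t := x) ⟨_, conjBlock Q x b, map_conj_zpowers x r,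
      SubpairLE.trans' (subpairLE_conj hM hb x) hx, bi_conjBlock Q x b⟩]

/-- **Integrality of the weighted values.** -/
theorem wF_integral (hM : IsPModular p M) {B : Set (IrrCharacter G)}
    (hmax : IsMaximalBrauerPair p M B P c) (hψ : Stable p M P c ψ)
    (hψg : IsGeneralizedCharacter P (fun y : P => ψ y)) (χ : IrrCharacter G) :
    ∀ R : Subgroup G, IsPGroup p R → ∀ θ : G → ℂ, IsGeneralizedCharacter R (fun r : R => θ r) →
      ∀ ε : MonoidAlgebra (Res M) G, InvOn R ε → ε * ε = ε → ε * red M (blockElem B) = ε →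
        ∃ z : ℤ, ∑ r : R, conj (θ r) * wF p M P c ψ χ (r : G) ε = (Nat.card R : ℂ) * z := by
  haveI := charP_res hM
  haveI := TwoMember.isAlgClosed_res M
  have hB := hmax.1.2.1
  set E := red M (blockElem B) with hE
  have hEc : InvOn (⊤ : Subgroup G) E := invOn_top_iff.2 (isCentralFn_blockElem B).red
  have hEE : E * E = E := by
    rw [hE, ← red_mul (integral_blockElem hM hB) (integral_blockElem hM hB), blockElem_mul_self]
  intro R
  induction hn : Nat.card R using Nat.strong_induction_on generalizing R with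
  | _ n ih =>
  intro hR θ hθ ε hεi hεε hεE
  subst hn
  refine induction_prim (motive := fun f => ∃ z : ℤ,
    ∑ r : R, conj (θ r) * wF p M P c ψ χ (r : G) f = (Nat.card R : ℂ) * z)
    ⟨0, by simp [fun r : R => wF_zero (P := P) (c := c) (ψ := ψ) hM χ (isPElem_of_mem hR r.2)]⟩
    ?_ ?_ hεi hεε
  swap
  · intro e f hei hfi he hf hef hfe _ _ ⟨z, hz⟩ ⟨w, hw⟩
    refine ⟨z + w, ?_⟩
    rw [Int.cast_add, mul_add, ← hz, ← hw, ← Finset.sum_add_distrib]
    exact Finset.sum_congr rfl fun r _ => by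
      rw [wF_add hM χ (isPElem_of_mem hR r.2) he hf hef hfe (hei.mono (Subgroup.zpowers_le.2 r.2))
        (hfi.mono (Subgroup.zpowers_le.2 r.2)), mul_add]
  intro e he heε _
  have heE : e * E = e := by rw [← heε, mul_assoc, hεE]
  by_cases hbr : br R e = 0
  · -- a trace from a maximal subgroup
    obtain ⟨K, hKR, hKN, hKi, a, hai, -, -, htr⟩ := he.exists_trR hR hbr
    have hnorm : ∀ s ∈ R, ∀ k : G, s * k * s⁻¹ ∈ K ↔ k ∈ K := fun s hs k =>
      (Subgroup.mem_normalizer_iff.1 (hKN hs) k).symm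
    have hout : ∀ r : R, (r : G) ∉ K → wF p M P c ψ χ (r : G) e = 0 := fun r hr => by
      refine Finset.sum_eq_zero fun β _ => ?_
      rw [tp_eq_zero hM χ (isPElem_of_mem hR r.2), mul_zero]
      rw [← htr, br_trR_eq_zero (isPElem_of_mem hR r.2).isPGroup (Subgroup.zpowers_le.2 r.2)
        (fun s hs => ⟨r, Subgroup.mem_zpowers _, fun h => hr ?_⟩) hai, zero_mul]
      rwa [← hnorm s⁻¹ (R.inv_mem hs), inv_inv]
    have hsum : ∑ r : R, conj (θ r) * wF p M P c ψ χ (r : G) e =
        ∑ r : K, conj (θ r) * wF p M P c ψ χ (r : G) e := by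
      rw [← Finset.sum_subtype (Finset.univ.filter (· ∈ R)) (fun x => by simp)
          (fun x : G => conj (θ x) * wF p M P c ψ χ x e),
        ← Finset.sum_subtype (Finset.univ.filter (· ∈ K)) (fun x => by simp)
          (fun x : G => conj (θ x) * wF p M P c ψ χ x e)]
      refine (Finset.sum_subset (fun x hx => ?_) fun x hx hx' => ?_).symm
      · simp only [Finset.mem_filter, Finset.mem_univ, true_and] at hx ⊢; exact hKR.le hx
      · simp only [Finset.mem_filter, Finset.mem_univ, true_and] at hx hx'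
        rw [hout ⟨x, hx⟩ hx', mul_zero]
    have hcardK : Nat.card K < Nat.card R := lt_of_le_of_ne (Subgroup.card_le_of_le hKR.le)
      fun h => hKR.ne (Subgroup.eq_of_le_of_card_ge hKR.le h.ge)
    have hKp : IsPGroup p K := hR.to_le hKR.le
    have hθK : IsGeneralizedCharacter K (fun r : K => θ r) :=
      IsGeneralizedCharacter.comp_hom hθ (Subgroup.inclusion hKR.le)
    have hfE : ∀ f : invAlg (Res M) K, f * f = f → InvOn K ((f : MonoidAlgebra (Res M) G) * E) ∧
        (f : MonoidAlgebra (Res M) G) * E * ((f : MonoidAlgebra (Res M) G) * E) = f * E ∧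
        (f : MonoidAlgebra (Res M) G) * E * E = f * E := fun f hf => by
      have h1 : (f : MonoidAlgebra (Res M) G) * f = f := congrArg Subtype.val hf
      refine ⟨f.2.mul (hEc.mono le_top), ?_, by rw [mul_assoc, hEE]⟩
      rw [mul_assoc, ← mul_assoc E, (invOn_top_iff.1 hEc).comm, mul_assoc, hEE, ← mul_assoc, h1]
    have hEcomm : ∀ a : MonoidAlgebra (Res M) G, E * a = a * E := fun a =>
      (invOn_top_iff.1 hEc).comm a
    have hex : ∀ f : invAlg (Res M) K, f * f = f → ∃ z : ℤ,
        ∑ r : K, conj (θ r) * wF p M P c ψ χ (r : G) ((f : MonoidAlgebra (Res M) G) * E) =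
          (Nat.card K : ℂ) * z := fun f hf =>
      ih _ hcardK K rfl hKp θ hθK _ (hfE f hf).1 (hfE f hf).2.1 (hfE f hf).2.2
    set Γ : invAlg (Res M) K → ℤ := fun f => if hf : f * f = f then (hex f hf).choose else 0 with hΓ
    have hΓspec : ∀ f : invAlg (Res M) K, f * f = f →
        ∑ r : K, conj (θ r) * wF p M P c ψ χ (r : G) ((f : MonoidAlgebra (Res M) G) * E) =
          (Nat.card K : ℂ) * Γ f := fun f hf => by
      simp only [hΓ, dif_pos hf]; exact (hex f hf).choose_spec
    have hcancel : ∀ a b : ℤ, (Nat.card K : ℂ) * a = (Nat.card K : ℂ) * b → a = b := fun a b h =>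
      Int.cast_injective (mul_left_cancel₀ (Nat.cast_ne_zero.2 Nat.card_pos.ne') h)
    have hzp : ∀ (r : K) {f : MonoidAlgebra (Res M) G}, InvOn K f →
        InvOn (Subgroup.zpowers (r : G)) f := fun r f hf => hf.mono (Subgroup.zpowers_le.2 r.2)
    have hadd : ∀ f f' : invAlg (Res M) K, f * f = f → f' * f' = f' → f * f' = 0 → f' * f = 0 →
        Γ (f + f') = Γ f + Γ f' := by
      intro f f' hf hf' h h'
      refine hcancel _ _ ?_
      have hff : (f + f') * (f + f') = f + f' := by rw [add_mul, mul_add, mul_add, hf, hf', h, h']; abel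
      rw [Int.cast_add, mul_add, ← hΓspec f hf, ← hΓspec f' hf', ← hΓspec _ hff,
        ← Finset.sum_add_distrib]
      refine Finset.sum_congr rfl fun r _ => ?_
      rw [Subalgebra.coe_add, add_mul, wF_add hM χ (isPElem_of_mem hKp r.2) (hfE f hf).2.1
        (hfE f' hf').2.1 ?_ ?_ (hzp r (hfE f hf).1) (hzp r (hfE f' hf').1), mul_add]
      · rw [mul_assoc, ← mul_assoc E, hEcomm, mul_assoc, hEE, ← mul_assoc,
          show (f : MonoidAlgebra (Res M) G) * f' = 0 from congrArg Subtype.val h, zero_mul]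
      · rw [mul_assoc, ← mul_assoc E, hEcomm, mul_assoc, hEE, ← mul_assoc,
          show (f' : MonoidAlgebra (Res M) G) * f = 0 from congrArg Subtype.val h', zero_mul]
    have hequiv : ∀ f f' : invAlg (Res M) K, f * f = f → f' * f' = f' → Equiv' f f' → Γ f = Γ f' := by
      rintro f f' hf hf' ⟨u, v, huv, hvu⟩
      refine hcancel _ _ ?_
      rw [← hΓspec f hf, ← hΓspec f' hf']
      refine Finset.sum_congr rfl fun r _ => congrArg _ (Finset.sum_congr rfl fun β hβ => congrArg _ ?_)
      refine tp_equiv hM χ (isPElem_of_mem hKp r.2) hβ (u := (u : MonoidAlgebra (Res M) G) * E)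
        (v := (v : MonoidAlgebra (Res M) G) * E) (hfE f hf).2.1 (hfE f' hf').2.1 (hzp r (hfE f hf).1)
        (hzp r (u.2.mul (hEc.mono le_top))) (hzp r (v.2.mul (hEc.mono le_top))) ?_ ?_
      · rw [mul_assoc, ← mul_assoc E, hEcomm, mul_assoc, hEE, ← mul_assoc,
          show (u : MonoidAlgebra (Res M) G) * v = f from congrArg Subtype.val huv]
      · rw [mul_assoc, ← mul_assoc E, hEcomm, mul_assoc, hEE, ← mul_assoc,
          show (v : MonoidAlgebra (Res M) G) * u = f' from congrArg Subtype.val hvu]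
    obtain ⟨s₀, hs₀R, hs₀K⟩ := SetLike.exists_of_lt hKR
    have hcjK : ∀ x ∈ R, ∀ a : MonoidAlgebra (Res M) G, InvOn K a → InvOn K (cj x a) :=
      fun x hx a ha => ha.cj fun k hk => by
        have := (hnorm x⁻¹ (R.inv_mem hx) k).2 hk
        rwa [inv_inv] at this
    let σ : invAlg (Res M) K ≃ₐ[Res M] invAlg (Res M) K :=
      { toFun := fun a => ⟨cj s₀ (a : MonoidAlgebra (Res M) G), hcjK _ hs₀R _ a.2⟩
        invFun := fun a => ⟨cj s₀⁻¹ (a : MonoidAlgebra (Res M) G), hcjK _ (R.inv_mem hs₀R) _ a.2⟩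
        left_inv := fun a => Subtype.ext (by simp [cj_cj, cj_one])
        right_inv := fun a => Subtype.ext (by simp [cj_cj, cj_one])
        map_mul' := fun a b => Subtype.ext (by simp [cj_mul])
        map_add' := fun a b => Subtype.ext (by simp [cj_add'])
        commutes' := fun t => Subtype.ext (by
          show cj s₀ (algebraMap (Res M) (MonoidAlgebra (Res M) G) t) = algebraMap (Res M) _ t
          rw [Algebra.algebraMap_eq_smul_one, cj_smul', invOn_iff.1 (invOn_one R) _ hs₀R]) }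
    have hσl : ∀ (l : ℕ) (a : invAlg (Res M) K),
        ((σ ^ l) a : MonoidAlgebra (Res M) G) = cj (s₀ ^ l) a := by
      intro l
      induction l with
      | zero => intro a; rw [pow_zero, pow_zero, cj_one]; rfl
      | succ l ihl =>
        intro a
        rw [pow_succ' σ, AlgEquiv.mul_apply, pow_succ' s₀, ← cj_cj, ← ihl]
        rfl
    haveI : (K.subgroupOf R).Normal := normal_subgroupOf_of_le_normalizer hKN
    have hKidx : (K.subgroupOf R).index = p := hKi
    have hs₀p : s₀ ^ p ∈ K := by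
      have := (K.subgroupOf R).pow_index_mem ⟨s₀, hs₀R⟩
      rw [hKidx] at this
      exact this
    have hσp : σ ^ p = 1 := AlgEquiv.ext fun a => Subtype.ext (by
      rw [hσl, invOn_iff.1 a.2 _ hs₀p]; rfl)
    have hΓσ : ∀ f : invAlg (Res M) K, f * f = f → Γ (σ f) = Γ f := by
      intro f hf
      refine hcancel _ _ ?_
      rw [← hΓspec f hf, ← hΓspec (σ f) (by rw [← map_mul, hf])]
      let cK : K ≃ K :=
        { toFun := fun r => ⟨s₀ * r * s₀⁻¹, (hnorm s₀ hs₀R r).2 r.2⟩
          invFun := fun r => ⟨s₀⁻¹ * r * s₀, by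
            have := (hnorm s₀⁻¹ (R.inv_mem hs₀R) r).2 r.2; rwa [inv_inv] at this⟩
          left_inv := fun r => Subtype.ext (by group)
          right_inv := fun r => Subtype.ext (by group) }
      refine (Fintype.sum_equiv cK _ _ fun r => ?_).symm
      show _ = conj (θ (s₀ * r * s₀⁻¹)) *
        wF p M P c ψ χ (s₀ * r * s₀⁻¹) (cj s₀ (f : MonoidAlgebra (Res M) G) * E)
      rw [show cj s₀ (f : MonoidAlgebra (Res M) G) * E =
          cj s₀ ((f : MonoidAlgebra (Res M) G) * E) by
            rw [cj_mul, invOn_iff.1 hEc s₀ (Subgroup.mem_top _)],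
        wF_cj hM hψ χ (isPElem_of_mem hKp r.2) (hfE f hf).2.1 (hzp r (hfE f hf).1)]
      congr 2
      exact (isClassFunction_generalized hθ ⟨r, hKR.le r.2⟩ ⟨s₀, hs₀R⟩).symm
    set q₀ : R ⧸ K.subgroupOf R := ((⟨s₀, hs₀R⟩ : R) : R ⧸ K.subgroupOf R) with hq₀
    have hord : orderOf q₀ = p := orderOf_eq_prime
      (by rw [hq₀, ← QuotientGroup.mk_pow, QuotientGroup.eq_one_iff]; exact hs₀p)
      (by rw [hq₀, Ne, QuotientGroup.eq_one_iff]; exact hs₀K)
    have htr' : (⟨e, he.inv.mono hKR.le⟩ : invAlg (Res M) K) =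
        ∑ l ∈ Finset.range p, (σ ^ l) ⟨a, hai⟩ := by
      refine Subtype.ext ?_
      rw [AddSubmonoidClass.coe_finset_sum]
      simp only [hσl]
      rw [← Fin.sum_univ_eq_sum_range (fun l => cj (s₀ ^ l) a) p, ← htr, trR]
      symm
      have hbij : Function.Bijective (fun l : Fin p => q₀ ^ (l : ℕ)) := by
        rw [Fintype.bijective_iff_injective_and_card]
        refine ⟨fun l l' h => Fin.ext ?_, ?_⟩
        · exact pow_injOn_Iio_orderOf (by rw [Set.mem_Iio, hord]; exact l.2)
            (by rw [Set.mem_Iio, hord]; exact l'.2) h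
        · rw [Fintype.card_fin, ← Nat.card_eq_fintype_card]; exact hKidx.symm
      refine Fintype.sum_bijective _ hbij _ _ fun l => ?_
      rw [hq₀, ← QuotientGroup.mk_pow, cj_mk_out hai]
      rfl
    obtain ⟨z, hz⟩ := dvd_of_sum_auto σ hσp Γ hadd hequiv hΓσ
      (show (⟨e, he.inv.mono hKR.le⟩ : invAlg (Res M) K) * ⟨e, _⟩ = ⟨e, _⟩ from Subtype.ext he.idem)
      htr'
    refine ⟨z, ?_⟩
    have := hΓspec ⟨e, he.inv.mono hKR.le⟩ (Subtype.ext he.idem)
    rw [hz, heE] at this
    rw [hsum, this, ← (K.subgroupOf R).card_mul_index, hKidx,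
      Nat.card_congr (Subgroup.subgroupOfEquivOfLe hKR.le).toEquiv]
    push_cast
    ring
  · obtain ⟨eR, heR, hee⟩ := he.exists_block hM hR hbr
    obtain ⟨x, hx⟩ := exists_conj_subpairLE hM hmax
      (isBrauerPairOf_of_prim hM hR he hbr heR hee hB heE)
    have hxP : ∀ r : R, x * (r : G) * x⁻¹ ∈ P := fun r =>
      subpairLE_le hx ⟨r, r.2, by simp⟩
    let φ : R →* P :=
      { toFun := fun r => ⟨x * r * x⁻¹, hxP r⟩
        map_one' := Subtype.ext (by simp)
        map_mul' := fun a b => Subtype.ext (by simp [mul_assoc]) }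
    have ha : IsGeneralizedCharacter R (fun r : R => ψ (x * r * x⁻¹) * th M χ (r : G) e) :=
      IsGeneralizedCharacter.mul (IsGeneralizedCharacter.comp_hom hψg φ)
        (IsCharacter.isGeneralized (isCharacter_th χ R he.idem he.inv))
    obtain ⟨m, hm⟩ := Coherence.inner_int ha hθ
    refine ⟨m, ?_⟩
    rw [classInner] at hm
    rw [← hm, ← mul_assoc, mul_inv_cancel₀ (Nat.cast_ne_zero.2 Nat.card_pos.ne'), one_mul]
    exact Finset.sum_congr rfl fun r _ => by
      rw [wF_prim hM hψ χ hR he hbr heR hee hx r.2, mul_comm]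

end Cfsg.Lib.Blocks.Star
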