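import Mathlib
import Cfsg.Agent.Blocks.Star.Weighted
import Cfsg.Agent.Blocks.BrauerInduction
import Cfsg.Agent.OddLocal.FittingHall

/-!
# The star construction

For a generalized character `ψ` of `P` stable under the fusion of a block and a member `χ` of the
block, weighting the parts of `χ` in the subsections by `ψ` gives a generalized character.
-/

set_option autoImplicit false
set_option linter.unusedSectionVars false
set_option linter.style.haveILetI false

namespace Cfsg.Lib.Blocks.Star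

open Cfsg.Lib.Chars
open scoped Classical ComplexConjugate

universe u

local notation "C⟨" P "⟩" => Subgroup.centralizer (SetLike.coe P)

variable {G : Type u} [Group G] [Fintype G] {M : Ideal AlgInt} {p : ℕ}

/-- The block idempotents of the centraliser, in characteristic zero. -/
noncomputable def lifts (M : Ideal AlgInt) (Q : Subgroup G) : Finset (MonoidAlgebra ℂ G) :=
  (blocksFinset M C⟨Q⟩).image (bx C⟨Q⟩)

lemma mem_lifts (hM : IsPModular p M) {Q : Subgroup G} {F : MonoidAlgebra ℂ G} :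
    F ∈ lifts M Q ↔ ∃ b, IsPBlock M b ∧ bx C⟨Q⟩ b = F := by
  simp only [lifts, Finset.mem_image, mem_blocksFinset hM]

lemma red_injOn_lifts (hM : IsPModular p M) (Q : Subgroup G) :
    Set.InjOn (red M) (lifts M Q : Set (MonoidAlgebra ℂ G)) := fun F hF F' hF' h => by
  obtain ⟨b, hb, rfl⟩ := (mem_lifts hM).1 hF
  obtain ⟨b', hb', rfl⟩ := (mem_lifts hM).1 hF'
  rw [red_bx, red_bx] at h
  rw [bi_injective hM hb hb' h]

lemma image_red_lifts (Q : Subgroup G) : (lifts M Q).image (red M) = idems M Q := by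
  rw [lifts, idems, Finset.image_image]
  exact Finset.image_congr fun b _ => red_bx _ b

lemma cj_mem_lifts (hM : IsPModular p M) {Q : Subgroup G} {F : MonoidAlgebra ℂ G}
    (h : F ∈ lifts M Q) (x : G) : cj x F ∈ lifts M (Q.map (MulAut.conj x).toMonoidHom) := by
  obtain ⟨b, hb, rfl⟩ := (mem_lifts hM).1 h
  refine (mem_lifts hM).2 ⟨_, isPBlock_conjBlock Q x hb, ?_⟩
  rw [conjBlock_eq]
  exact bx_conjSet (isConjSub_centralizer Q x) b

/-- **The star construction.** -/
noncomputable def starFn (p : ℕ) (M : Ideal AlgInt) (P : Subgroup G)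
    (c : Set (IrrCharacter C⟨P⟩)) (ψ : G → ℂ) (χ : IrrCharacter G) (g : G) : ℂ :=
  if h : ∃ x, IsPPart p g x then
    ∑ F ∈ lifts M (Subgroup.zpowers h.choose),
      weight p M P c ψ h.choose (red M F) * chiEval (χ : G → ℂ) (sE g * F)
  else 0

variable [Fact p.Prime] {P : Subgroup G} {c : Set (IrrCharacter C⟨P⟩)} {ψ : G → ℂ}

theorem starFn_eq {χ : IrrCharacter G} {g x : G} (hx : IsPPart p g x) :
    starFn p M P c ψ χ g = ∑ F ∈ lifts M (Subgroup.zpowers x),
      weight p M P c ψ x (red M F) * chiEval (χ : G → ℂ) (sE g * F) := by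
  have h : ∃ x, IsPPart p g x := ⟨x, hx⟩
  rw [starFn, dif_pos h, IsPPart.eq (Fact.out : p.Prime) h.choose_spec hx]

theorem isClassFunction_starFn (hM : IsPModular p M) (hψ : Stable p M P c ψ) (χ : IrrCharacter G) :
    IsClassFunction G (starFn p M P c ψ χ) := by
  intro g y
  obtain ⟨x, hx⟩ := exists_isPPart' (Fact.out : p.Prime) g
  rw [starFn_eq hx, starFn_eq (IsPPart.conj hx y)]
  refine (Finset.sum_bij' (fun F _ => cj y F) (fun F _ => cj y⁻¹ F) ?_ ?_
    (fun F _ => by rw [cj_cj, inv_mul_cancel, cj_one])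
    (fun F _ => by rw [cj_cj, mul_inv_cancel, cj_one]) ?_).symm
  · intro F hF
    have := cj_mem_lifts hM hF y
    rwa [map_conj_zpowers] at this
  · intro F hF
    have := cj_mem_lifts hM hF y⁻¹
    rwa [map_conj_zpowers, show y⁻¹ * (y * x * y⁻¹) * y⁻¹⁻¹ = x by group] at this
  · intro F _
    rw [red_cj, weight_cj hψ, show (sE (y * g * y⁻¹) : MonoidAlgebra ℂ G) = cj y (sE g) from
      (cj_single y g 1).symm, ← cj_mul, chiEval_cj (isClassFunction_irr χ)]

/-- The idempotent of a linear character of a `p'`-subgroup. -/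
noncomputable def linIdem (S : Subgroup G) (μ : S →* ℂˣ) : MonoidAlgebra ℂ G :=
  ofFn fun g => if h : g ∈ S then (Nat.card S : ℂ)⁻¹ * ((μ ⟨g, h⟩ : ℂˣ) : ℂ)⁻¹ else 0

lemma suppOn_linIdem (S : Subgroup G) (μ : S →* ℂˣ) : SuppOn S (linIdem S μ) := fun g hg => by
  rw [linIdem, fn_ofFn]
  exact dif_neg hg

lemma fn_linIdem {S : Subgroup G} (μ : S →* ℂˣ) (s : S) :
    fn (linIdem S μ) (s : G) = (Nat.card S : ℂ)⁻¹ * ((μ s : ℂˣ) : ℂ)⁻¹ := by
  rw [linIdem, fn_ofFn]
  exact dif_pos s.2

lemma linIdem_mul_self (S : Subgroup G) (μ : S →* ℂˣ) :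
    linIdem S μ * linIdem S μ = linIdem S μ := by
  refine fn_ext fun g => ?_
  by_cases hg : g ∈ S
  swap
  · rw [suppOn_linIdem S μ g hg, ((suppOn_linIdem S μ).mul (suppOn_linIdem S μ)) g hg]
  rw [fn_mul, ← Finset.sum_filter_add_sum_filter_not Finset.univ (· ∈ S),
    Finset.sum_eq_zero (s := Finset.univ.filter fun t => ¬ t ∈ S) (fun t ht => by
      rw [suppOn_linIdem S μ t (Finset.mem_filter.1 ht).2, zero_mul]), add_zero,
    Finset.sum_subtype (p := (· ∈ S)) (Finset.univ.filter (· ∈ S)) (fun t => by simp)]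
  have hterm : ∀ t : S, fn (linIdem S μ) (t : G) * fn (linIdem S μ) ((t : G)⁻¹ * g) =
      (Nat.card S : ℂ)⁻¹ * fn (linIdem S μ) g := by
    intro t
    rw [show (t : G)⁻¹ * g = ((t⁻¹ * ⟨g, hg⟩ : S) : G) from rfl, fn_linIdem, fn_linIdem,
      show fn (linIdem S μ) g = _ from fn_linIdem μ ⟨g, hg⟩, map_mul, map_inv, Units.val_mul,
      Units.val_inv_eq_inv_val]
    field_simp
  rw [Finset.sum_congr rfl fun t _ => hterm t, Finset.sum_const, Finset.card_univ, nsmul_eq_mul,
    ← Nat.card_eq_fintype_card, mul_inv_cancel_left₀ (Nat.cast_ne_zero.2 Nat.card_pos.ne')]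

lemma integral_linIdem (hM : IsPModular p M) {S : Subgroup G} (hS : ¬ p ∣ Nat.card S)
    (μ : S →* ℂˣ) : Integral M (linIdem S μ) := fun g => by
  by_cases hg : g ∈ S
  · rw [show g = ((⟨g, hg⟩ : S) : G) from rfl, fn_linIdem]
    refine mul_mem (((place M).valuation_le_one_iff _).1 ?_) (isIntegral_mem_place hM ?_)
    · rw [map_inv₀, show (place M).valuation (Nat.card S : ℂ) = 1 from isUnitAt_natCast hM hS, inv_one]
    · refine ⟨Polynomial.X ^ Nat.card S - 1, Polynomial.monic_X_pow_sub_C 1 Nat.card_pos.ne', ?_⟩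
      rw [Polynomial.eval₂_sub, Polynomial.eval₂_pow, Polynomial.eval₂_X, Polynomial.eval₂_one,
        inv_pow, ← Units.val_pow_eq_pow_val, ← map_pow, pow_card_eq_one', map_one, Units.val_one,
        inv_one, sub_self]
  · rw [suppOn_linIdem S μ g hg]; exact zero_mem _

lemma invOn_linIdem {R S : Subgroup G} (h : ∀ r ∈ R, ∀ s ∈ S, r * s = s * r) (μ : S →* ℂˣ) :
    InvOn R (linIdem S μ) := by
  intro r hr g
  by_cases hg : g ∈ S
  · rw [h r hr g hg, mul_inv_cancel_right]
  · rw [suppOn_linIdem S μ g hg, suppOn_linIdem S μ _ fun h' => hg ?_]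
    have := h r⁻¹ (R.inv_mem hr) _ h'
    rw [show g = r⁻¹ * (r * g * r⁻¹) * r by group, this, mul_assoc, inv_mul_cancel, mul_one]
    exact h'

/-- The sum over `R × S` is divisible by its order. -/
theorem inner_aux (hM : IsPModular p M) {B : Set (IrrCharacter G)}
    (hmax : IsMaximalBrauerPair p M B P c) (hψ : Stable p M P c ψ)
    (hψg : IsGeneralizedCharacter P (fun y : P => ψ y)) {χ : IrrCharacter G} (hχ : χ ∈ B)
    {R S : Subgroup G} (hR : IsPGroup p R) (hS : ¬ p ∣ Nat.card S)
    (hcomm : ∀ r ∈ R, ∀ s ∈ S, r * s = s * r) {θ : G → ℂ}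
    (hθ : IsGeneralizedCharacter R (fun r : R => θ r)) (μ : S →* ℂˣ) :
    ∃ z : ℤ, ∑ r : R, ∑ s : S, conj (θ r) * (((μ s : ℂˣ) : ℂ)⁻¹ * starFn p M P c ψ χ ((r : G) * s)) =
      (Nat.card R : ℂ) * Nat.card S * z := by
  haveI := charP_res hM
  have hB := hmax.1.2.1
  set E := blockElem B with hE
  have hEc : IsCentralFn E := isCentralFn_blockElem B
  have hEi : Integral M E := integral_blockElem hM hB
  have hEE : E * E = E := blockElem_mul_self B
  set η := linIdem S μ with hη
  have hηi := integral_linIdem hM hS μ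
  have hηη := linIdem_mul_self S μ
  have hηR := invOn_linIdem hcomm μ
  set ε := red M η * red M E with hε
  have hEredc := (hEc.red (M := M))
  have hεi : InvOn R ε :=
    InvOn.mul (fun r hr g => by rw [fn_red, fn_red, hηR r hr g]) ((invOn_top_iff.2 hEredc).mono le_top)
  have hεε : ε * ε = ε := by
    rw [hε, ← red_mul hηi hEi, ← red_mul (hηi.mul hEi) (hηi.mul hEi), mul_assoc,
      ← mul_assoc E, hEc.comm η, mul_assoc, hEE, ← mul_assoc, hηη]
  have hεE : ε * red M E = ε := by rw [hε, mul_assoc, ← red_mul hEi hEi, hEE]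
  obtain ⟨z, hz⟩ := wF_integral hM hmax hψ hψg χ R hR θ hθ ε hεi hεε hεE
  refine ⟨z, ?_⟩
  rw [mul_right_comm, ← hz, Finset.sum_mul]
  refine Finset.sum_congr rfl fun r _ => ?_
  rw [← Finset.mul_sum, mul_assoc]
  congr 1
  have hrp := isPElem_of_mem hR r.2
  have hpart : ∀ s : S, IsPPart p ((r : G) * s) r := fun s => isPPart_mul (hcomm r r.2 s s.2) hrp
    fun h => hS (dvd_trans h ((Subgroup.orderOf_coe s).symm ▸ orderOf_dvd_natCard s))
  simp only [fun s : S => starFn_eq (χ := χ) (M := M) (c := c) (ψ := ψ) (hpart s), Finset.mul_sum]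
  rw [Finset.sum_comm, wF, ← image_red_lifts, Finset.sum_image (red_injOn_lifts hM _), Finset.sum_mul]
  refine Finset.sum_congr rfl fun F hF => ?_
  obtain ⟨b, hb, rfl⟩ := (mem_lifts hM).1 hF
  set F := bx C⟨Subgroup.zpowers (r : G)⟩ b with hFdef
  have hFi : Integral M F := integral_bx hM hb
  have hFF : F * F = F := bx_mul_self b
  have hFC := invOn_bx C⟨Subgroup.zpowers (r : G)⟩ b
  have hFs := suppOn_bx C⟨Subgroup.zpowers (r : G)⟩ b
  have hSC : S ≤ C⟨Subgroup.zpowers (r : G)⟩ := fun s hs => by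
    rw [centralizer_zpowers, Subgroup.mem_centralizer_singleton_iff]
    exact (hcomm r r.2 s hs).symm
  have hηs : SuppOn C⟨Subgroup.zpowers (r : G)⟩ η := (suppOn_linIdem S μ).mono hSC
  have hcFη : F * η = η * F := hFC.comm hηs
  have hrC : (r : G) ∈ C⟨Subgroup.zpowers (r : G)⟩ := by
    rw [centralizer_zpowers, Subgroup.mem_centralizer_singleton_iff]
  have hcrF : InvOn (Subgroup.zpowers (r : G)) F := hFC.mono (Subgroup.zpowers_le.2 hrC)
  have hcrη : InvOn (Subgroup.zpowers (r : G)) η := hηR.mono (Subgroup.zpowers_le.2 r.2)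
  have hcrE : InvOn (Subgroup.zpowers (r : G)) E := (invOn_top_iff.2 hEc).mono le_top
  set L := η * F * E with hL
  have hLi : Integral M L := (hηi.mul hFi).mul hEi
  have hLL : L * L = L := by
    calc L * L = η * F * (E * (η * F)) * E := by rw [hL]; simp only [mul_assoc]
      _ = η * (F * η) * F * (E * E) := by rw [hEc.comm (η * F)]; simp only [mul_assoc]
      _ = η * η * (F * F) * E := by rw [hcFη, hEE]; simp only [mul_assoc]
      _ = L := by rw [hηη, hFF]
  have hcL : Commute (sE (r : G)) L := invOn_zpowers_iff.1 ((hcrη.mul hcrF).mul hcrE)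
  have hredL : red M L = red M η * red M F * red M E := by
    rw [hL, red_mul (hηi.mul hFi) hEi, red_mul hηi hFi]
  have htp : tp M χ (r : G) (red M F) ε = th M χ (r : G) (red M L) := by
    refine tp_eq hM χ hrp ⟨by rw [← red_mul hLi hLi, hLL], ?_, ?_,
      fun k hk g => by rw [fn_red, fn_red, ((hcrη.mul hcrF).mul hcrE) k hk g], ?_⟩
    · rw [hredL, hε, mul_assoc, ← mul_assoc (red M E), hEredc.comm (red M η * red M F), mul_assoc,
        ← red_mul hEi hEi, hEE, ← mul_assoc, ← mul_assoc, ← red_mul hηi hηi, hηη]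
    · rw [hredL, hε, mul_assoc _ (red M E), ← mul_assoc (red M E), hEredc.comm (red M η),
        mul_assoc (red M η) (red M E), ← red_mul hEi hEi, hEE, ← mul_assoc, mul_assoc (red M η) (red M F), ← red_mul hFi hηi, hcFη, red_mul hηi hFi, ← mul_assoc,
        ← red_mul hηi hηi, hηη]
    · have hP := hrp.isPGroup
      have i1 : InvOn (Subgroup.zpowers (r : G)) (red M η) := fun k hk g => by
        rw [fn_red, fn_red, hcrη k hk g]
      have i2 : InvOn (Subgroup.zpowers (r : G)) (red M F) := fun k hk g => by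
        rw [fn_red, fn_red, hcrF k hk g]
      have i3 : InvOn (Subgroup.zpowers (r : G)) (red M E) := (invOn_top_iff.2 hEredc).mono le_top
      have hFC' : InvOn C⟨Subgroup.zpowers (r : G)⟩ (red M F) := fun k hk g => by
        rw [fn_red, fn_red, hFC k hk g]
      rw [hredL, hε, br_mul hP (i1.mul i2) i3, br_mul hP i1 i2, br_mul hP i1 i3,
        show br (Subgroup.zpowers (r : G)) (red M F) = red M F from
          trunc_eq_self fun g hg => by rw [fn_red, hFs g hg, res_zero],
        mul_assoc, mul_assoc, hFC'.comm (suppOn_br _ _)]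
  rw [htp, th_eq χ hLi hLL hcL]
  have hval : chiEval (χ : G → ℂ) (sE (r : G) * L) = chiEval (χ : G → ℂ) (sE (r : G) * (η * F)) := by
    rw [hL, ← mul_assoc (sE (r : G)), ← hEc.comm (sE (r : G) * (η * F)), chiEval_central_mul χ hEc,
      hE, omega_blockElem, if_pos hχ, one_mul]
  rw [hval]
  have hsum : η = ∑ s : S, fn η (s : G) • sE (s : G) := by
    conv_lhs => rw [eq_sum_single η]
    rw [← Finset.sum_filter_add_sum_filter_not Finset.univ (· ∈ S),
      Finset.sum_eq_zero (s := Finset.univ.filter fun t => ¬ t ∈ S) (fun t ht => by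
        rw [suppOn_linIdem S μ t (Finset.mem_filter.1 ht).2, MonoidAlgebra.single_zero]), add_zero,
      Finset.sum_subtype (p := (· ∈ S)) (Finset.univ.filter (· ∈ S)) (fun t => by simp)]
    exact Finset.sum_congr rfl fun s _ => by rw [MonoidAlgebra.smul_single', mul_one]
  conv_rhs => rw [hsum, Finset.sum_mul, Finset.mul_sum, chiEval_sum, Finset.mul_sum, Finset.sum_mul]
  refine Finset.sum_congr rfl fun s _ => ?_
  rw [smul_mul_assoc, mul_smul_comm, chiEval_smul, ← mul_assoc (sE (r : G)),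
    MonoidAlgebra.single_mul_single, one_mul, hη, fn_linIdem]
  have hn : (Nat.card S : ℂ) ≠ 0 := Nat.cast_ne_zero.2 Nat.card_pos.ne'
  field_simp

lemma inv_hom_eq_conj {A : Type*} [Group A] [Finite A] (μ : A →* ℂˣ) (s : A) :
    ((μ s : ℂˣ) : ℂ)⁻¹ = conj ((μ s : ℂˣ) : ℂ) :=
  Complex.inv_eq_conj (Complex.norm_eq_one_of_pow_eq_one (n := orderOf s)
    (by rw [← Units.val_pow_eq_pow_val, ← map_pow, pow_orderOf_eq_one, map_one, Units.val_one])
    (orderOf_pos s).ne')

/-- A complement of the Sylow subgroup of a nilpotent group. -/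
lemma exists_split (A : Type*) [Group A] [Finite A] [Group.IsNilpotent A] :
    ∃ R S : Subgroup A, IsPGroup p R ∧ ¬ p ∣ Nat.card S ∧ R.IsComplement' S ∧
      ∀ r ∈ R, ∀ s ∈ S, r * s = s * r := by
  obtain ⟨R⟩ : Nonempty (Sylow p A) := inferInstance
  have htfae := (Group.isNilpotent_of_finite_tfae (G := A)).out 0 3
  haveI : (R : Subgroup A).Normal := htfae.1 inferInstance p ‹_› R
  obtain ⟨j, hj⟩ := R.2.exists_card_eq
  have hcop : ∀ n : ℕ, ¬ p ∣ n → (Nat.card (R : Subgroup A)).Coprime n := fun n hn => by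
    rw [hj]; exact ((Fact.out : p.Prime).coprime_iff_not_dvd.2 hn).pow_left _
  obtain ⟨S, hS⟩ := Subgroup.exists_right_complement'_of_coprime (hcop _ R.not_dvd_index)
  have hidx : Nat.card S = (R : Subgroup A).index := by
    have h := hS.card_mul_card
    rw [← (R : Subgroup A).card_mul_index] at h
    exact Nat.eq_of_mul_eq_mul_left Nat.card_pos h
  refine ⟨R, S, R.2, hidx ▸ R.not_dvd_index, hS, fun r hr s hs => ?_⟩
  refine (FittingHall.commute_coprime ?_).eq
  obtain ⟨i, hi⟩ := IsPGroup.iff_orderOf.1 R.2 ⟨r, hr⟩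
  rw [Subgroup.orderOf_mk] at hi
  rw [hi]
  refine ((Fact.out : p.Prime).coprime_iff_not_dvd.2 fun h => ?_).pow_left _
  exact hidx ▸ R.not_dvd_index <| h.trans <|
    (Subgroup.orderOf_coe (⟨s, hs⟩ : S)).dvd.trans (orderOf_dvd_natCard _)

/-- **The star construction gives a generalized character.** -/
theorem isGeneralized_starFn (hM : IsPModular p M) {B : Set (IrrCharacter G)}
    (hmax : IsMaximalBrauerPair p M B P c) (hψ : Stable p M P c ψ)
    (hψg : IsGeneralizedCharacter P (fun y : P => ψ y)) {χ : IrrCharacter G} (hχ : χ ∈ B) :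
    IsGeneralizedCharacter G (starFn p M P c ψ χ) := by
  set f := starFn p M P c ψ χ with hf
  have hfc := isClassFunction_starFn hM hψ χ
  refine isGeneralized_of_elementary hfc fun E hE => ?_
  obtain ⟨q, hq, hel⟩ := hE
  haveI := isNilpotent_of_isElementary hq hel
  have hfE : IsClassFunction E (fun e : E => f e) := fun a b => hfc a b
  refine isGeneralized_of_coeff hfE fun α => ?_
  obtain ⟨H, lam, hα⟩ := isMonomial_of_isNilpotent _ E rfl _ α.2
  rw [hα, frobenius_reciprocity' H _ hfE]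
  obtain ⟨R, S, hR, hS, hRS, hcomm⟩ := exists_split (p := p) H
  have hinj : Function.Injective (E.subtype.comp H.subtype) :=
    E.subtype_injective.comp H.subtype_injective
  set eR := R.equivMapOfInjective _ hinj
  set eS := S.equivMapOfInjective _ hinj
  set lamR : R.map (E.subtype.comp H.subtype) →* ℂˣ :=
    lam.comp (R.subtype.comp eR.symm.toMonoidHom)
  set μ : S.map (E.subtype.comp H.subtype) →* ℂˣ := lam.comp (S.subtype.comp eS.symm.toMonoidHom)
  obtain ⟨z, hz⟩ := inner_aux hM hmax hψ hψg hχ (R := R.map (E.subtype.comp H.subtype))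
    (S := S.map (E.subtype.comp H.subtype)) (hR.map _)
    (by rwa [Nat.card_congr eS.symm.toEquiv])
    (fun r hr s hs => by
      obtain ⟨r, hr, rfl⟩ := hr
      obtain ⟨s, hs, rfl⟩ := hs
      rw [← map_mul, ← map_mul, hcomm r hr s hs])
    (θ := extendByZero _ fun r => ((lamR r : ℂˣ) : ℂ))
    (by
      convert IsCharacter.isGeneralized (isCharacter_linear lamR) using 1
      exact funext fun r => extendByZero_mem _ r.2)
    μ
  refine ⟨z, ?_⟩
  have hbij : Function.Bijective fun x : R × S => (x.1 : H) * x.2 := hRS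
  rw [classInner, ← Fintype.sum_bijective _ hbij _ _ fun _ => rfl, Fintype.sum_prod_type,
    ← hRS.card_mul_card, ← Nat.card_congr eR.symm.toEquiv, ← Nat.card_congr eS.symm.toEquiv, Nat.cast_mul]
  have key : ∑ r : R, ∑ s : S, f (((r : H) * (s : H) : H) : E) *
      conj ((lam ((r : H) * (s : H)) : ℂˣ) : ℂ) =
      (Nat.card (R.map (E.subtype.comp H.subtype)) : ℂ) *
        Nat.card (S.map (E.subtype.comp H.subtype)) * z := by
    rw [← hz]
    refine Fintype.sum_equiv eR.toEquiv _ _ fun r => Fintype.sum_equiv eS.toEquiv _ _ fun s => ?_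
    simp only [MulEquiv.toEquiv_eq_coe, MulEquiv.coe_toEquiv]
    rw [show extendByZero _ (fun r => ((lamR r : ℂˣ) : ℂ)) ((eR r : _) : G) = ((lamR (eR r) : ℂˣ) : ℂ)
      from extendByZero_mem _ (eR r).2]
    have h1 : lamR (eR r) = lam r := congrArg lam (congrArg Subtype.val (eR.symm_apply_apply r))
    have h2 : μ (eS s) = lam s := congrArg lam (congrArg Subtype.val (eS.symm_apply_apply s))
    show _ = conj ((lamR (eR r) : ℂˣ) : ℂ) * (((μ (eS s) : ℂˣ) : ℂ)⁻¹ * f _)
    rw [h1, h2, map_mul, Units.val_mul, map_mul, inv_hom_eq_conj lam s]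
    rw [show ((eR r : _) : G) * ((eS s : _) : G) = ((((r : H) * (s : H) : H) : E) : G) from rfl]
    ring
  show (_ : ℂ)⁻¹ * ∑ r : R, ∑ s : S, f (((r : H) * (s : H) : H) : E) *
      conj ((lam ((r : H) * (s : H)) : ℂˣ) : ℂ) = _
  rw [key, inv_mul_cancel_left₀]
  exact mul_ne_zero (Nat.cast_ne_zero.2 Nat.card_pos.ne') (Nat.cast_ne_zero.2 Nat.card_pos.ne')

end Cfsg.Lib.Blocks.Star
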