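import Mathlib
import Cfsg.Prelude.Def_BlockFusion
import Cfsg.Agent.Blocks.Star.Construction
import Cfsg.Agent.Blocks.MajorHeightBound

/-!
# The action of linear characters on a block

The linear characters of `P` trivial on the focal subgroup of the block act on the block by the
star construction, preserving regular values.
-/

set_option autoImplicit false
set_option linter.unusedSectionVars false
set_option linter.style.haveILetI false

namespace Cfsg.Lib.Blocks.Star

open Cfsg.Lib.Chars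
open scoped Classical ComplexConjugate

universe u

local notation "C⟨" P "⟩" => Subgroup.centralizer (SetLike.coe P)

variable {G : Type u} [Group G] [Fintype G] {M : Ideal AlgInt} {p : ℕ}

/-- A function along the section of `x`. -/
def secFn (x : G) (f : G → ℂ) : C⟨Subgroup.zpowers x⟩ → ℂ := fun c => f (x * (c : G))

lemma isClassFunction_secFn (x : G) {f : G → ℂ} (hf : IsClassFunction G f) :
    IsClassFunction C⟨Subgroup.zpowers x⟩ (secFn x f) := fun a h => by
  have hc : Commute x (h : G) :=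
    commute_of_mem_centralizer (H := C⟨Subgroup.zpowers x⟩) rfl h.2
  show f (x * ((h * a * h⁻¹ : C⟨Subgroup.zpowers x⟩) : G)) = f (x * (a : G))
  rw [show x * ((h * a * h⁻¹ : C⟨Subgroup.zpowers x⟩) : G) =
      (h : G) * (x * (a : G)) * (h : G)⁻¹ by
    simp only [Subgroup.coe_mul, Subgroup.coe_inv]
    rw [← mul_assoc, ← mul_assoc, hc.eq]; group]
  exact hf _ _

lemma chiEval_bx (x : G) {f : G → ℂ} (hf : IsClassFunction G f)
    (b : Set (IrrCharacter C⟨Subgroup.zpowers x⟩)) (w : C⟨Subgroup.zpowers x⟩) :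
    chiEval f (sE (x * (w : G)) * bx C⟨Subgroup.zpowers x⟩ b) = blockPart b (secFn x f) w := by
  have hθ := isClassFunction_secFn x hf
  rw [← sum_blockCoeff_mul_apply b hθ w, chiEval]
  have h1 : ∀ g : G, fn (sE (x * (w : G)) * bx C⟨Subgroup.zpowers x⟩ b) g * f g =
      subgroupBlockCoeff C⟨Subgroup.zpowers x⟩ b ((x * (w : G))⁻¹ * g) * f g := fun g => by
    rw [fn_single_mul, one_mul, fn_bx]
  simp only [h1]
  rw [← Fintype.sum_equiv (Equiv.mulLeft (x * (w : G)))
    (fun k => subgroupBlockCoeff C⟨Subgroup.zpowers x⟩ b k * f (x * (w : G) * k)) _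
    (fun k => by simp [mul_assoc]),
    ← Finset.sum_filter_add_sum_filter_not Finset.univ (· ∈ C⟨Subgroup.zpowers x⟩),
    Finset.sum_eq_zero (s := Finset.univ.filter fun t => ¬ t ∈ C⟨Subgroup.zpowers x⟩) (fun t ht => by
      rw [subgroupBlockCoeff, dif_neg (Finset.mem_filter.1 ht).2, zero_mul]), add_zero,
    Finset.sum_subtype (p := (· ∈ C⟨Subgroup.zpowers x⟩))
      (Finset.univ.filter (· ∈ C⟨Subgroup.zpowers x⟩)) (fun g => by simp)]
  refine Finset.sum_congr rfl fun k _ => ?_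
  rw [subgroupBlockCoeff, dif_pos k.2, classFunction_mul_comm hθ k w]
  congr 1
  show f _ = f (x * ((w * k : C⟨Subgroup.zpowers x⟩) : G))
  rw [Subgroup.coe_mul, mul_assoc]

lemma blockPart_congr_regular (hM : IsPModular p M) {b : Set (IrrCharacter G)} (hb : IsPBlock M b)
    {θ θ' : G → ℂ} (h : ∀ v, ¬ p ∣ orderOf v → θ v = θ' v) {w : G} (hw : ¬ p ∣ orderOf w) :
    blockPart b θ w = blockPart b θ' w := by
  rw [blockPart_eq_kernel, blockPart_eq_kernel]
  congr 1
  refine Finset.sum_congr rfl fun v _ => ?_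
  by_cases hv : p ∣ orderOf v
  · rw [block_orthogonality_regular hM hb hw hv, mul_zero, mul_zero]
  · rw [h v hv]

/-- Projections of combinations of projections. -/
lemma blockPart_sum_blockPart (hM : IsPModular p M) {θ : G → ℂ} (a : Set (IrrCharacter G) → ℂ)
    {b : Set (IrrCharacter G)} (hb : IsPBlock M b) (w : G) :
    blockPart b (fun v => ∑ b' ∈ blocksFinset M G, a b' * blockPart b' θ v) w =
      a b * blockPart b θ w := by
  have hrew : (fun v => ∑ b' ∈ blocksFinset M G, a b' * blockPart b' θ v) =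
      ∑ η : IrrCharacter G, (a (blockOf M (η : G → ℂ)) * classInner θ (η : G → ℂ)) • (η : G → ℂ) := by
    funext v
    rw [Finset.sum_apply, ← Finset.sum_fiberwise_of_maps_to (t := blocksFinset M G)
      (g := fun η : IrrCharacter G => blockOf M (η : G → ℂ))
      (fun η _ => (mem_blocksFinset hM).2 (isPBlock_blockOf η))]
    refine Finset.sum_congr rfl fun b' hb' => ?_
    have hb'' := (mem_blocksFinset hM).1 hb'
    rw [blockPart_eq_sum, Finset.mul_sum]
    refine Finset.sum_congr (Finset.ext fun η => ?_) fun η hη => ?_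
    · simp only [Finset.mem_filter, Finset.mem_univ, true_and]
      exact ⟨fun h => (IsPBlock.eq_blockOf hM hb'' h).symm, fun h => h ▸ mem_blockOf_self hM η⟩
    · rw [(Finset.mem_filter.1 hη).2, Pi.smul_apply, smul_eq_mul]; ring
  rw [hrew, blockPart_eq_sum, blockPart_eq_sum, Finset.mul_sum]
  refine Finset.sum_congr rfl fun η hη => ?_
  rw [classInner_irrSum, ← IsPBlock.eq_blockOf hM hb (Finset.mem_filter.1 hη).2]
  ring

variable [Fact p.Prime] {P : Subgroup G} {c : Set (IrrCharacter C⟨P⟩)} {B : Set (IrrCharacter G)}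
  {ψ : G → ℂ}

/-- The value at a section. -/
theorem starFn_section (hM : IsPModular p M) (χ : IrrCharacter G) {x : G} (hx : IsPElem p x)
    (w : C⟨Subgroup.zpowers x⟩) (hw : ¬ p ∣ orderOf w) :
    starFn p M P c ψ χ (x * (w : G)) = ∑ b ∈ blocksFinset M C⟨Subgroup.zpowers x⟩,
      weight p M P c ψ x (bi M _ b) * blockPart b (secFn x (χ : G → ℂ)) w := by
  have hpart : IsPPart p (x * (w : G)) x :=
    isPPart_mul (commute_of_mem_centralizer (H := C⟨Subgroup.zpowers x⟩) rfl w.2) hx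
      (by rwa [Subgroup.orderOf_coe])
  rw [starFn_eq hpart, lifts, Finset.sum_image fun b hb b' hb' h =>
    bi_injective hM ((mem_blocksFinset hM).1 hb) ((mem_blocksFinset hM).1 hb')
      (by rw [← red_bx, ← red_bx, h])]
  exact Finset.sum_congr rfl fun b _ => by rw [red_bx, chiEval_bx x (isClassFunction_irr χ)]

/-- Either the section is one of the block, or the part vanishes. -/
theorem below_or_part_eq_zero (hM : IsPModular p M) (hmax : IsMaximalBrauerPair p M B P c)
    {χ : IrrCharacter G} (hχ : χ ∈ B) {x : G} (hx : IsPElem p x)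
    {b : Set (IrrCharacter C⟨Subgroup.zpowers x⟩)} (hb : IsPBlock M b) :
    (∃ t : G, Below p M P c x (bi M _ b) t) ∨
      ∀ w : C⟨Subgroup.zpowers x⟩, ¬ p ∣ orderOf w → blockPart b (secFn x (χ : G → ℂ)) w = 0 := by
  by_cases h : IsInducedBlock M C⟨Subgroup.zpowers x⟩ b B
  · left
    obtain ⟨t, ht⟩ := exists_conj_subpairLE hM hmax
      ((isBrauerPairOf_iff hM B _ b).2 ⟨hx.isPGroup, h⟩)
    exact ⟨t, _, _, map_conj_zpowers t x, ht, bi_conjBlock _ t b⟩
  · right
    exact fun w hw => blockPart_translate_eq_zero hM hx rfl hmax.1.2.1 hχ hb h w hw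

lemma Below.mem {r t : G} {β : MonoidAlgebra (Res M) G} (h : Below p M P c r β t) :
    t * r * t⁻¹ ∈ P := by
  obtain ⟨Q, f, rfl, hle, -⟩ := h
  exact subpairLE_le hle (Subgroup.mem_zpowers _)

/-- A linear character of `P`, on the group. -/
noncomputable def lamFn (P : Subgroup G) (lam : P →* ℂˣ) : G → ℂ :=
  extendByZero P fun y => ((lam y : ℂˣ) : ℂ)

lemma lamFn_coe (lam : P →* ℂˣ) (y : P) : lamFn P lam (y : G) = ((lam y : ℂˣ) : ℂ) :=
  extendByZero_mem _ y.2

/-- The linear characters trivial on the focal subgroup. -/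
def focTriv (F : FusionSystem P) : Subgroup (P →* ℂˣ) where
  carrier := {lam | ∀ y : P, (y : G) ∈ F.focalSubgroup → lam y = 1}
  one_mem' := fun _ _ => rfl
  mul_mem' := fun {a b} ha hb y hy => by rw [MonoidHom.mul_apply, ha y hy, hb y hy, one_mul]
  inv_mem' := fun {a} ha y hy => by rw [MonoidHom.inv_apply, ha y hy, inv_one]

theorem stable_lamFn (hM : IsPModular p M) {F : FusionSystem P}
    (hF : IsBlockFusionSystemOn p M B P c F) {lam : P →* ℂˣ} (hlam : lam ∈ focTriv F) :
    Stable p M P c (lamFn P lam) := by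
  intro y g β h1 h2
  have hy : y ∈ P := by simpa using h1.mem
  have hy' : g * y * g⁻¹ ∈ P := h2.mem
  obtain ⟨Q, f, hQ, hle, hf⟩ := h1
  obtain ⟨Q', f', hQ', hle', hf'⟩ := h2
  rw [one_mul, inv_one, mul_one] at hQ
  subst hQ
  subst hQ'
  rw [cj_one] at hf
  have hidx : conjIdx g (⟨Subgroup.zpowers y, f⟩ : BrauerPairIdx G) =
      ⟨Subgroup.zpowers (g * y * g⁻¹), f'⟩ := by
    refine idx_ext hM (map_conj_zpowers g y)
      (isPBlock_conjBlock _ _ (subpairLE_isBrauerPair hF.1.1.1 hle).2)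
      (subpairLE_isBrauerPair hF.1.1.1 hle').2 ?_
    show bi M _ (conjBlock (Subgroup.zpowers y) g f) = _
    rw [bi_conjBlock, hf, hf']
  have hle'' : Relation.ReflTransGen (NormalSubpairRel p M)
      (conjIdx g (⟨Subgroup.zpowers y, f⟩ : BrauerPairIdx G)) ⟨P, c⟩ := by
    rw [hidx]; exact hle'
  have hhom : conjHom (Subgroup.zpowers y) g ∈ F.Hom (Subgroup.zpowers y) :=
    (hF.2 _ _).2 ⟨Subgroup.zpowers_le.2 hy, g, fun u => rfl,
      by rw [map_conj_zpowers]; exact Subgroup.zpowers_le.2 hy', f, hle, hle''⟩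
  have hfoc : y⁻¹ * (g * y * g⁻¹) ∈ F.focalSubgroup :=
    Subgroup.subset_closure ⟨_, _, ⟨y, Subgroup.mem_zpowers y⟩, hhom, rfl⟩
  have h := hlam (⟨y, hy⟩⁻¹ * ⟨g * y * g⁻¹, hy'⟩) hfoc
  rw [map_mul, map_inv, inv_mul_eq_one] at h
  show lamFn P lam ((⟨g * y * g⁻¹, hy'⟩ : P) : G) = lamFn P lam ((⟨y, hy⟩ : P) : G)
  rw [lamFn_coe, lamFn_coe, h]

theorem isGeneralized_lamFn (lam : P →* ℂˣ) :
    IsGeneralizedCharacter P (fun y : P => lamFn P lam y) := by
  simp only [lamFn_coe]
  exact IsCharacter.isGeneralized (isCharacter_linear lam)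

lemma norm_lam (lam : P →* ℂˣ) (y : P) : ‖((lam y : ℂˣ) : ℂ)‖ = 1 :=
  Complex.norm_eq_one_of_pow_eq_one (n := orderOf y)
    (by rw [← Units.val_pow_eq_pow_val, ← map_pow, pow_orderOf_eq_one, map_one, Units.val_one])
    (orderOf_pos y).ne'

variable {F : FusionSystem P}

/-- The part of the star along a section. -/
theorem part_starFn (hM : IsPModular p M) (χ : IrrCharacter G) {x : G} (hx : IsPElem p x)
    {b : Set (IrrCharacter C⟨Subgroup.zpowers x⟩)} (hb : IsPBlock M b)
    (w : C⟨Subgroup.zpowers x⟩) (hw : ¬ p ∣ orderOf w) :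
    blockPart b (secFn x (starFn p M P c ψ χ)) w =
      weight p M P c ψ x (bi M _ b) * blockPart b (secFn x (χ : G → ℂ)) w := by
  refine (blockPart_congr_regular hM hb (fun v hv => starFn_section hM χ hx v hv) hw).trans ?_
  exact blockPart_sum_blockPart hM (fun b' => weight p M P c ψ x (bi M _ b')) hb w

theorem starFn_eq_of_regular (hM : IsPModular p M) (hF : IsBlockFusionSystemOn p M B P c F)
    {lam : P →* ℂˣ} (hlam : lam ∈ focTriv F) {χ : IrrCharacter G} (hχ : χ ∈ B) {g : G}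
    (hg : ¬ p ∣ orderOf g) : starFn p M P c (lamFn P lam) χ g = (χ : G → ℂ) g := by
  have h1 : IsPElem p (1 : G) := ⟨0, by simp⟩
  have hmem : g ∈ C⟨Subgroup.zpowers (1 : G)⟩ := by
    rw [centralizer_zpowers, Subgroup.mem_centralizer_singleton_iff, one_mul, mul_one]
  have hw : ¬ p ∣ orderOf (⟨g, hmem⟩ : C⟨Subgroup.zpowers (1 : G)⟩) := by
    rwa [← Subgroup.orderOf_coe]
  rw [← one_mul g, show (1 : G) * g = 1 * ((⟨g, hmem⟩ : C⟨Subgroup.zpowers (1 : G)⟩) : G) from rfl,
    starFn_section hM χ h1 _ hw]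
  refine (Finset.sum_congr rfl fun b hb => ?_).trans
    (sum_blockPart hM (isClassFunction_secFn 1 (isClassFunction_irr χ)) _)
  rcases below_or_part_eq_zero hM hF.1 hχ h1 ((mem_blocksFinset hM).1 hb) with ⟨t, ht⟩ | h
  · rw [weight_eq (stable_lamFn hM hF hlam) ht,
      show lamFn P lam (t * 1 * t⁻¹) = lamFn P lam ((1 : P) : G) by simp, lamFn_coe, map_one,
      Units.val_one, one_mul]
  · rw [h _ hw, mul_zero]

/-- Sums over the group by sections. -/
theorem sum_by_sections (F : G → ℝ) :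
    ∑ g : G, F g = ∑ x ∈ Finset.univ.filter (fun x : G => IsPElem p x),
      ∑ w ∈ Finset.univ.filter (fun w : C⟨Subgroup.zpowers x⟩ => ¬ p ∣ orderOf w),
        F (x * (w : G)) := by
  rw [← Finset.sum_sigma (Finset.univ.filter fun x : G => IsPElem p x)
    (fun x => Finset.univ.filter (fun w : C⟨Subgroup.zpowers x⟩ => ¬ p ∣ orderOf w))
    (fun q => F (q.1 * (q.2 : G)))]
  symm
  refine Finset.sum_nbij (fun q => q.1 * (q.2 : G)) (fun _ _ => Finset.mem_univ _) ?_ ?_ fun _ _ => rfl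
  · rintro ⟨x, w⟩ hq ⟨x', w'⟩ hq' h
    simp only [Finset.coe_sigma, Set.mem_sigma_iff, Finset.mem_coe, Finset.mem_filter,
      Finset.mem_univ, true_and] at hq hq'
    dsimp only at h
    rw [← Subgroup.orderOf_coe] at hq hq'
    have h1 := isPPart_mul (commute_of_mem_centralizer (H := C⟨Subgroup.zpowers x⟩) rfl w.2)
      hq.1 hq.2
    have h2 := isPPart_mul (commute_of_mem_centralizer (H := C⟨Subgroup.zpowers x'⟩) rfl w'.2)
      hq'.1 hq'.2
    rw [h] at h1
    obtain rfl := IsPPart.eq (Fact.out : p.Prime) h1 h2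
    obtain rfl : w = w' := Subtype.ext (mul_left_cancel h)
    rfl
  · intro g _
    obtain ⟨x, y, hy, hc, hk, hny⟩ := exists_isPPart' (Fact.out : p.Prime) g
    have hmem : y ∈ C⟨Subgroup.zpowers x⟩ := by
      rw [centralizer_zpowers, Subgroup.mem_centralizer_singleton_iff]; exact hc.symm.eq
    refine ⟨⟨x, ⟨y, hmem⟩⟩, ?_, hy⟩
    simp only [Finset.coe_sigma, Set.mem_sigma_iff, Finset.mem_coe, Finset.mem_filter,
      Finset.mem_univ, true_and]
    exact ⟨hk, by rwa [← Subgroup.orderOf_coe]⟩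

theorem norm_starFn (hM : IsPModular p M) (hF : IsBlockFusionSystemOn p M B P c F)
    {lam : P →* ℂˣ} (hlam : lam ∈ focTriv F) {χ : IrrCharacter G} (hχ : χ ∈ B) :
    classInner (starFn p M P c (lamFn P lam) χ) (starFn p M P c (lamFn P lam) χ) = 1 := by
  have hcl := isClassFunction_starFn hM (stable_lamFn hM hF hlam) χ
  have hsum : ∑ g : G, ‖starFn p M P c (lamFn P lam) χ g‖ ^ 2 = ∑ g : G, ‖(χ : G → ℂ) g‖ ^ 2 := by
    rw [sum_by_sections (p := p), sum_by_sections (p := p) fun g => ‖(χ : G → ℂ) g‖ ^ 2]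
    refine Finset.sum_congr rfl fun x hx => ?_
    have hx' := (Finset.mem_filter.1 hx).2
    have e1 := sum_norm_sq_blockPart (p := p) hM (isClassFunction_secFn x hcl)
    have e2 := sum_norm_sq_blockPart (p := p) hM (isClassFunction_secFn x (isClassFunction_irr χ))
    refine e1.symm.trans (Eq.trans ?_ e2)
    refine Finset.sum_congr rfl fun b hb => Finset.sum_congr rfl fun w hw => ?_
    have hb' := (mem_blocksFinset hM).1 hb
    rw [part_starFn hM χ hx' hb' w (Finset.mem_filter.1 hw).2, norm_mul]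
    rcases below_or_part_eq_zero hM hF.1 hχ hx' hb' with ⟨t, ht⟩ | h
    · rw [weight_eq (stable_lamFn hM hF hlam) ht,
        show lamFn P lam (t * x * t⁻¹) = lamFn P lam ((⟨_, ht.mem⟩ : P) : G) from rfl, lamFn_coe,
        norm_lam, one_mul]
    · rw [h w (Finset.mem_filter.1 hw).2, norm_zero, mul_zero]
  have hnorm : ∀ f : G → ℂ, classInner f f = (((Nat.card G : ℝ)⁻¹ * ∑ g : G, ‖f g‖ ^ 2 : ℝ) : ℂ) :=
    fun f => by
      simp only [classInner, Complex.mul_conj']
      push_cast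
      rfl
  rw [hnorm, hsum, ← hnorm]
  exact classInner_self_irr χ.2

theorem isIrrCharacter_starFn (hM : IsPModular p M) (hF : IsBlockFusionSystemOn p M B P c F)
    {lam : P →* ℂˣ} (hlam : lam ∈ focTriv F) {χ : IrrCharacter G} (hχ : χ ∈ B) :
    IsIrrCharacter G (starFn p M P c (lamFn P lam) χ) := by
  refine (isIrr_or_neg_of_norm_one (isGeneralized_starFn hM hF.1 (stable_lamFn hM hF hlam)
    (isGeneralized_lamFn lam) hχ) (norm_starFn hM hF hlam hχ)).resolve_right fun h => ?_
  obtain ⟨m, hm⟩ := IsCharacter.apply_one (isCharacter_of_irr h)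
  obtain ⟨n, hn⟩ := IsCharacter.apply_one (isCharacter_of_irr χ.2)
  have h1 := starFn_eq_of_regular hM hF hlam hχ (g := 1)
    (by simpa using (Fact.out : p.Prime).ne_one)
  rw [Pi.neg_apply, h1, hn, neg_eq_iff_add_eq_zero] at hm
  have : n + m = 0 := by exact_mod_cast hm
  exact IsIrrCharacter.apply_one_ne_zero χ.2 (by rw [hn, show n = 0 by omega, Nat.cast_zero])

/-- The star of a member of the block, as a member. -/
noncomputable def starIrr (hM : IsPModular p M) (hF : IsBlockFusionSystemOn p M B P c F)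
    (lam : focTriv F) (χ : {χ : IrrCharacter G // χ ∈ B}) : IrrCharacter G :=
  ⟨starFn p M P c (lamFn P lam) χ.1, isIrrCharacter_starFn hM hF lam.2 χ.2⟩

theorem starIrr_mem (hM : IsPModular p M) (hF : IsBlockFusionSystemOn p M B P c F)
    (lam : focTriv F) (χ : {χ : IrrCharacter G // χ ∈ B}) : starIrr hM hF lam χ ∈ B := by
  by_contra hnot
  have h0 := classInner_pRegularPart_eq_zero hM hF.1.1.2.1 χ.2 hnot
  have key : classInner (pRegularPart p (χ.1 : G → ℂ)) (starIrr hM hF lam χ : G → ℂ) =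
      (((Nat.card G : ℝ)⁻¹ * ∑ g : G, ‖pRegularPart p (χ.1 : G → ℂ) g‖ ^ 2 : ℝ) : ℂ) := by
    rw [classInner]
    push_cast
    congr 1
    refine Finset.sum_congr rfl fun g _ => ?_
    rw [← Complex.mul_conj', pRegularPart_apply]
    by_cases hg : p ∣ orderOf g
    · simp [hg]
    · simp only [if_neg hg]
      congr 2
      exact starFn_eq_of_regular hM hF lam.2 χ.2 hg
  rw [key, Complex.ofReal_eq_zero, mul_eq_zero, inv_eq_zero, Nat.cast_eq_zero] at h0
  have h1 := (Finset.sum_eq_zero_iff_of_nonneg fun g _ => sq_nonneg _).1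
    (h0.resolve_left Nat.card_pos.ne') 1 (Finset.mem_univ _)
  rw [sq_eq_zero_iff, norm_eq_zero, pRegularPart_apply,
    if_neg (by simpa using (Fact.out : p.Prime).ne_one)] at h1
  exact IsIrrCharacter.apply_one_ne_zero χ.1.2 h1

theorem height_starIrr (hM : IsPModular p M) (hF : IsBlockFusionSystemOn p M B P c F)
    (lam : focTriv F) (χ : {χ : IrrCharacter G // χ ∈ B}) :
    blockHeight p B (starIrr hM hF lam χ : G → ℂ) = blockHeight p B (χ.1 : G → ℂ) := by
  simp only [blockHeight, charDegree]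
  rw [show ((starIrr hM hF lam χ : IrrCharacter G) : G → ℂ) 1 = (χ.1 : G → ℂ) 1 from
    starFn_eq_of_regular hM hF lam.2 χ.2 (by simpa using (Fact.out : p.Prime).ne_one)]

theorem starFn_one (hM : IsPModular p M) (hF : IsBlockFusionSystemOn p M B P c F)
    {χ : IrrCharacter G} (hχ : χ ∈ B) (g : G) :
    starFn p M P c (lamFn P (1 : P →* ℂˣ)) χ g = (χ : G → ℂ) g := by
  obtain ⟨x, y, hy, hc, hk, hny⟩ := exists_isPPart' (Fact.out : p.Prime) g
  have hmem : y ∈ C⟨Subgroup.zpowers x⟩ := by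
    rw [centralizer_zpowers, Subgroup.mem_centralizer_singleton_iff]; exact hc.symm.eq
  set w : C⟨Subgroup.zpowers x⟩ := ⟨y, hmem⟩ with hwdef
  have hw : ¬ p ∣ orderOf w := by rwa [← Subgroup.orderOf_coe]
  rw [← hy, show x * y = x * (w : G) from rfl, starFn_section hM χ hk _ hw]
  refine (Finset.sum_congr rfl fun b hb => ?_).trans
    (sum_blockPart hM (isClassFunction_secFn x (isClassFunction_irr χ)) w)
  rcases below_or_part_eq_zero hM hF.1 hχ hk ((mem_blocksFinset hM).1 hb) with ⟨t, ht⟩ | h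
  · rw [weight_eq (stable_lamFn hM hF (one_mem _)) ht,
      show lamFn P (1 : P →* ℂˣ) (t * x * t⁻¹) = lamFn P 1 ((⟨_, ht.mem⟩ : P) : G) from rfl, lamFn_coe,
      MonoidHom.one_apply, Units.val_one, one_mul]
  · rw [h _ hw, mul_zero]

theorem starFn_starFn (hM : IsPModular p M) (hF : IsBlockFusionSystemOn p M B P c F)
    {lam mu : P →* ℂˣ} (hlam : lam ∈ focTriv F) (hmu : mu ∈ focTriv F) {χ η : IrrCharacter G}
    (hχ : χ ∈ B) (hη : (η : G → ℂ) = starFn p M P c (lamFn P mu) χ) (g : G) :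
    starFn p M P c (lamFn P lam) η g = starFn p M P c (lamFn P (lam * mu)) χ g := by
  obtain ⟨x, y, hy, hc, hk, hny⟩ := exists_isPPart' (Fact.out : p.Prime) g
  have hmem : y ∈ C⟨Subgroup.zpowers x⟩ := by
    rw [centralizer_zpowers, Subgroup.mem_centralizer_singleton_iff]; exact hc.symm.eq
  set w : C⟨Subgroup.zpowers x⟩ := ⟨y, hmem⟩ with hwdef
  have hw : ¬ p ∣ orderOf w := by rwa [← Subgroup.orderOf_coe]
  rw [← hy, show x * y = x * (w : G) from rfl, starFn_section hM η hk _ hw,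
    starFn_section hM χ hk _ hw]
  refine Finset.sum_congr rfl fun b hb => ?_
  rw [hη, part_starFn hM χ hk ((mem_blocksFinset hM).1 hb) _ hw]
  rcases below_or_part_eq_zero hM hF.1 hχ hk ((mem_blocksFinset hM).1 hb) with ⟨t, ht⟩ | h
  · rw [weight_eq (stable_lamFn hM hF hlam) ht, weight_eq (stable_lamFn hM hF hmu) ht,
      weight_eq (stable_lamFn hM hF (mul_mem hlam hmu)) ht]
    have e : ∀ l : P →* ℂˣ, lamFn P l (t * x * t⁻¹) = ((l ⟨_, ht.mem⟩ : ℂˣ) : ℂ) := fun l =>
      lamFn_coe l ⟨_, ht.mem⟩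
    rw [e, e, e, MonoidHom.mul_apply, Units.val_mul]
    exact (mul_assoc _ _ _).symm
  · rw [h _ hw, mul_zero, mul_zero, mul_zero]

/-- The action on the block. -/
@[reducible] noncomputable def starAction (hM : IsPModular p M)
    (hF : IsBlockFusionSystemOn p M B P c F) :
    MulAction (focTriv F) {χ : IrrCharacter G // χ ∈ B} where
  smul lam χ := ⟨starIrr hM hF lam χ, starIrr_mem hM hF lam χ⟩
  one_smul χ := Subtype.ext (Subtype.ext (funext fun g => starFn_one hM hF χ.2 g))
  mul_smul lam mu χ := Subtype.ext (Subtype.ext (funext fun g =>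
    (starFn_starFn hM hF lam.2 mu.2 χ.2 (η := starIrr hM hF mu χ) rfl g).symm))

/-- A fixed member has zero part in sections where the character is nontrivial. -/
theorem lam_eq_one_of_fixed (hM : IsPModular p M) (hF : IsBlockFusionSystemOn p M B P c F)
    {lam : P →* ℂˣ} (hlam : lam ∈ focTriv F) {χ : IrrCharacter G}
    (hfix : starFn p M P c (lamFn P lam) χ = (χ : G → ℂ)) {x t : G} (hx : IsPElem p x)
    {b : Set (IrrCharacter C⟨Subgroup.zpowers x⟩)} (hb : IsPBlock M b)
    (ht : Below p M P c x (bi M _ b) t) {w : C⟨Subgroup.zpowers x⟩} (hw : ¬ p ∣ orderOf w)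
    (hne : blockPart b (secFn x (χ : G → ℂ)) w ≠ 0) : lam ⟨t * x * t⁻¹, ht.mem⟩ = 1 := by
  have h := part_starFn (P := P) (c := c) (ψ := lamFn P lam) hM χ hx hb w hw
  rw [hfix, weight_eq (stable_lamFn hM hF hlam) ht,
    show lamFn P lam (t * x * t⁻¹) = lamFn P lam ((⟨_, ht.mem⟩ : P) : G) from rfl, lamFn_coe] at h
  exact Units.val_eq_one.1 ((mul_eq_right₀ hne).1 h.symm)

/-- Major sections meet every member. -/
theorem exists_major_part_ne_zero (hM : IsPModular p M) (hmax : IsMaximalBrauerPair p M B P c)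
    {χ : IrrCharacter G} (hχ : χ ∈ B) {z : G} (hz : z ∈ P) (hzc : ∀ a ∈ P, a * z = z * a) :
    ∃ b : Set (IrrCharacter C⟨Subgroup.zpowers z⟩), IsPBlock M b ∧
      Below p M P c z (bi M _ b) 1 ∧
      ∃ w : C⟨Subgroup.zpowers z⟩, ¬ p ∣ orderOf w ∧ blockPart b (secFn z (χ : G → ℂ)) w ≠ 0 := by
  haveI := charP_res hM
  have hD := isDefectGroup_of_noExtension hM hmax.1 (noExtension_of_maximal hM hmax)
  have hN : P ≤ Subgroup.normalizer (Subgroup.zpowers z : Set G) := fun a ha => by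
    refine (Subgroup.centralizer_le_normalizer _) ?_
    rw [centralizer_zpowers, Subgroup.mem_centralizer_singleton_iff]
    exact hzc a ha
  obtain ⟨b, hb, -⟩ := existsUnique_normalSubpair hM hmax.1.1 (Subgroup.zpowers_le.2 hz) hN
  obtain ⟨hbp, -, -, -, -, hbc⟩ := (isNormalSubpair_iff hM _ _ _ _).1 hb
  obtain ⟨hind, -, hdef⟩ := major_section hM hD hmax.1 hz hzc ⟨hbp.2, hbc⟩
  refine ⟨b, hbp.2, ⟨_, b, by simp, Relation.ReflTransGen.single hb, (cj_one _).symm⟩, ?_⟩
  obtain ⟨φ, hφ, hφ0⟩ := exists_height_zero hM hmax.1.2.1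
  by_contra hno
  push Not at hno
  refine (contribution_height rfl (isPElem_of_mem hmax.1.1.1 hz) hM hind hdef hχ hφ hφ0).1 ?_
  rw [contribution_eq_sum_regular hM hbp.2, Finset.sum_eq_zero fun w hw => ?_, mul_zero]
  have h := hno w (Finset.mem_filter.1 hw).2
  unfold secFn at h
  rw [h, zero_mul]

end Cfsg.Lib.Blocks.Star
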