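import Mathlib
import Cfsg.Agent.Blocks.Star.Linear
import Cfsg.Agent.Blocks.Nilpotent
import Cfsg.Agent.S4688

/-!
# Inner products of stars in a nilpotent block

In a nilpotent block every class function of the defect group is stable, the sections of the block
are indexed by the classes of the defect group, and the inner product of two stars is the average
over the defect group of the product of the weights with the contributions.
-/

set_option autoImplicit false
set_option linter.unusedSectionVars false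
set_option linter.style.haveILetI false

namespace Cfsg.Lib.Blocks.Star

open Cfsg.Lib.Chars
open scoped Classical ComplexConjugate

universe u

local notation "C⟨" P "⟩" => Subgroup.centralizer (SetLike.coe P)

variable {G : Type u} [Group G] [Fintype G] {M : Ideal AlgInt} {p : ℕ}

lemma sum_sections_complex [Fact p.Prime] (F : G → ℂ) :
    ∑ g : G, F g = ∑ x ∈ Finset.univ.filter (fun x : G => IsPElem p x),
      ∑ w ∈ Finset.univ.filter (fun w : C⟨Subgroup.zpowers x⟩ => ¬ p ∣ orderOf w),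
        F (x * (w : G)) := by
  apply Complex.ext
  · simp only [Complex.re_sum]
    exact sum_by_sections fun g => (F g).re
  · simp only [Complex.im_sum]
    exact sum_by_sections fun g => (F g).im

/-- The block parts are orthogonal on the regular elements. -/
lemma sum_blockPart_mul_conj (hM : IsPModular p M) {f g : G → ℂ} (hg : IsClassFunction G g) :
    ∑ b ∈ blocksFinset M G, ∑ w ∈ Finset.univ.filter (fun v : G => ¬ p ∣ orderOf v),
        blockPart b f w * conj (blockPart b g w) =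
      ∑ w ∈ Finset.univ.filter (fun v : G => ¬ p ∣ orderOf v), f w * conj (g w) := by
  set R := Finset.univ.filter (fun v : G => ¬ p ∣ orderOf v) with hR
  have h1 : ∀ b ∈ blocksFinset M G, ∑ w ∈ R, blockPart b f w * conj (blockPart b g w) =
      ∑ w ∈ R, f w * conj (blockPart b g w) := by
    intro b hb
    have hb' := (mem_blocksFinset hM).1 hb
    simp only [blockPart_eq_sum b g, map_sum, map_mul, Finset.mul_sum]
    rw [Finset.sum_comm, Finset.sum_comm (s := R)]
    refine Finset.sum_congr rfl fun θ hθ => ?_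
    have h := sum_regular_blockPart hM hb' f (Finset.mem_filter.1 hθ).2
    simp only [mul_left_comm _ (conj (classInner g _)), ← Finset.mul_sum]
    rw [h]
  rw [Finset.sum_congr rfl h1, Finset.sum_comm]
  refine Finset.sum_congr rfl fun w _ => ?_
  rw [← Finset.mul_sum, ← map_sum, sum_blockPart hM hg]

/-- The product of the parts of two characters along a section. -/
noncomputable def secDot (p : ℕ) (η χ : IrrCharacter G) (ω : SecIdx G) : ℂ :=
  ∑ w ∈ Finset.univ.filter (fun v : C⟨Subgroup.zpowers ω.1⟩ => ¬ p ∣ orderOf v),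
    blockPart ω.2 (secFn ω.1 (η : G → ℂ)) w * conj (blockPart ω.2 (secFn ω.1 (χ : G → ℂ)) w)

lemma secDot_secMap (η χ : IrrCharacter G)
    (fb : ∀ y : G, Set (IrrCharacter C⟨Subgroup.zpowers y⟩)) (g y : G) :
    secDot p η χ (secMap fb (g, y)) = secDot p η χ (⟨y, fb y⟩ : SecIdx G) := by
  set E := conjSubEquiv (isConjSub_zpowers g y) with hE
  have hf : ∀ χ : IrrCharacter G, secFn (g * y * g⁻¹) (χ : G → ℂ) =
      fun a => secFn y (χ : G → ℂ) (E a) := fun χ => funext fun c => by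
    show (χ : G → ℂ) (g * y * g⁻¹ * (c : G)) = (χ : G → ℂ) (y * (g⁻¹ * (c : G) * g))
    rw [← isClassFunction_irr χ (y * (g⁻¹ * (c : G) * g)) g]
    congr 1
    group
  show ∑ w ∈ Finset.univ.filter (fun v : C⟨Subgroup.zpowers (g * y * g⁻¹)⟩ => ¬ p ∣ orderOf v),
    blockPart (conjSet C⟨Subgroup.zpowers y⟩ C⟨Subgroup.zpowers (g * y * g⁻¹)⟩ g (fb y))
      (secFn (g * y * g⁻¹) (η : G → ℂ)) w * conj (blockPart (conjSet C⟨Subgroup.zpowers y⟩
        C⟨Subgroup.zpowers (g * y * g⁻¹)⟩ g (fb y)) (secFn (g * y * g⁻¹) (χ : G → ℂ)) w) = _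
  rw [conjSet_eq_image (isConjSub_zpowers g y), hf, hf, Finset.sum_filter]
  unfold secDot
  rw [Finset.sum_filter]
  refine Fintype.sum_equiv E.toEquiv _ _ fun w => ?_
  have h4 : orderOf (E w) = orderOf w := orderOf_injective E.toMonoidHom E.injective w
  simp only [MulEquiv.toEquiv_eq_coe, MulEquiv.coe_toEquiv, hE] at h4 ⊢
  rw [blockPart_irrEquiv, blockPart_irrEquiv, h4]

variable [Fact p.Prime] {P : Subgroup G} {c : Set (IrrCharacter C⟨P⟩)} {B : Set (IrrCharacter G)}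

/-- In a nilpotent block the images in the defect group of a section are conjugate there. -/
theorem below_conj_mem (hM : IsPModular p M) (hmax : IsMaximalBrauerPair p M B P c)
    (hnil : IsNilpotentBlock p M B) {y g : G} {β : MonoidAlgebra (Res M) G}
    (h1 : Below p M P c y β 1) (h2 : Below p M P c y β g) :
    ∃ u ∈ P, u * y * u⁻¹ = g * y * g⁻¹ := by
  have hF := isBlockFusionSystemOn_blockSystem hM hmax
  have hy : y ∈ P := by simpa using h1.mem
  have hy' : g * y * g⁻¹ ∈ P := h2.mem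
  obtain ⟨Q, f, hQ, hle, hf⟩ := h1
  obtain ⟨Q', f', hQ', hle', hf'⟩ := h2
  rw [one_mul, inv_one, mul_one] at hQ
  subst hQ
  subst hQ'
  rw [cj_one] at hf
  have hidx : conjIdx g (⟨Subgroup.zpowers y, f⟩ : BrauerPairIdx G) =
      ⟨Subgroup.zpowers (g * y * g⁻¹), f'⟩ := by
    refine idx_ext hM (map_conj_zpowers g y)
      (isPBlock_conjBlock _ _ (subpairLE_isBrauerPair hmax.1.1 hle).2)
      (subpairLE_isBrauerPair hmax.1.1 hle').2 ?_
    show bi M _ (conjBlock (Subgroup.zpowers y) g f) = _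
    rw [bi_conjBlock, hf, hf']
  have hle'' : Relation.ReflTransGen (NormalSubpairRel p M)
      (conjIdx g (⟨Subgroup.zpowers y, f⟩ : BrauerPairIdx G)) ⟨P, c⟩ := by
    rw [hidx]; exact hle'
  have hhom : conjHom (Subgroup.zpowers y) g ∈
      (blockSystem hM hmax.1.1).Hom (Subgroup.zpowers y) :=
    (hF.2 _ _).2 ⟨Subgroup.zpowers_le.2 hy, g, fun u => rfl,
      by rw [map_conj_zpowers]; exact Subgroup.zpowers_le.2 hy', f, hle, hle''⟩
  rw [inner_of_nilpotent hM hF hnil] at hhom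
  obtain ⟨-, u, hu, hux⟩ := hhom
  exact ⟨u, hu, (hux ⟨y, Subgroup.mem_zpowers y⟩).symm⟩

/-- Class functions of the defect group of a nilpotent block are stable. -/
theorem stable_of_nilpotent (hM : IsPModular p M) (hmax : IsMaximalBrauerPair p M B P c)
    (hnil : IsNilpotentBlock p M B) {ψ : G → ℂ}
    (hψ : ∀ u ∈ P, ∀ y ∈ P, ψ (u * y * u⁻¹) = ψ y) : Stable p M P c ψ := fun y g β h1 h2 => by
  obtain ⟨u, hu, h⟩ := below_conj_mem hM hmax hnil h1 h2
  rw [← h, hψ u hu y (by simpa using h1.mem)]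

variable {fQ : ∀ Q : Subgroup G, Set (IrrCharacter C⟨Q⟩)}

lemma below_secMap (hfQ : ∀ Q ≤ P, SubpairLE p M Q (fQ Q) P c) {y : G} (hy : y ∈ P) (g : G) :
    Below p M P c (g * y * g⁻¹) (cj g (bi M _ (fQ (Subgroup.zpowers y)))) g⁻¹ :=
  ⟨_, _, by group, hfQ _ (Subgroup.zpowers_le.2 hy), by rw [cj_cj, inv_mul_cancel, cj_one]⟩

/-- Conjugation by an element of `P` permutes the blocks below the pair. -/
lemma cj_below (hM : IsPModular p M) (hmax : IsMaximalBrauerPair p M B P c)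
    (hfQ : ∀ Q ≤ P, SubpairLE p M Q (fQ Q) P c) {u y : G} (hu : u ∈ P) (hy : y ∈ P) :
    cj u (bi M _ (fQ (Subgroup.zpowers y))) = bi M _ (fQ (Subgroup.zpowers (u * y * u⁻¹))) := by
  have huy : u * y * u⁻¹ ∈ P := P.mul_mem (P.mul_mem hu hy) (P.inv_mem hu)
  have h1 := subpairLE_conj hM (hfQ _ (Subgroup.zpowers_le.2 hy)) u
  have hidx : conjIdx u (⟨P, c⟩ : BrauerPairIdx G) = ⟨P, c⟩ :=
    idx_ext hM (map_conj_of_mem_normalizer (Subgroup.le_normalizer hu))
      (isPBlock_conjBlock _ _ hmax.1.1.2) hmax.1.1.2 (by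
        show bi M _ (conjBlock P u c) = _
        rw [bi_conjBlock, invOn_iff.1 (invOn_bi_self P c) u hu])
  change Relation.ReflTransGen (NormalSubpairRel p M) _ (conjIdx u ⟨P, c⟩) at h1
  rw [hidx] at h1
  have key : ∀ (Q : Subgroup G) (f : Set (IrrCharacter C⟨Q⟩)), Q = Subgroup.zpowers (u * y * u⁻¹) →
      SubpairLE p M Q f P c → bi M _ f = bi M _ (fQ (Subgroup.zpowers (u * y * u⁻¹))) := by
    rintro Q f rfl h
    rw [(existsUnique_subpairLE hM hmax.1.1 (Subgroup.zpowers_le.2 huy)).unique h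
      (hfQ _ (Subgroup.zpowers_le.2 huy))]
  rw [← bi_conjBlock, key _ _ (map_conj_zpowers u y) h1]

/-- The number of pairs over a section. -/
theorem card_section_fibre (hM : IsPModular p M) (hmax : IsMaximalBrauerPair p M B P c)
    (hnil : IsNilpotentBlock p M B) (hfQ : ∀ Q ≤ P, SubpairLE p M Q (fQ Q) P c)
    (g₀ : G) (y₀ : P) :
    (Finset.univ.filter fun q : G × P =>
        secMap (fun y => fQ (Subgroup.zpowers y)) (q.1, (q.2 : G)) =
          secMap (fun y => fQ (Subgroup.zpowers y)) (g₀, (y₀ : G))).card *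
      Nat.card (P ⊓ C⟨Subgroup.zpowers (y₀ : G)⟩ : Subgroup G) =
      Nat.card P * Nat.card C⟨Subgroup.zpowers (y₀ : G)⟩ := by
  set fb : ∀ y : G, Set (IrrCharacter C⟨Subgroup.zpowers y⟩) := fun y => fQ (Subgroup.zpowers y)
    with hfb
  set K := C⟨Subgroup.zpowers (y₀ : G)⟩ with hK
  have hblk : ∀ y ∈ P, IsPBlock M (fb y) := fun y hy =>
    (subpairLE_isBrauerPair hmax.1.1 (hfQ _ (Subgroup.zpowers_le.2 hy))).2
  have hKy : ∀ k ∈ K, k * y₀ * k⁻¹ = (y₀ : G) := fun k hk => by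
    rw [hK, centralizer_zpowers, Subgroup.mem_centralizer_singleton_iff] at hk
    rw [hk, mul_inv_cancel_right]
  set Fb := Finset.univ.filter fun q : G × P => secMap fb (q.1, (q.2 : G)) = secMap fb (g₀, (y₀ : G))
    with hFb
  let Ψ : P × K → G × P := fun a => (g₀ * (a.2 : G) * (a.1 : G)⁻¹, a.1 * y₀ * a.1⁻¹)
  have himg : Finset.univ.image Ψ = Fb := by
    refine Finset.ext fun q => ?_
    simp only [Finset.mem_image, Finset.mem_univ, true_and, hFb, Finset.mem_filter]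
    constructor
    · rintro ⟨⟨u, k⟩, rfl⟩
      refine (secMap_eq_iff hM fb (hblk _ (u * y₀ * u⁻¹).2)
        (IsPBlock.conjSet (isConjSub_zpowers g₀ (y₀ : G)) (hblk _ y₀.2))).2 ⟨?_, ?_⟩
      · show g₀ * (k : G) * (u : G)⁻¹ * ((u : G) * y₀ * (u : G)⁻¹) * (g₀ * (k : G) * (u : G)⁻¹)⁻¹ =
          g₀ * (y₀ : G) * g₀⁻¹
        conv_rhs => rw [← hKy k k.2]
        group
      · show cj (g₀ * (k : G) * (u : G)⁻¹) (bi M _ (fQ (Subgroup.zpowers ((u : G) * y₀ * (u : G)⁻¹)))) =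
          bi M _ (conjSet _ _ g₀ (fb y₀))
        rw [bi_conjSet (isConjSub_zpowers g₀ (y₀ : G)), ← cj_below hM hmax hfQ u.2 y₀.2, cj_cj,
          inv_mul_cancel_right, ← cj_cj]
        exact congrArg (cj g₀) (invOn_iff.1 (invOn_bi (fb y₀)) k k.2)
    · intro hq
      obtain ⟨g, y, hy⟩ := q
      obtain ⟨h1, h2⟩ := (secMap_eq_iff hM fb (hblk _ hy)
        (IsPBlock.conjSet (isConjSub_zpowers g₀ (y₀ : G)) (hblk _ y₀.2))).1 hq
      rw [bi_conjSet (isConjSub_zpowers g₀ (y₀ : G))] at h2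
      change g * y * g⁻¹ = g₀ * (y₀ : G) * g₀⁻¹ at h1
      have hgy : g⁻¹ * g₀ * y₀ * (g⁻¹ * g₀)⁻¹ = y := by
        calc g⁻¹ * g₀ * y₀ * (g⁻¹ * g₀)⁻¹ = g⁻¹ * (g₀ * y₀ * g₀⁻¹) * g := by group
          _ = y := by rw [← h1]; group
      obtain ⟨u, hu, huy⟩ := below_conj_mem hM hmax hnil (g := g⁻¹ * g₀)
        (β := bi M _ (fb y₀))
        ⟨_, _, by simp, hfQ _ (Subgroup.zpowers_le.2 y₀.2), (cj_one _).symm⟩
        ⟨_, _, congrArg Subgroup.zpowers hgy.symm, hfQ _ (Subgroup.zpowers_le.2 hy), by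
          rw [← cj_cj, ← h2, cj_cj, inv_mul_cancel, cj_one]⟩
      rw [hgy] at huy
      have hk : g₀⁻¹ * g * u ∈ K := by
        rw [hK, centralizer_zpowers, Subgroup.mem_centralizer_singleton_iff]
        calc g₀⁻¹ * g * u * y₀ = g₀⁻¹ * (g * (u * y₀ * u⁻¹) * g⁻¹) * g * u := by group
          _ = y₀ * (g₀⁻¹ * g * u) := by rw [huy, h1]; group
      refine ⟨(⟨u, hu⟩, ⟨_, hk⟩), Prod.ext ?_ (Subtype.ext ?_)⟩
      · show g₀ * (g₀⁻¹ * g * u) * u⁻¹ = g
        group
      · exact huy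
  have hcard := Finset.card_eq_sum_card_image Ψ Finset.univ
  rw [himg, Finset.card_univ, Fintype.card_prod, ← Nat.card_eq_fintype_card,
    ← Nat.card_eq_fintype_card] at hcard
  rw [hcard]
  refine (Finset.sum_const_nat fun q hq => ?_).symm
  rw [← himg] at hq
  obtain ⟨⟨u₁, k₁⟩, -, rfl⟩ := Finset.mem_image.1 hq
  rw [Nat.card_eq_fintype_card]
  symm
  refine Finset.card_bij (s := Finset.univ) (fun (d : (P ⊓ K : Subgroup G)) _ =>
    ((u₁ * ⟨d, d.2.1⟩, k₁ * ⟨d, d.2.2⟩) : P × K)) (fun d _ => ?_) (fun d _ d' _ h => ?_) ?_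
  · refine Finset.mem_filter.2 ⟨Finset.mem_univ _, Prod.ext ?_ (Subtype.ext ?_)⟩
    · show g₀ * ((k₁ : G) * d) * ((u₁ : G) * d)⁻¹ = g₀ * (k₁ : G) * (u₁ : G)⁻¹
      group
    · show (u₁ : G) * d * y₀ * ((u₁ : G) * d)⁻¹ = (u₁ : G) * y₀ * (u₁ : G)⁻¹
      conv_rhs => rw [← hKy d d.2.2]
      group
  · exact Subtype.ext (mul_left_cancel (congrArg (fun a : P × K => (a.1 : G)) h :
      (u₁ : G) * d = (u₁ : G) * d'))
  · rintro ⟨u, k⟩ huk
    obtain ⟨-, huk⟩ := Finset.mem_filter.1 huk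
    have h1 : g₀ * (k : G) * (u : G)⁻¹ = g₀ * (k₁ : G) * (u₁ : G)⁻¹ := congrArg Prod.fst huk
    rw [mul_assoc, mul_assoc, mul_right_inj] at h1
    have hkd : (k₁ : G)⁻¹ * k = (u₁ : G)⁻¹ * u := by
      calc (k₁ : G)⁻¹ * k = (k₁ : G)⁻¹ * ((k : G) * (u : G)⁻¹) * u := by group
        _ = _ := by rw [h1]; group
    refine ⟨⟨(u₁ : G)⁻¹ * u, P.mul_mem (P.inv_mem u₁.2) u.2,
      hkd ▸ K.mul_mem (K.inv_mem k₁.2) k.2⟩, Finset.mem_univ _,
      Prod.ext (Subtype.ext (mul_inv_cancel_left _ _)) (Subtype.ext ?_)⟩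
    show (k₁ : G) * ((u₁ : G)⁻¹ * u) = k
    rw [← hkd, mul_inv_cancel_left]

/-- The defect of a block below the pair of a nilpotent block. -/
theorem pow_defect_below (hM : IsPModular p M) (hmax : IsMaximalBrauerPair p M B P c)
    (hnil : IsNilpotentBlock p M B) {Q : Subgroup G} {f : Set (IrrCharacter C⟨Q⟩)}
    (hle : SubpairLE p M Q f P c) :
    Nat.card (P ⊓ C⟨Q⟩ : Subgroup G) = p ^ blockDefect p f := by
  rw [← Nat.card_congr (Subgroup.subgroupOfEquivOfLe inf_le_right).toEquiv]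
  exact IsDefectGroup.card hM (subpairLE_isBrauerPair hmax.1.1 hle).2
    ((Cfsg.Agent.S4688.result p M hM B P c hmax hnil Q f
      (isBrauerPairOf_of_le hM hmax hle)).2 hle)

/-- **Inner products of stars.** -/
theorem classInner_starFn (hM : IsPModular p M) (hmax : IsMaximalBrauerPair p M B P c)
    (hnil : IsNilpotentBlock p M B) (hfQ : ∀ Q ≤ P, SubpairLE p M Q (fQ Q) P c) {ψ₁ ψ₂ : G → ℂ}
    (h₁ : Stable p M P c ψ₁) (h₂ : Stable p M P c ψ₂) {η χ : IrrCharacter G} (hη : η ∈ B)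
    (hχ : χ ∈ B) :
    classInner (starFn p M P c ψ₁ η) (starFn p M P c ψ₂ χ) = (Nat.card P : ℂ)⁻¹ *
      ∑ y : P, ψ₁ y * conj (ψ₂ y) * contribution p (y : G) (fQ (Subgroup.zpowers (y : G))) η χ := by
  set fb : ∀ y : G, Set (IrrCharacter C⟨Subgroup.zpowers y⟩) := fun y => fQ (Subgroup.zpowers y)
    with hfb
  have hblk : ∀ y ∈ P, IsPBlock M (fb y) := fun y hy =>
    (subpairLE_isBrauerPair hmax.1.1 (hfQ _ (Subgroup.zpowers_le.2 hy))).2
  set X := (Finset.univ.filter fun x : G => IsPElem p x).sigma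
    fun x => blocksFinset M C⟨Subgroup.zpowers x⟩ with hX
  let W : SecIdx G → ℂ := fun ω => weight p M P c ψ₁ ω.1 (bi M _ ω.2) *
    conj (weight p M P c ψ₂ ω.1 (bi M _ ω.2)) * secDot p η χ ω
  have hW : ∑ g : G, starFn p M P c ψ₁ η g * conj (starFn p M P c ψ₂ χ g) = ∑ ω ∈ X, W ω := by
    rw [sum_sections_complex (p := p), hX, Finset.sum_sigma]
    refine Finset.sum_congr rfl fun x hx => ?_
    have hx' := (Finset.mem_filter.1 hx).2
    refine Eq.trans (sum_blockPart_mul_conj (p := p) hM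
      (f := secFn x (starFn p M P c ψ₁ η))
      (isClassFunction_secFn x (isClassFunction_starFn hM h₂ χ))).symm ?_
    refine Finset.sum_congr rfl fun b hb => ?_
    have hb' := (mem_blocksFinset hM).1 hb
    show _ = _ * _ * secDot p η χ ⟨x, b⟩
    rw [secDot, Finset.mul_sum]
    refine Finset.sum_congr rfl fun w hw => ?_
    have hw' := (Finset.mem_filter.1 hw).2
    rw [part_starFn hM η hx' hb' w hw', part_starFn hM χ hx' hb' w hw', map_mul]
    ring
  have hmem : ∀ q : G × P, secMap fb (q.1, (q.2 : G)) ∈ X := fun q => Finset.mem_sigma.2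
    ⟨Finset.mem_filter.2 ⟨Finset.mem_univ _, (isPElem_of_mem hmax.1.1.1 q.2.2).conj q.1⟩,
      (mem_blocksFinset hM).2 (IsPBlock.conjSet (isConjSub_zpowers q.1 (q.2 : G)) (hblk _ q.2.2))⟩
  let N : P → ℂ := fun y => (Nat.card (P ⊓ C⟨Subgroup.zpowers (y : G)⟩ : Subgroup G) : ℂ) *
    (Nat.card P : ℂ)⁻¹ * (Nat.card C⟨Subgroup.zpowers (y : G)⟩ : ℂ)⁻¹
  have hfib : ∀ ω ∈ X, ∑ q ∈ Finset.univ.filter (fun q : G × P => secMap fb (q.1, (q.2 : G)) = ω),
      N q.2 * W (secMap fb (q.1, (q.2 : G))) = W ω := by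
    intro ω hω
    obtain ⟨hx, hb⟩ := Finset.mem_sigma.1 hω
    rw [Finset.sum_congr rfl fun q hq => by rw [(Finset.mem_filter.1 hq).2], ← Finset.sum_mul]
    rcases Finset.eq_empty_or_nonempty
      (Finset.univ.filter fun q : G × P => secMap fb (q.1, (q.2 : G)) = ω) with he | ⟨q₀, hq₀⟩
    · rw [he, Finset.sum_empty, zero_mul]
      obtain ⟨x, b⟩ := ω
      have hb' := (mem_blocksFinset hM).1 hb
      rcases below_or_part_eq_zero hM hmax hη (Finset.mem_filter.1 hx).2 hb' with ⟨t, ht⟩ | h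
      · exfalso
        have hy := ht.mem
        obtain ⟨Q, f, rfl, hle, hf⟩ := ht
        obtain rfl := (existsUnique_subpairLE hM hmax.1.1 (Subgroup.zpowers_le.2 hy)).unique hle
          (hfQ _ (Subgroup.zpowers_le.2 hy))
        refine Finset.eq_empty_iff_forall_notMem.1 he (t⁻¹, ⟨t * x * t⁻¹, hy⟩)
          (Finset.mem_filter.2 ⟨Finset.mem_univ _, (secMap_eq_iff hM fb (hblk _ hy) hb').2 ⟨?_, ?_⟩⟩)
        · show t⁻¹ * (t * x * t⁻¹) * t⁻¹⁻¹ = x
          group
        · show cj t⁻¹ (bi M _ (fQ (Subgroup.zpowers (t * x * t⁻¹)))) = bi M _ b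
          rw [hf, cj_cj, inv_mul_cancel, cj_one]
      · symm
        show _ * _ * secDot p η χ ⟨x, b⟩ = 0
        rw [secDot, Finset.sum_eq_zero fun w hw => by rw [h w (Finset.mem_filter.1 hw).2, zero_mul],
          mul_zero]
    · set Fb := Finset.univ.filter fun q : G × P => secMap fb (q.1, (q.2 : G)) = ω with hFb
      have hN : ∀ q ∈ Fb, N q.2 = (Fb.card : ℂ)⁻¹ := by
        intro q hq
        have h := card_section_fibre hM hmax hnil hfQ q.1 q.2
        rw [← hfb, (Finset.mem_filter.1 hq).2, ← hFb] at h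
        have h' := congrArg (Nat.cast (R := ℂ)) h
        simp only [Nat.cast_mul] at h'
        have hF0 : (Fb.card : ℂ) ≠ 0 := Nat.cast_ne_zero.2 (Finset.card_pos.2 ⟨q, hq⟩).ne'
        have hP0 : (Nat.card P : ℂ) ≠ 0 := Nat.cast_ne_zero.2 Nat.card_pos.ne'
        have hC0 : (Nat.card C⟨Subgroup.zpowers (q.2 : G)⟩ : ℂ) ≠ 0 :=
          Nat.cast_ne_zero.2 Nat.card_pos.ne'
        show _ * (Nat.card P : ℂ)⁻¹ * _ = _
        field_simp
        linear_combination h'
      rw [Finset.sum_congr rfl hN, Finset.sum_const, nsmul_eq_mul,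
        mul_inv_cancel₀ (Nat.cast_ne_zero.2 (Finset.card_pos.2 ⟨q₀, hq₀⟩).ne'), one_mul]
  rw [classInner_def, hW, ← Finset.sum_congr rfl hfib,
    Finset.sum_fiberwise_of_maps_to (fun q _ => hmem q), Fintype.sum_prod_type, Finset.sum_comm,
    Finset.mul_sum, Finset.mul_sum]
  refine Finset.sum_congr rfl fun y _ => ?_
  have hterm : ∀ g : G, N y * W (secMap fb (g, (y : G))) =
      N y * (ψ₁ y * conj (ψ₂ y) * secDot p η χ (⟨(y : G), fb y⟩ : SecIdx G)) := by
    intro g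
    have hbel := below_secMap hfQ y.2 g
    have hbi := bi_conjSet (M := M) (isConjSub_zpowers g (y : G)) (fb (y : G))
    show _ * (_ * conj _ * secDot p η χ (secMap fb (g, (y : G)))) = _
    rw [secDot_secMap]
    simp only [secMap]
    rw [hbi, weight_eq h₁ hbel, weight_eq h₂ hbel,
      show g⁻¹ * (g * (y : G) * g⁻¹) * g⁻¹⁻¹ = (y : G) by group]
  rw [Finset.sum_congr rfl fun g _ => hterm g, Finset.sum_const, Finset.card_univ, nsmul_eq_mul,
    ← Nat.card_eq_fintype_card, contribution_eq_sum_regular hM (hblk _ y.2)]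
  have hG0 : (Nat.card G : ℂ) ≠ 0 := Nat.cast_ne_zero.2 Nat.card_pos.ne'
  have hp : (Nat.card (P ⊓ C⟨Subgroup.zpowers (y : G)⟩ : Subgroup G) : ℂ) =
      (p : ℂ) ^ blockDefect p (fb y) := by
    rw [pow_defect_below hM hmax hnil (hfQ _ (Subgroup.zpowers_le.2 y.2)), Nat.cast_pow]
  show (Nat.card G : ℂ)⁻¹ * _ = _
  simp only [N, hp, secDot]
  field_simp
  rfl

end Cfsg.Lib.Blocks.Star
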