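import Mathlib
import Cfsg.Agent.Blocks.Star.NilpotentInner
import Cfsg.Agent.Blocks.AbelianSubsections
import Cfsg.Agent.Blocks.InertialCyclic

/-!
# The trace of the star action for an abelian defect group

For an abelian defect group the permutation induced on the block by a linear character trivial on
the focal subgroup fixes nothing unless the character is trivial, and its trace is the average of
the character against the ranks of the sections.
-/

set_option autoImplicit false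
set_option linter.unusedSectionVars false
set_option linter.style.haveILetI false

namespace Cfsg.Lib.Blocks.Star

open Cfsg.Lib.Chars
open scoped Classical ComplexConjugate

universe u

local notation "C⟨" P "⟩" => Subgroup.centralizer (SetLike.coe P)

variable {G : Type u} [Group G] [Fintype G] {M : Ideal AlgInt} {p : ℕ} [Fact p.Prime]
  {P : Subgroup G} {c : Set (IrrCharacter C⟨P⟩)} {B : Set (IrrCharacter G)}

/-- Inner products of stars, given weights summing to one over each section. -/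
theorem classInner_starFn_sections (hM : IsPModular p M) (hmax : IsMaximalBrauerPair p M B P c)
    (fb : ∀ y : G, Set (IrrCharacter C⟨Subgroup.zpowers y⟩))
    (hfb : ∀ y ∈ P, SubpairLE p M (Subgroup.zpowers y) (fb y) P c) (n : P → ℂ)
    (hn : ∀ (g₀ : G) (y₀ : P), ∑ q ∈ Finset.univ.filter (fun q : G × P =>
      secMap fb (q.1, (q.2 : G)) = secMap fb (g₀, (y₀ : G))), n q.2 = 1)
    {ψ₁ ψ₂ : G → ℂ} (h₁ : Stable p M P c ψ₁) (h₂ : Stable p M P c ψ₂) {η χ : IrrCharacter G}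
    (hη : η ∈ B) :
    classInner (starFn p M P c ψ₁ η) (starFn p M P c ψ₂ χ) =
      ∑ y : P, ψ₁ y * conj (ψ₂ y) * n y * secDot p η χ (⟨(y : G), fb y⟩ : SecIdx G) := by
  have hblk : ∀ y ∈ P, IsPBlock M (fb y) := fun y hy =>
    (subpairLE_isBrauerPair hmax.1.1 (hfb y hy)).2
  set X := (Finset.univ.filter fun x : G => IsPElem p x).sigma
    fun x => blocksFinset M C⟨Subgroup.zpowers x⟩ with hX
  let W : SecIdx G → ℂ := fun ω => weight p M P c ψ₁ ω.1 (bi M _ ω.2) *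
    conj (weight p M P c ψ₂ ω.1 (bi M _ ω.2)) * secDot p η χ ω
  have hW : ∑ g : G, starFn p M P c ψ₁ η g * conj (starFn p M P c ψ₂ χ g) = ∑ ω ∈ X, W ω := by
    rw [sum_sections_complex (p := p), hX, Finset.sum_sigma]
    refine Finset.sum_congr rfl fun x hx => ?_
    have hx' := (Finset.mem_filter.1 hx).2
    refine Eq.trans (sum_blockPart_mul_conj (p := p) hM
      (f := secFn x (starFn p M P c ψ₁ η))
      (isClassFunction_secFn x (isClassFunction_starFn hM h₂ χ))).symm ?_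
    refine Finset.sum_congr rfl fun b hb => ?_
    have hb' := (mem_blocksFinset hM).1 hb
    show _ = _ * _ * secDot p η χ ⟨x, b⟩
    rw [secDot, Finset.mul_sum]
    refine Finset.sum_congr rfl fun w hw => ?_
    have hw' := (Finset.mem_filter.1 hw).2
    rw [part_starFn hM η hx' hb' w hw', part_starFn hM χ hx' hb' w hw', map_mul]
    ring
  have hmem : ∀ q : G × P, secMap fb (q.1, (q.2 : G)) ∈ X := fun q => Finset.mem_sigma.2
    ⟨Finset.mem_filter.2 ⟨Finset.mem_univ _, (isPElem_of_mem hmax.1.1.1 q.2.2).conj q.1⟩,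
      (mem_blocksFinset hM).2 (IsPBlock.conjSet (isConjSub_zpowers q.1 (q.2 : G)) (hblk _ q.2.2))⟩
  have hfib : ∀ ω ∈ X, ∑ q ∈ Finset.univ.filter (fun q : G × P => secMap fb (q.1, (q.2 : G)) = ω),
      n q.2 * W (secMap fb (q.1, (q.2 : G))) = W ω := by
    intro ω hω
    obtain ⟨hx, hb⟩ := Finset.mem_sigma.1 hω
    rw [Finset.sum_congr rfl fun q hq => by rw [(Finset.mem_filter.1 hq).2], ← Finset.sum_mul]
    rcases Finset.eq_empty_or_nonempty
      (Finset.univ.filter fun q : G × P => secMap fb (q.1, (q.2 : G)) = ω) with he | ⟨q₀, hq₀⟩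
    · rw [he, Finset.sum_empty, zero_mul]
      obtain ⟨x, b⟩ := ω
      have hb' := (mem_blocksFinset hM).1 hb
      rcases below_or_part_eq_zero hM hmax hη (Finset.mem_filter.1 hx).2 hb' with ⟨t, ht⟩ | h
      · exfalso
        have hy := ht.mem
        obtain ⟨Q, f, rfl, hle, hf⟩ := ht
        obtain rfl := (existsUnique_subpairLE hM hmax.1.1 (Subgroup.zpowers_le.2 hy)).unique hle
          (hfb _ hy)
        refine Finset.eq_empty_iff_forall_notMem.1 he (t⁻¹, ⟨t * x * t⁻¹, hy⟩)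
          (Finset.mem_filter.2 ⟨Finset.mem_univ _, (secMap_eq_iff hM fb (hblk _ hy) hb').2 ⟨?_, ?_⟩⟩)
        · show t⁻¹ * (t * x * t⁻¹) * t⁻¹⁻¹ = x
          group
        · show cj t⁻¹ (bi M _ (fb (t * x * t⁻¹))) = bi M _ b
          rw [hf, cj_cj, inv_mul_cancel, cj_one]
      · symm
        show _ * _ * secDot p η χ ⟨x, b⟩ = 0
        rw [secDot, Finset.sum_eq_zero fun w hw => by rw [h w (Finset.mem_filter.1 hw).2, zero_mul],
          mul_zero]
    · rw [← (Finset.mem_filter.1 hq₀).2, hn q₀.1 q₀.2, one_mul]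
  rw [classInner_def, hW, ← Finset.sum_congr rfl hfib,
    Finset.sum_fiberwise_of_maps_to (fun q _ => hmem q), Fintype.sum_prod_type, Finset.sum_comm,
    Finset.mul_sum]
  refine Finset.sum_congr rfl fun y _ => ?_
  have hterm : ∀ g : G, n y * W (secMap fb (g, (y : G))) =
      n y * (ψ₁ y * conj (ψ₂ y) * secDot p η χ (⟨(y : G), fb y⟩ : SecIdx G)) := by
    intro g
    have hbel : Below p M P c (g * y * g⁻¹) (cj g (bi M _ (fb y))) g⁻¹ :=
      ⟨_, _, by group, hfb _ y.2, by rw [cj_cj, inv_mul_cancel, cj_one]⟩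
    have hbi := bi_conjSet (M := M) (isConjSub_zpowers g (y : G)) (fb (y : G))
    show _ * (_ * conj _ * secDot p η χ (secMap fb (g, (y : G)))) = _
    rw [secDot_secMap]
    simp only [secMap]
    rw [hbi, weight_eq h₁ hbel, weight_eq h₂ hbel,
      show g⁻¹ * (g * (y : G) * g⁻¹) * g⁻¹⁻¹ = (y : G) by group]
  have hG0 : (Nat.card G : ℂ) ≠ 0 := Nat.cast_ne_zero.2 Nat.card_pos.ne'
  rw [Finset.sum_congr rfl fun g _ => hterm g, Finset.sum_const, Finset.card_univ, nsmul_eq_mul,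
    ← Nat.card_eq_fintype_card, inv_mul_cancel_left₀ hG0]
  ring

/-- The number of pairs over a section, for an abelian defect group. -/
theorem card_section_fibre_abelian (hM : IsPModular p M) (hD : IsDefectGroup p M B P)
    (hc : IsBrauerPairOf p M B P c) (hab : ∀ a ∈ P, ∀ b ∈ P, a * b = b * a) {T : Subgroup G}
    (hT : IsPairStab P c T) (fb : ∀ y : G, Set (IrrCharacter C⟨Subgroup.zpowers y⟩))
    (hfb : ∀ y ∈ P, IsBelow M P c y (fb y)) (g₀ : G) (y₀ : P) :
    (Finset.univ.filter fun q : G × P =>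
        secMap fb (q.1, (q.2 : G)) = secMap fb (g₀, (y₀ : G))).card *
      Nat.card (T ⊓ C⟨Subgroup.zpowers (y₀ : G)⟩ : Subgroup G) =
      Nat.card T * Nat.card C⟨Subgroup.zpowers (y₀ : G)⟩ := by
  set K := C⟨Subgroup.zpowers (y₀ : G)⟩ with hK
  have hblk : ∀ y ∈ P, IsPBlock M (fb y) := fun y hy => (hfb y hy).1
  have hKy : ∀ k ∈ K, k * y₀ * k⁻¹ = (y₀ : G) := fun k hk => by
    rw [hK, centralizer_zpowers, Subgroup.mem_centralizer_singleton_iff] at hk
    rw [hk, mul_inv_cancel_right]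
  have hTP : ∀ t ∈ T, ∀ y ∈ P, t * y * t⁻¹ ∈ P := fun t ht y hy =>
    (Subgroup.mem_normalizer_iff.1 (hT.le_normalizer ht) y).1 hy
  have hcjT : ∀ t ∈ T, ∀ y ∈ P, cj t (bi M _ (fb y)) = bi M _ (fb (t * y * t⁻¹)) :=
    fun t ht y hy => by
      rw [← bi_conjSet (isConjSub_zpowers t y), ((hfb y hy).conj hM hc.1 hT ht).unique hM hc.1 hab
        (hTP t ht y hy) (hfb _ (hTP t ht y hy))]
  set Fb := Finset.univ.filter fun q : G × P => secMap fb (q.1, (q.2 : G)) = secMap fb (g₀, (y₀ : G))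
    with hFb
  let Ψ : T × K → G × P := fun a =>
    (g₀ * (a.2 : G) * (a.1 : G)⁻¹, ⟨(a.1 : G) * y₀ * (a.1 : G)⁻¹, hTP _ a.1.2 _ y₀.2⟩)
  have himg : Finset.univ.image Ψ = Fb := by
    refine Finset.ext fun q => ?_
    simp only [Finset.mem_image, Finset.mem_univ, true_and, hFb, Finset.mem_filter]
    constructor
    · rintro ⟨⟨u, k⟩, rfl⟩
      refine (secMap_eq_iff hM fb (hblk _ (hTP _ u.2 _ y₀.2))
        (IsPBlock.conjSet (isConjSub_zpowers g₀ (y₀ : G)) (hblk _ y₀.2))).2 ⟨?_, ?_⟩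
      · show g₀ * (k : G) * (u : G)⁻¹ * ((u : G) * y₀ * (u : G)⁻¹) * (g₀ * (k : G) * (u : G)⁻¹)⁻¹ =
          g₀ * (y₀ : G) * g₀⁻¹
        conv_rhs => rw [← hKy k k.2]
        group
      · show cj (g₀ * (k : G) * (u : G)⁻¹) (bi M _ (fb ((u : G) * y₀ * (u : G)⁻¹))) =
          bi M _ (conjSet _ _ g₀ (fb y₀))
        rw [bi_conjSet (isConjSub_zpowers g₀ (y₀ : G)), ← hcjT u u.2 y₀ y₀.2, cj_cj,
          inv_mul_cancel_right, ← cj_cj]
        exact congrArg (cj g₀) (invOn_iff.1 (invOn_bi (fb y₀)) k k.2)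
    · intro hq
      obtain ⟨g, y, hy⟩ := q
      obtain ⟨h1, h2⟩ := (secMap_eq_iff hM fb (hblk _ hy)
        (IsPBlock.conjSet (isConjSub_zpowers g₀ (y₀ : G)) (hblk _ y₀.2))).1 hq
      rw [bi_conjSet (isConjSub_zpowers g₀ (y₀ : G))] at h2
      change g * y * g⁻¹ = g₀ * (y₀ : G) * g₀⁻¹ at h1
      have hgy : g⁻¹ * g₀ * y₀ * (g⁻¹ * g₀)⁻¹ = y := by
        calc g⁻¹ * g₀ * y₀ * (g⁻¹ * g₀)⁻¹ = g⁻¹ * (g₀ * y₀ * g₀⁻¹) * g := by group
          _ = y := by rw [← h1]; group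
      obtain ⟨u, hu, huy⟩ := IsBelow.fusion hM hD hc hab hT y₀.2 hy (hfb _ y₀.2) (hfb _ hy) hgy
        (by rw [← cj_cj, ← h2, cj_cj, inv_mul_cancel, cj_one])
      have hk : g₀⁻¹ * g * u ∈ K := by
        rw [hK, centralizer_zpowers, Subgroup.mem_centralizer_singleton_iff]
        calc g₀⁻¹ * g * u * y₀ = g₀⁻¹ * (g * (u * y₀ * u⁻¹) * g⁻¹) * g * u := by group
          _ = y₀ * (g₀⁻¹ * g * u) := by rw [huy, h1]; group
      refine ⟨(⟨u, hu⟩, ⟨_, hk⟩), Prod.ext ?_ (Subtype.ext ?_)⟩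
      · show g₀ * (g₀⁻¹ * g * u) * u⁻¹ = g
        group
      · exact huy
  have hcard := Finset.card_eq_sum_card_image Ψ Finset.univ
  rw [himg, Finset.card_univ, Fintype.card_prod, ← Nat.card_eq_fintype_card,
    ← Nat.card_eq_fintype_card] at hcard
  rw [hcard]
  refine (Finset.sum_const_nat fun q hq => ?_).symm
  rw [← himg] at hq
  obtain ⟨⟨u₁, k₁⟩, -, rfl⟩ := Finset.mem_image.1 hq
  rw [Nat.card_eq_fintype_card]
  symm
  refine Finset.card_bij (s := Finset.univ) (fun (d : (T ⊓ K : Subgroup G)) _ =>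
    ((u₁ * ⟨d, d.2.1⟩, k₁ * ⟨d, d.2.2⟩) : T × K)) (fun d _ => ?_) (fun d _ d' _ h => ?_) ?_
  · refine Finset.mem_filter.2 ⟨Finset.mem_univ _, Prod.ext ?_ (Subtype.ext ?_)⟩
    · show g₀ * ((k₁ : G) * d) * ((u₁ : G) * d)⁻¹ = g₀ * (k₁ : G) * (u₁ : G)⁻¹
      group
    · show (u₁ : G) * d * y₀ * ((u₁ : G) * d)⁻¹ = (u₁ : G) * y₀ * (u₁ : G)⁻¹
      conv_rhs => rw [← hKy d d.2.2]
      group
  · exact Subtype.ext (mul_left_cancel (congrArg (fun a : T × K => (a.1 : G)) h :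
      (u₁ : G) * d = (u₁ : G) * d'))
  · rintro ⟨u, k⟩ huk
    obtain ⟨-, huk⟩ := Finset.mem_filter.1 huk
    have h1 : g₀ * (k : G) * (u : G)⁻¹ = g₀ * (k₁ : G) * (u₁ : G)⁻¹ := congrArg Prod.fst huk
    rw [mul_assoc, mul_assoc, mul_right_inj] at h1
    have hkd : (k₁ : G)⁻¹ * k = (u₁ : G)⁻¹ * u := by
      calc (k₁ : G)⁻¹ * k = (k₁ : G)⁻¹ * ((k : G) * (u : G)⁻¹) * u := by group
        _ = _ := by rw [h1]; group
    refine ⟨⟨(u₁ : G)⁻¹ * u, T.mul_mem (T.inv_mem u₁.2) u.2,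
      hkd ▸ K.mul_mem (K.inv_mem k₁.2) k.2⟩, Finset.mem_univ _,
      Prod.ext (Subtype.ext (mul_inv_cancel_left _ _)) (Subtype.ext ?_)⟩
    show (k₁ : G) * ((u₁ : G)⁻¹ * u) = k
    rw [← hkd, mul_inv_cancel_left]

/-- A character invariant under the inertial group is trivial on the focal subgroup. -/
theorem mem_focTriv_of_invariant (hM : IsPModular p M) (hD : IsDefectGroup p M B P)
    (hmax : IsMaximalBrauerPair p M B P c) (hab : ∀ a ∈ P, ∀ b ∈ P, a * b = b * a) {T : Subgroup G}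
    (hT : IsPairStab P c T) {lam : P →* ℂˣ}
    (hlam : ∀ (t : G) (y y' : P), t ∈ T → t * (y : G) * t⁻¹ = y' → lam y' = lam y) :
    lam ∈ focTriv (blockSystem hM hmax.1.1) := by
  have hc := hmax.1
  intro y hy
  have hsub : (blockSystem hM hmax.1.1).focalSubgroup ≤ lam.ker.map P.subtype := by
    refine (Subgroup.closure_le _).2 ?_
    rintro z ⟨Q, φ, x, hφ, rfl⟩
    obtain ⟨hQP, g, hg, hgQ, f, hf, hgf⟩ :=
      ((isBlockFusionSystemOn_blockSystem hM hmax).2 Q φ).1 hφ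
    have hxP : (x : G) ∈ P := hQP x.2
    have hx'P : g * (x : G) * g⁻¹ ∈ P := hgQ ⟨x, x.2, rfl⟩
    obtain ⟨f₁, hf₁⟩ := exists_below hM hc.1 hab hxP
    obtain ⟨f₂, hf₂⟩ := exists_below hM hc.1 hab hx'P
    obtain ⟨e₁, he₁, -⟩ := existsUnique_subpairLE hM (subpairLE_isBrauerPair hc.1 hf)
      (Subgroup.zpowers_le.2 x.2)
    obtain rfl : e₁ = f₁ := (existsUnique_subpairLE hM hc.1 (Subgroup.zpowers_le.2 hxP)).unique
      (SubpairLE.trans' he₁ hf) (Relation.ReflTransGen.single (hf₁.normalSubpair hM hc.1 hab hxP))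
    have hle₂ := SubpairLE.trans' (subpairLE_conj hM he₁ g) hgf
    have key : ∀ (Q' : Subgroup G) (e : Set (IrrCharacter C⟨Q'⟩)),
        Q' = Subgroup.zpowers (g * (x : G) * g⁻¹) → SubpairLE p M Q' e P c →
        bi M _ e = bi M _ f₂ := by
      rintro _ e rfl h
      rw [(existsUnique_subpairLE hM hc.1 (Subgroup.zpowers_le.2 hx'P)).unique h
        (Relation.ReflTransGen.single (hf₂.normalSubpair hM hc.1 hab hx'P))]
    obtain ⟨t, ht, htx⟩ := IsBelow.fusion hM hD hc hab hT hxP hx'P hf₁ hf₂ rfl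
      (by rw [← bi_conjBlock, key _ _ (map_conj_zpowers g x) hle₂])
    refine ⟨(⟨x, hxP⟩ : P)⁻¹ * ⟨_, hx'P⟩, ?_, ?_⟩
    · rw [SetLike.mem_coe, MonoidHom.mem_ker, map_mul, map_inv,
        hlam t ⟨x, hxP⟩ ⟨_, hx'P⟩ ht htx, inv_mul_cancel]
    · show (x : G)⁻¹ * (g * (x : G) * g⁻¹) = _
      rw [hg]
  obtain ⟨z, hz, hzy⟩ := hsub hy
  rwa [← Subtype.ext hzy]

/-- **The trace formula.** -/
theorem trace_formula (hM : IsPModular p M) (hD : IsDefectGroup p M B P)
    (hc : IsBrauerPairOf p M B P c) (hab : ∀ a ∈ P, ∀ b ∈ P, a * b = b * a) {T : Subgroup G}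
    (hT : IsPairStab P c T) (fb : ∀ y : G, Set (IrrCharacter C⟨Subgroup.zpowers y⟩))
    (hfb : ∀ y ∈ P, IsBelow M P c y (fb y)) {lam : P →* ℂˣ}
    (hlam : ∀ (t : G) (y y' : P), t ∈ T → t * (y : G) * t⁻¹ = y' → lam y' = lam y) :
    ∑ y : P, ((lam y : ℂˣ) : ℂ) *
        ((Nat.card (T ⊓ C⟨Subgroup.zpowers (y : G)⟩ : Subgroup G) : ℂ) / Nat.card T *
          (blockRank p (fb y) : ℂ)) =
      if lam = 1 then (Nat.card B : ℂ) else 0 := by
  have hmax := isMaximal_of_isDefectGroup hM hc hD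
  have hF := isBlockFusionSystemOn_blockSystem hM hmax
  have hlamF := mem_focTriv_of_invariant hM hD hmax hab hT hlam
  have hle : ∀ y ∈ P, SubpairLE p M (Subgroup.zpowers y) (fb y) P c := fun y hy =>
    Relation.ReflTransGen.single ((hfb y hy).normalSubpair hM hc.1 hab hy)
  let n : P → ℂ := fun y => (Nat.card (T ⊓ C⟨Subgroup.zpowers (y : G)⟩ : Subgroup G) : ℂ) *
    (Nat.card T : ℂ)⁻¹ * (Nat.card C⟨Subgroup.zpowers (y : G)⟩ : ℂ)⁻¹
  have hn : ∀ (g₀ : G) (y₀ : P), ∑ q ∈ Finset.univ.filter (fun q : G × P =>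
      secMap fb (q.1, (q.2 : G)) = secMap fb (g₀, (y₀ : G))), n q.2 = 1 := by
    intro g₀ y₀
    set Fb := Finset.univ.filter (fun q : G × P =>
      secMap fb (q.1, (q.2 : G)) = secMap fb (g₀, (y₀ : G))) with hFb
    have hN : ∀ q ∈ Fb, n q.2 = (Fb.card : ℂ)⁻¹ := by
      intro q hq
      have h := card_section_fibre_abelian hM hD hc hab hT fb hfb q.1 q.2
      rw [(Finset.mem_filter.1 hq).2, ← hFb] at h
      have h' := congrArg (Nat.cast (R := ℂ)) h
      simp only [Nat.cast_mul] at h'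
      have hF0 : (Fb.card : ℂ) ≠ 0 := Nat.cast_ne_zero.2 (Finset.card_pos.2 ⟨q, hq⟩).ne'
      have hT0 : (Nat.card T : ℂ) ≠ 0 := Nat.cast_ne_zero.2 Nat.card_pos.ne'
      have hC0 : (Nat.card C⟨Subgroup.zpowers (q.2 : G)⟩ : ℂ) ≠ 0 :=
        Nat.cast_ne_zero.2 Nat.card_pos.ne'
      show _ * (Nat.card T : ℂ)⁻¹ * _ = _
      field_simp
      linear_combination h'
    rw [Finset.sum_congr rfl hN, Finset.sum_const, nsmul_eq_mul,
      mul_inv_cancel₀ (Nat.cast_ne_zero.2 (Finset.card_pos.2 ⟨(g₀, y₀), by simp [hFb]⟩).ne')]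
  have hst := stable_lamFn hM hF hlamF
  have hst1 := stable_lamFn hM hF (one_mem _)
  have hside : ∀ χ ∈ B, classInner (starFn p M P c (lamFn P lam) χ) ((χ : IrrCharacter G) : G → ℂ) =
      if lam = 1 then 1 else 0 := by
    intro χ hχ
    by_cases h1 : lam = 1
    · rw [if_pos h1, h1, show starFn p M P c (lamFn P 1) χ = (χ : G → ℂ) from
        funext (starFn_one hM hF hχ), classInner_self_irr χ.2]
    · rw [if_neg h1]
      refine (classInner_irrCharacter ⟨_, isIrrCharacter_starFn hM hF hlamF hχ⟩ χ).trans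
        (if_neg fun heq => h1 (MonoidHom.ext fun y => ?_))
      have hfix : starFn p M P c (lamFn P lam) χ = (χ : G → ℂ) := congrArg Subtype.val heq
      obtain ⟨b, hb, hbel, w, hw, hne⟩ :=
        exists_major_part_ne_zero hM hmax hχ y.2 fun a ha => hab a ha _ y.2
      have h := lam_eq_one_of_fixed hM hF hlamF hfix (isPElem_of_mem hc.1.1 y.2) hb hbel hw hne
      rw [MonoidHom.one_apply, ← h]
      congr 1
      exact Subtype.ext (by simp)
  have htr : ∀ χ ∈ B, classInner (starFn p M P c (lamFn P lam) χ) ((χ : IrrCharacter G) : G → ℂ) =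
      ∑ y : P, ((lam y : ℂˣ) : ℂ) * n y * secDot p χ χ (⟨(y : G), fb y⟩ : SecIdx G) := by
    intro χ hχ
    conv_lhs => arg 2; rw [← show starFn p M P c (lamFn P 1) χ = (χ : G → ℂ) from
      funext (starFn_one hM hF hχ)]
    rw [classInner_starFn_sections hM hmax fb hle n hn hst hst1 hχ]
    exact Finset.sum_congr rfl fun y _ => by
      rw [lamFn_coe, lamFn_coe, MonoidHom.one_apply, Units.val_one, map_one, mul_one]
  have hsum : ∀ y : P, ∑ χ ∈ Finset.univ.filter (· ∈ B), secDot p χ χ (⟨(y : G), fb y⟩ : SecIdx G) =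
      (Nat.card C⟨Subgroup.zpowers (y : G)⟩ : ℂ) * (blockRank p (fb y) : ℂ) := by
    intro y
    have hind := ((isBrauerPairOf_iff hM B _ _).1 ((hfb y y.2).pair hM hc hab y.2)).2
    have h := sum_contribution_self hM (isPElem_of_mem hc.1.1 y.2) rfl hind
    simp only [contribution_eq_sum_regular hM hind.1, ← Finset.mul_sum] at h
    have hp0 : (p : ℂ) ^ blockDefect p (fb y) ≠ 0 :=
      pow_ne_zero _ (Nat.cast_ne_zero.2 (Fact.out : p.Prime).ne_zero)
    rw [mul_assoc] at h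
    have h2 := mul_left_cancel₀ hp0 h
    rw [inv_mul_eq_iff_eq_mul₀ (Nat.cast_ne_zero.2 Nat.card_pos.ne')] at h2
    exact h2
  have htot : ∑ χ ∈ Finset.univ.filter (· ∈ B),
      classInner (starFn p M P c (lamFn P lam) χ) ((χ : IrrCharacter G) : G → ℂ) =
      if lam = 1 then (Nat.card B : ℂ) else 0 := by
    rw [Finset.sum_congr rfl fun χ hχ => hside χ (Finset.mem_filter.1 hχ).2, Finset.sum_const,
      ← Fintype.card_subtype, ← Nat.card_eq_fintype_card]
    split_ifs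
    · rw [nsmul_one]
    · rw [nsmul_zero]
  rw [← htot, Finset.sum_congr rfl fun χ hχ => htr χ (Finset.mem_filter.1 hχ).2, Finset.sum_comm]
  refine Finset.sum_congr rfl fun y _ => ?_
  rw [← Finset.mul_sum, hsum]
  have hC0 : (Nat.card C⟨Subgroup.zpowers (y : G)⟩ : ℂ) ≠ 0 := Nat.cast_ne_zero.2 Nat.card_pos.ne'
  simp only [n]
  field_simp

end Cfsg.Lib.Blocks.Star
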