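import Mathlib
import Cfsg.Agent.Blocks.Star.AbelianTrace
import Cfsg.Agent.Blocks.AbelianLocal

/-!
# Watanabe's theorem

For a block with abelian defect group and an element `u` of the defect group fixed by the inertial
group, the block of the centraliser of `u` below the maximal pair has as many ordinary and modular
characters as the block itself.  By induction the two blocks have the same ranks in all sections
at non-central elements, and the trace formula for a character separating `u` from the centre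
then forces the remaining ranks to agree.
-/

set_option autoImplicit false
set_option linter.unusedSectionVars false
set_option linter.style.haveILetI false

namespace Cfsg.Lib.Blocks.Star

open Cfsg.Lib.Chars
open scoped Classical

universe u

local notation "C⟨" P "⟩" => Subgroup.centralizer (SetLike.coe P)

variable {M : Ideal AlgInt} {p : ℕ} [Fact p.Prime]

section

variable {G : Type u} [Group G] [Fintype G] {P : Subgroup G} {c : Set (IrrCharacter C⟨P⟩)}
  {B : Set (IrrCharacter G)}

/-- Blocks below a pair in equal subgroups have equal ranks. -/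
lemma rank_eq_of_br (hM : IsPModular p M) (hc : IsBrauerPair p M P c) {H H' : Subgroup G}
    (hHH : H = H') (hPH : P ≤ H) (hCH : C⟨P⟩ ≤ H) {b : Set (IrrCharacter H)}
    {b' : Set (IrrCharacter H')} (hb : IsPBlock M b) (hb' : IsPBlock M b')
    (h : br P (bi M H b) * bi M C⟨P⟩ c = bi M C⟨P⟩ c)
    (h' : br P (bi M H' b') * bi M C⟨P⟩ c = bi M C⟨P⟩ c) : blockRank p b = blockRank p b' := by
  subst hHH
  rw [eq_of_br hM hPH hCH hc hb hb' h h']

/-- The block of the whole group below a pair is the block. -/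
lemma rank_top (hM : IsPModular p M) (hc : IsBrauerPairOf p M B P c) {H : Subgroup G} (hH : H = ⊤)
    {b : Set (IrrCharacter H)} (hb : IsPBlock M b)
    (h : br P (bi M H b) * bi M C⟨P⟩ c = bi M C⟨P⟩ c) :
    blockRank p b = blockRank p B ∧ Nat.card b = Nat.card B := by
  subst hH
  set e : (⊤ : Subgroup G) ≃* G := Subgroup.topEquiv
  obtain ⟨hP, hB, hbr⟩ := (isBrauerPairOf_iff_br hM B P c).1 hc
  have hbi : bi M (⊤ : Subgroup G) (irrEquiv e '' B) = red M (blockElem B) := fn_ext fun g => by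
    rw [← emb_red_blockElem, fn_emb_mem _ _ (Subgroup.mem_top g), fn_red, fn_red, fn_blockElem,
      fn_blockElem, blockCoeff_image]
    rfl
  obtain rfl := eq_of_br hM (le_top : P ≤ ⊤) le_top hc.1 hb (IsPBlock.image_irrEquiv e hB) h
    (by rw [hbi, hbr])
  exact ⟨blockRank_irrEquiv e B, Nat.card_image_of_injective (irrEquiv e).injective B⟩

/-- A section of a subgroup below the pair, seen in the group. -/
lemma below_down (hM : IsPModular p M) {H : Subgroup G} (hPH : P ≤ H) (hCH : C⟨P⟩ ≤ H) {z : G}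
    (hzH : z ∈ H)
    {f' : Set (IrrCharacter (Subgroup.centralizer (Subgroup.zpowers (⟨z, hzH⟩ : H) : Set H)))}
    (hf' : IsBelow M (P.subgroupOf H) (downSet hPH c) (⟨z, hzH⟩ : H) f') :
    ∃ h : Set (IrrCharacter (C⟨Subgroup.zpowers z⟩ ⊓ H : Subgroup G)), IsPBlock M h ∧
      br P (bi M _ h) * bi M C⟨P⟩ c = bi M C⟨P⟩ c ∧ blockRank p f' = blockRank p h := by
  have hs : IsSubOf H (C⟨Subgroup.zpowers z⟩ ⊓ H)
      (Subgroup.centralizer (Subgroup.zpowers (⟨z, hzH⟩ : H) : Set H)) := fun x => by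
    rw [centralizer_zpowers, Subgroup.mem_centralizer_singleton_iff, Subgroup.mem_inf,
      centralizer_zpowers, Subgroup.mem_centralizer_singleton_iff]
    exact ⟨fun h => ⟨congrArg Subtype.val h, x.2⟩, fun h => Subtype.ext h.1⟩
  obtain ⟨h, hb, rfl⟩ := exists_inSub hs inf_le_right hf'.1
  refine ⟨h, hb, ?_, blockRank_irrEquiv _ _⟩
  have h2 := congrArg (emb H) hf'.2
  rwa [emb_mul, emb_br H P hPH, emb_bi_inSub hs inf_le_right, emb_bi_downSet hPH hCH] at h2

lemma exists_fb (hM : IsPModular p M) (hc : IsBrauerPair p M P c)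
    (hab : ∀ a ∈ P, ∀ b ∈ P, a * b = b * a) :
    ∃ fb : ∀ y : G, Set (IrrCharacter C⟨Subgroup.zpowers y⟩),
      ∀ y ∈ P, IsBelow M P c y (fb y) :=
  ⟨fun y => if h : y ∈ P then (exists_below hM hc hab h).choose else ∅, fun y hy => by
    simp only [dif_pos hy]
    exact (exists_below hM hc hab hy).choose_spec⟩

/-- An invariant character separating a fixed element from the centre. -/
theorem exists_separating_invariant (hM : IsPModular p M) (hD : IsDefectGroup p M B P)
    (hc : IsBrauerPairOf p M B P c) (hab : ∀ a ∈ P, ∀ b ∈ P, a * b = b * a) {T : Subgroup G}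
    (hT : IsPairStab P c T) {u : G} (hu : u ∈ P) (huT : ∀ t ∈ T, t * u * t⁻¹ = u)
    (hunc : u ∉ Subgroup.center G) :
    ∃ lam : P →* ℂˣ, lam ≠ 1 ∧ (∀ y : P, (y : G) ∈ Subgroup.center G → lam y = 1) ∧
      ∀ (t : G) (y y' : P), t ∈ T → t * (y : G) * t⁻¹ = y' → lam y' = lam y := by
  letI : CommGroup P :=
    { (inferInstance : Group P) with mul_comm := fun a b => Subtype.ext (hab a a.2 b b.2) }
  haveI hnormal : (C⟨P⟩.subgroupOf T).Normal := ⟨fun x hx t =>
    (Subgroup.mem_normalizer_iff.1 (centralizer_le_normalizer_centralizer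
      (hT.le_normalizer t.2) le_rfl) (x : G)).1 hx⟩
  letI : Fintype (T ⧸ C⟨P⟩.subgroupOf T) := Fintype.ofFinite _
  have hTP : ∀ (t : T) (y : P), (t : G) * y * (t : G)⁻¹ ∈ P := fun t y =>
    (Subgroup.mem_normalizer_iff.1 (hT.le_normalizer t.2) y).1 y.2
  let a : T → P →* P := fun t => MonoidHom.mk' (fun y => ⟨(t : G) * y * (t : G)⁻¹, hTP t y⟩)
    fun x y => Subtype.ext (by
      show (t : G) * ((x : G) * y) * (t : G)⁻¹ = (t : G) * x * (t : G)⁻¹ * ((t : G) * y * (t : G)⁻¹)
      group)
  let Nm : P →* P := ∏ q : T ⧸ C⟨P⟩.subgroupOf T, a q.out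
  have hNm : ∀ y : P, Nm y = ∏ q : T ⧸ C⟨P⟩.subgroupOf T, a q.out y := fun y =>
    MonoidHom.finsetProd_apply _ _ _
  have hinv : ∀ (t : T) (y : P), Nm (a t y) = Nm y := by
    intro t y
    rw [hNm, hNm]
    refine Fintype.prod_equiv (Equiv.mulRight (t : T ⧸ C⟨P⟩.subgroupOf T)) _ _ fun q => ?_
    obtain ⟨k, hk⟩ := QuotientGroup.mk_out_eq_mul (C⟨P⟩.subgroupOf T) (q.out * t)
    rw [Equiv.coe_mulRight]
    rw [QuotientGroup.mk_mul, QuotientGroup.out_eq'] at hk
    rw [hk]
    refine Subtype.ext ?_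
    show ((q.out : T) : G) * ((t : G) * y * (t : G)⁻¹) * ((q.out : T) : G)⁻¹ =
      ((q.out : T) : G) * t * ((k : T) : G) * y * (((q.out : T) : G) * t * ((k : T) : G))⁻¹
    have hky : ((k : T) : G) * y * ((k : T) : G)⁻¹ = y := by
      rw [← Subgroup.mem_centralizer_iff.1 (Subgroup.mem_subgroupOf.1 k.2) y y.2, mul_inv_cancel_right]
    conv_lhs => rw [← hky]
    group
  have hfix : ∀ y : P, (∀ t ∈ T, t * (y : G) * t⁻¹ = y) → Nm y = y ^ C⟨P⟩.relIndex T := by
    intro y hy
    have : ∀ t : T, a t y = y := fun t => Subtype.ext (hy t t.2)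
    rw [hNm, Finset.prod_congr rfl fun q _ => this q.out, Finset.prod_const, Finset.card_univ,
      Subgroup.relIndex, Subgroup.index_eq_card, Nat.card_eq_fintype_card]
  set Z : Subgroup P := (Subgroup.center G).subgroupOf P with hZ
  set e := C⟨P⟩.relIndex T with he
  have hco : e.Coprime (orderOf (⟨u, hu⟩ : P)) := by
    obtain ⟨k, hk⟩ := IsPGroup.iff_orderOf.1 hc.1.1 ⟨u, hu⟩
    rw [hk]
    exact (((Fact.out : p.Prime).coprime_iff_not_dvd).2 (not_dvd_inertial_index hM hD
      (fun x hx => Subgroup.mem_centralizer_iff.2 fun y hy => hab y hy x hx)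
      ((isBrauerPairOf_iff hM B P c).1 hc).2 hT)).symm.pow_right k
  have hue : ((⟨u, hu⟩ : P) ^ e : P) ∉ Z := fun h => by
    obtain ⟨m, hm⟩ := exists_pow_eq_self_of_coprime hco
    exact hunc (Subgroup.mem_subgroupOf.1 (hm ▸ Z.pow_mem h m))
  obtain ⟨μ, hμ⟩ := CommGroup.exists_apply_ne_one_of_hasEnoughRootsOfUnity (P ⧸ Z) ℂ
    (a := QuotientGroup.mk' Z ((⟨u, hu⟩ : P) ^ e))
    fun h => hue ((QuotientGroup.eq_one_iff _).1 h)
  refine ⟨(μ.comp (QuotientGroup.mk' Z)).comp Nm, fun h => ?_, fun y hy => ?_, ?_⟩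
  · refine hμ ?_
    rw [← hfix ⟨u, hu⟩ huT]
    exact DFunLike.congr_fun h ⟨u, hu⟩
  · have hy' : Nm y = y ^ e := hfix y fun t _ => by
      rw [Subgroup.mem_center_iff.1 hy t, mul_inv_cancel_right]
    show μ (QuotientGroup.mk' Z (Nm y)) = 1
    rw [hy', show QuotientGroup.mk' Z (y ^ e) = 1 from
      (QuotientGroup.eq_one_iff _).2 (Z.pow_mem (Subgroup.mem_subgroupOf.2 hy) e), map_one]
  · intro t y y' ht htyy
    have : y' = a ⟨t, ht⟩ y := Subtype.ext htyy.symm
    rw [this]
    show μ (QuotientGroup.mk' Z (Nm (a ⟨t, ht⟩ y))) = _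
    rw [hinv]
    rfl

end

/-- **Watanabe's theorem**, by induction on the order of the group. -/
theorem watanabe_aux (hM : IsPModular p M) : ∀ (n : ℕ) (G : Type u) [Group G] [Fintype G],
    Nat.card G = n → ∀ (B : Set (IrrCharacter G)) (P : Subgroup G) (c : Set (IrrCharacter C⟨P⟩)),
      IsDefectGroup p M B P → IsBrauerPairOf p M B P c → (∀ a ∈ P, ∀ b ∈ P, a * b = b * a) →
      ∀ T : Subgroup G, IsPairStab P c T → ∀ u ∈ P, (∀ t ∈ T, t * u * t⁻¹ = u) →
      ∀ f : Set (IrrCharacter C⟨Subgroup.zpowers u⟩), IsBelow M P c u f →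
        blockRank p B = blockRank p f ∧ Nat.card B = Nat.card f := by
  intro n
  induction n using Nat.strong_induction_on with
  | _ n ih =>
    intro G _ _ hn B P c hD hc hab T hT u hu huT
    set H := C⟨Subgroup.zpowers u⟩ with hHdef
    intro f hf
    have hmemC : ∀ y g : G, g ∈ C⟨Subgroup.zpowers y⟩ ↔ g * y = y * g := fun y g => by
      rw [centralizer_zpowers, Subgroup.mem_centralizer_singleton_iff]
    have htopC : ∀ y : G, C⟨Subgroup.zpowers y⟩ = ⊤ ↔ y ∈ Subgroup.center G := fun y => by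
      rw [Subgroup.eq_top_iff', Subgroup.mem_center_iff]
      simp only [hmemC]
    by_cases hunc : u ∈ Subgroup.center G
    · obtain ⟨h1, h2⟩ := rank_top hM hc ((htopC u).2 hunc) hf.1 hf.2
      exact ⟨h1.symm, h2.symm⟩
    have hPH : P ≤ H := le_centralizer_zpowers hab hu
    have hCH : C⟨P⟩ ≤ H := centralizer_le_zpowers hu
    have hTH : T ≤ H := fun t ht => (hmemC u t).2 (mul_inv_eq_iff_eq_mul.1 (huT t ht))
    obtain ⟨hfD, hfc⟩ := hf.defect hM hD hc hab hu
    have habH : ∀ a ∈ P.subgroupOf H, ∀ b ∈ P.subgroupOf H, a * b = b * a :=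
      fun a ha b hb => Subtype.ext (hab _ ha _ hb)
    have hTsH := isPairStab_down hM hPH hCH hc.1.2 hT
    obtain ⟨fb, hfb⟩ := exists_fb hM hc.1 hab
    obtain ⟨fH, hfH⟩ := exists_fb (G := H) hM hfc.1 habH
    let E : P.subgroupOf H ≃* P := Subgroup.subgroupOfEquivOfLe hPH
    -- the ranks agree at the sections of non-central elements
    have hnoncen : ∀ y' : P.subgroupOf H, ((y' : H) : G) ∉ Subgroup.center G →
        blockRank p (fb ((y' : H) : G)) = blockRank p (fH (y' : H)) := by
      intro y' hync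
      set y : G := ((y' : H) : G) with hy
      have hyP : y ∈ P := y'.2
      set K := C⟨Subgroup.zpowers y⟩ with hK
      have hPK : P ≤ K := le_centralizer_zpowers hab hyP
      have hCK : C⟨P⟩ ≤ K := centralizer_le_zpowers hyP
      have hlt : Nat.card K < n := by
        rw [← hn, ← K.card_mul_index]
        refine lt_mul_of_one_lt_right Nat.card_pos ?_
        have h1 : K.index ≠ 0 := Subgroup.index_ne_zero_of_finite
        have h2 : K.index ≠ 1 := fun h => hync ((htopC y).1 (Subgroup.index_eq_one.1 h))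
        omega
      obtain ⟨hyD, hyc⟩ := (hfb y hyP).defect hM hD hc hab hyP
      have habK : ∀ a ∈ P.subgroupOf K, ∀ b ∈ P.subgroupOf K, a * b = b * a :=
        fun a ha b hb => Subtype.ext (hab _ ha _ hb)
      obtain ⟨g, hg⟩ := exists_below (G := K) hM hyc.1 habK (y := ⟨u, hPK hu⟩) hu
      obtain ⟨hrank, -⟩ := ih _ hlt K rfl (fb y) (P.subgroupOf K) _ hyD hyc habK (T.subgroupOf K)
        (isPairStab_down hM hPK hCK hc.1.2 hT) ⟨u, hPK hu⟩ hu
        (fun t ht => Subtype.ext (huT t ht)) g hg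
      obtain ⟨h1, h1b, h1br, h1r⟩ := below_down hM hPK hCK (hPK hu) hg
      obtain ⟨h2, h2b, h2br, h2r⟩ := below_down hM hPH hCH (y' : H).2 (hfH _ y'.2)
      rw [hrank, h1r, h2r]
      exact rank_eq_of_br hM hc.1 (inf_comm _ _) (le_inf hPH hPK) (le_inf hCH hCK) h1b h2b h1br h2br
    have hcen : ∀ y' : P.subgroupOf H, ((y' : H) : G) ∈ Subgroup.center G →
        blockRank p (fb ((y' : H) : G)) = blockRank p B ∧
          blockRank p (fH (y' : H)) = blockRank p f := by
      intro y' hyc
      refine ⟨(rank_top hM hc ((htopC _).2 hyc) (hfb _ y'.2).1 (hfb _ y'.2).2).1,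
        (rank_top (G := H) hM hfc ?_ (hfH _ y'.2).1 (hfH _ y'.2).2).1⟩
      rw [Subgroup.eq_top_iff']
      intro h
      refine Subgroup.mem_centralizer_iff.2 fun k hk => Subtype.ext ?_
      obtain ⟨j, rfl⟩ := hk
      exact (Subgroup.mem_center_iff.1 ((Subgroup.center G).zpow_mem hyc j) (h : G)).symm
    -- the weights
    let w : P.subgroupOf H → ℂ := fun y' =>
      (Nat.card (T ⊓ C⟨Subgroup.zpowers ((y' : H) : G)⟩ : Subgroup G) : ℂ) / Nat.card T
    have hw : ∀ y' : P.subgroupOf H, (Nat.card (T.subgroupOf H ⊓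
        C⟨Subgroup.zpowers (y' : H)⟩ : Subgroup H) : ℂ) / Nat.card (T.subgroupOf H) = w y' := by
      intro y'
      have heq : T.subgroupOf H ⊓ C⟨Subgroup.zpowers (y' : H)⟩ =
          (T ⊓ C⟨Subgroup.zpowers ((y' : H) : G)⟩).subgroupOf H := by
        ext h
        simp only [Subgroup.mem_inf, Subgroup.mem_subgroupOf, centralizer_zpowers,
          Subgroup.mem_centralizer_singleton_iff, Subtype.ext_iff, Subgroup.coe_mul]
      rw [heq, Nat.card_congr (Subgroup.subgroupOfEquivOfLe (inf_le_left.trans hTH)).toEquiv,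
        Nat.card_congr (Subgroup.subgroupOfEquivOfLe hTH).toEquiv]
    -- the two trace formulas
    have hdiff : ∀ lam : P →* ℂˣ,
        (∀ (t : G) (y y' : P), t ∈ T → t * (y : G) * t⁻¹ = y' → lam y' = lam y) →
        ∑ y' : P.subgroupOf H, ((lam (E y') : ℂˣ) : ℂ) * (w y' *
          ((blockRank p (fb ((y' : H) : G)) : ℂ) - (blockRank p (fH (y' : H)) : ℂ))) =
          if lam = 1 then (Nat.card B : ℂ) - Nat.card f else 0 := by
      intro lam hlam
      have e1 := trace_formula hM hD hc hab hT fb hfb hlam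
      have e2 := trace_formula (G := H) hM hfD hfc habH hTsH fH hfH (lam := lam.comp E.toMonoidHom)
        fun t y y' ht h => hlam t (E y) (E y') ht (congrArg Subtype.val h)
      have hiff : lam.comp E.toMonoidHom = 1 ↔ lam = 1 :=
        ⟨fun h => MonoidHom.ext fun y => by
          have := DFunLike.congr_fun h (E.symm y)
          simpa using this, fun h => by rw [h]; rfl⟩
      rw [← Fintype.sum_equiv E.toEquiv (fun y' => ((lam (E y') : ℂˣ) : ℂ) * (w y' *
        (blockRank p (fb ((y' : H) : G)) : ℂ))) _ fun y' => rfl] at e1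
      simp only [hw, hiff, MonoidHom.comp_apply, MulEquiv.coe_toMonoidHom] at e2
      simp only [mul_sub, Finset.sum_sub_distrib]
      rw [e1, e2]
      split_ifs <;> simp
    obtain ⟨lam, hlam1, hlamZ, hlam⟩ := exists_separating_invariant hM hD hc hab hT hu huT hunc
    have hkey := hdiff lam hlam
    rw [if_neg hlam1] at hkey
    set S := Finset.univ.filter (fun y' : P.subgroupOf H => ((y' : H) : G) ∈ Subgroup.center G)
    have hterm : ∀ y' : P.subgroupOf H, ((lam (E y') : ℂˣ) : ℂ) * (w y' *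
        ((blockRank p (fb ((y' : H) : G)) : ℂ) - (blockRank p (fH (y' : H)) : ℂ))) =
        if ((y' : H) : G) ∈ Subgroup.center G then (blockRank p B : ℂ) - blockRank p f else 0 := by
      intro y'
      split_ifs with hyc
      · obtain ⟨h1, h2⟩ := hcen y' hyc
        have hw1 : w y' = 1 := by
          simp only [w, (htopC _).2 hyc, inf_top_eq]
          exact div_self (Nat.cast_ne_zero.2 Nat.card_pos.ne')
        rw [h1, h2, hw1, hlamZ _ hyc, Units.val_one, one_mul, one_mul]
      · rw [hnoncen y' hyc, sub_self, mul_zero, mul_zero]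
    rw [Finset.sum_congr rfl fun y' _ => hterm y', ← Finset.sum_filter, Finset.sum_const,
      nsmul_eq_mul, mul_eq_zero, Nat.cast_eq_zero, Finset.card_eq_zero, sub_eq_zero,
      Nat.cast_inj] at hkey
    have hl : blockRank p B = blockRank p f := hkey.resolve_left
      (Finset.Nonempty.ne_empty ⟨1, by simp⟩)
    refine ⟨hl, ?_⟩
    have hk := hdiff 1 fun _ _ _ _ _ => rfl
    rw [if_pos rfl, Finset.sum_eq_zero, eq_comm, sub_eq_zero, Nat.cast_inj] at hk
    · exact hk
    intro y' _
    by_cases hyc : ((y' : H) : G) ∈ Subgroup.center G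
    · rw [(hcen y' hyc).1, (hcen y' hyc).2, hl, sub_self, mul_zero, mul_zero]
    · rw [hnoncen y' hyc, sub_self, mul_zero, mul_zero]

end Cfsg.Lib.Blocks.Star
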