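import Mathlib
import Cfsg.Agent.Blocks.Star.AbelianTrace
import Cfsg.Agent.Blocks.Star.Watanabe
import Cfsg.Agent.Blocks.Principal
import Cfsg.Agent.Transfer.Basic

/-!
# The star matrices of a principal block with an abelian Sylow subgroup

Every function on an abelian Sylow subgroup that is invariant under the normalizer acts on the
principal block by an integral matrix, and products of functions go to products of matrices.
-/

set_option autoImplicit false
set_option linter.unusedSectionVars false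
set_option linter.style.haveILetI false

namespace Cfsg.Lib.Blocks.PrincipalStar

open Cfsg.Lib.Chars Cfsg.Lib.Blocks Cfsg.Lib.Blocks.Star
open scoped _root_.Classical ComplexConjugate

universe u

local notation "C⟨" P "⟩" => Subgroup.centralizer (SetLike.coe P)

variable {G : Type u} [Group G] [Fintype G] {M : Ideal AlgInt} {p : ℕ} [Fact p.Prime]

/-- The principal blocks of the centralisers of the elements. -/
noncomputable def pb (M : Ideal AlgInt) (y : G) : Set (IrrCharacter C⟨Subgroup.zpowers y⟩) :=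
  principalBlock M C⟨Subgroup.zpowers y⟩

/-- The proportion of the normalizer fixing an element. -/
noncomputable def wt (S : Subgroup G) (y : G) : ℂ :=
  (Nat.card (Subgroup.normalizer (S : Set G) ⊓ C⟨Subgroup.zpowers y⟩ : Subgroup G) : ℂ) /
    Nat.card (Subgroup.normalizer (S : Set G))

/-- The contribution of an element, scaled. -/
noncomputable def kk (p : ℕ) (M : Ideal AlgInt) (y : G) (η χ : IrrCharacter G) : ℂ :=
  (Nat.card C⟨Subgroup.zpowers y⟩ : ℂ)⁻¹ * secDot p η χ (⟨y, pb M y⟩ : SecIdx G)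

/-- The matrix of a function on `S`. -/
noncomputable def mat (p : ℕ) (M : Ideal AlgInt) (S : Subgroup G) (f : G → ℂ)
    (η χ : IrrCharacter G) : ℂ :=
  ∑ y : S, f y * wt S y * kk p M (y : G) η χ

lemma mat_congr (S : Subgroup G) {f f' : G → ℂ} (h : ∀ y : S, f y = f' y) (η χ : IrrCharacter G) :
    mat p M S f η χ = mat p M S f' η χ := by
  simp only [mat, h]

lemma mat_add (S : Subgroup G) (f f' : G → ℂ) (η χ : IrrCharacter G) :
    mat p M S (fun g => f g + f' g) η χ = mat p M S f η χ + mat p M S f' η χ := by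
  simp only [mat, add_mul, Finset.sum_add_distrib]

lemma mat_smul (S : Subgroup G) (a : ℂ) (f : G → ℂ) (η χ : IrrCharacter G) :
    mat p M S (fun g => a * f g) η χ = a * mat p M S f η χ := by
  simp only [mat, Finset.mul_sum, mul_assoc]

/-- A function suitable for the construction. -/
structure Good (S : Sylow p G) (f : G → ℂ) : Prop where
  gen : IsGeneralizedCharacter (S : Subgroup G) (fun y : (S : Subgroup G) => f y)
  inv : ∀ t ∈ Subgroup.normalizer ((S : Subgroup G) : Set G), ∀ y ∈ (S : Subgroup G),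
    f (t * y * t⁻¹) = f y

/-- The coefficient of `θ` in the star of `η`. -/
noncomputable def coef (M : Ideal AlgInt) (S : Sylow p G) (f : G → ℂ) (η θ : IrrCharacter G) : ℂ :=
  classInner (starFn p M (S : Subgroup G) (principalBlock M C⟨(S : Subgroup G)⟩) f η) (θ : G → ℂ)

variable (S : Sylow p G)

lemma isBelow_pb (hM : IsPModular p M) (hab : ∀ a ∈ (S : Subgroup G), ∀ b ∈ (S : Subgroup G),
    a * b = b * a) {y : G} (hy : y ∈ (S : Subgroup G)) :
    IsBelow M (S : Subgroup G) (principalBlock M C⟨(S : Subgroup G)⟩) y (pb M y) := by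
  have hmax := isMaximal_principal hM S
  obtain ⟨f, hf⟩ := exists_below hM hmax.1.1 hab hy
  have h := ((principal_pair_iff hM).1 (hf.pair hM hmax.1 hab hy)).2
  rwa [h] at hf

lemma stable_of_good (hab : ∀ a ∈ (S : Subgroup G), ∀ b ∈ (S : Subgroup G), a * b = b * a)
    {f : G → ℂ} (hf : Good S f) :
    Stable p M (S : Subgroup G) (principalBlock M C⟨(S : Subgroup G)⟩) f := by
  intro y g β h1 h2
  have hy : y ∈ (S : Subgroup G) := by simpa using h1.mem
  have hy' := h2.mem
  haveI : IsMulCommutative (S : Subgroup G) := ⟨⟨fun a b => Subtype.ext (hab a a.2 b b.2)⟩⟩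
  obtain ⟨n, hn, he⟩ := Sylow.conj_eq_normalizer_conj_of_mem S y g⁻¹ hy (show g⁻¹⁻¹ * y * g⁻¹ ∈ (S : Subgroup G) by rw [inv_inv]; exact hy')
  have he' : g * y * g⁻¹ = n⁻¹ * y * n⁻¹⁻¹ := by simpa using he
  rw [he']
  exact hf.inv _ (inv_mem hn) y hy

lemma good_one : Good S fun _ : G => (1 : ℂ) :=
  ⟨by
    have h := IsCharacter.isGeneralized (isCharacter_linear (1 : (S : Subgroup G) →* ℂˣ))
    simp only [MonoidHom.one_apply, Units.val_one] at h
    exact h, fun _ _ _ _ => rfl⟩

lemma Good.mul {f f' : G → ℂ} (h : Good S f) (h' : Good S f') : Good S fun g => f g * f' g :=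
  ⟨IsGeneralizedCharacter.mul h.gen h'.gen, fun t ht y hy => by rw [h.inv t ht y hy, h'.inv t ht y hy]⟩

variable {S}

/-- The stars stay in the block. -/
theorem coef_eq_zero (hM : IsPModular p M) (f : G → ℂ) {η θ : IrrCharacter G}
    (hη : η ∈ principalBlock M G) (hθ : θ ∉ principalBlock M G) : coef M S f η θ = 0 := by
  have hB : IsPBlock M (principalBlock M G) := isPBlock_blockOf (principal G)
  rw [coef, classInner_def, sum_sections_complex (p := p), Finset.sum_eq_zero fun x hx => ?_,
    mul_zero]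
  have hx' := (Finset.mem_filter.1 hx).2
  refine Eq.trans (sum_blockPart_mul_conj (p := p) hM
    (f := secFn x (starFn p M (S : Subgroup G) (principalBlock M C⟨(S : Subgroup G)⟩) f η))
    (isClassFunction_secFn x (isClassFunction_irr θ))).symm ?_
  refine Finset.sum_eq_zero fun b hb => Finset.sum_eq_zero fun w hw => ?_
  have hb' := (mem_blocksFinset hM).1 hb
  have hw' := (Finset.mem_filter.1 hw).2
  by_cases hi : IsInducedBlock M C⟨Subgroup.zpowers x⟩ b (principalBlock M G)
  · have hθB : IsPBlock M (blockOf M (θ : G → ℂ)) := isPBlock_blockOf θ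
    have hni : ¬ IsInducedBlock M C⟨Subgroup.zpowers x⟩ b (blockOf M (θ : G → ℂ)) := fun h => by
      have h' := IsInducedBlock.unique hM h hi
      exact hθ (h' ▸ mem_blockOf_self hM θ)
    have hz := blockPart_translate_eq_zero hM hx' rfl hθB (mem_blockOf_self hM θ) hb' hni w hw'
    unfold secFn
    rw [hz, map_zero, mul_zero]
  · rw [part_starFn hM η hx' hb' w hw']
    have hz := blockPart_translate_eq_zero hM hx' rfl hB hη hb' hi w hw'
    unfold secFn
    rw [hz, mul_zero, zero_mul]

lemma weights_sum (hM : IsPModular p M)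
    (hab : ∀ a ∈ (S : Subgroup G), ∀ b ∈ (S : Subgroup G), a * b = b * a) (g₀ : G)
    (y₀ : (S : Subgroup G)) :
    ∑ q ∈ Finset.univ.filter (fun q : G × (S : Subgroup G) =>
      secMap (pb M) (q.1, (q.2 : G)) = secMap (pb M) (g₀, (y₀ : G))),
      wt (S : Subgroup G) (q.2 : G) * (Nat.card C⟨Subgroup.zpowers (q.2 : G)⟩ : ℂ)⁻¹ = 1 := by
  have hmax := isMaximal_principal hM S
  have hD : IsDefectGroup p M (principalBlock M G) (S : Subgroup G) :=
    isDefectGroup_of_noExtension hM hmax.1 (noExtension_of_maximal hM hmax)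
  have hT : IsPairStab (S : Subgroup G) (principalBlock M C⟨(S : Subgroup G)⟩)
      (Subgroup.normalizer ((S : Subgroup G) : Set G)) := fun g =>
    ⟨fun h => ⟨h, (stabilizes_iff_of_normalizer hM hmax.1.1.2 h).2 (cj_bi_principal hM S.2 h)⟩,
      fun h => h.1⟩
  set Fb := Finset.univ.filter (fun q : G × (S : Subgroup G) =>
      secMap (pb M) (q.1, (q.2 : G)) = secMap (pb M) (g₀, (y₀ : G))) with hFb
  have hN : ∀ q ∈ Fb, wt (S : Subgroup G) (q.2 : G) *
      (Nat.card C⟨Subgroup.zpowers (q.2 : G)⟩ : ℂ)⁻¹ = (Fb.card : ℂ)⁻¹ := by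
    intro q hq
    have h := card_section_fibre_abelian hM hD hmax.1 hab hT (pb M)
      (fun y hy => isBelow_pb S hM hab hy) q.1 q.2
    rw [(Finset.mem_filter.1 hq).2, ← hFb] at h
    have h' := congrArg (Nat.cast (R := ℂ)) h
    simp only [Nat.cast_mul] at h'
    have hF0 : (Fb.card : ℂ) ≠ 0 := Nat.cast_ne_zero.2 (Finset.card_pos.2 ⟨q, hq⟩).ne'
    have hT0 : (Nat.card (Subgroup.normalizer ((S : Subgroup G) : Set G)) : ℂ) ≠ 0 :=
      Nat.cast_ne_zero.2 Nat.card_pos.ne'
    have hC0 : (Nat.card C⟨Subgroup.zpowers (q.2 : G)⟩ : ℂ) ≠ 0 :=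
      Nat.cast_ne_zero.2 Nat.card_pos.ne'
    rw [wt]
    field_simp
    linear_combination h'
  rw [Finset.sum_congr rfl hN, Finset.sum_const, nsmul_eq_mul,
    mul_inv_cancel₀ (Nat.cast_ne_zero.2 (Finset.card_pos.2 ⟨(g₀, y₀), by simp [hFb]⟩).ne')]

/-- Inner products of stars are matrices of products. -/
theorem classInner_star (hM : IsPModular p M)
    (hab : ∀ a ∈ (S : Subgroup G), ∀ b ∈ (S : Subgroup G), a * b = b * a) {f f' : G → ℂ}
    (hf : Good S f) (hf' : Good S f') {η χ : IrrCharacter G} (hη : η ∈ principalBlock M G) :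
    classInner (starFn p M (S : Subgroup G) (principalBlock M C⟨(S : Subgroup G)⟩) f η)
      (starFn p M (S : Subgroup G) (principalBlock M C⟨(S : Subgroup G)⟩) f' χ) =
      mat p M (S : Subgroup G) (fun g => f g * conj (f' g)) η χ := by
  rw [classInner_starFn_sections hM (isMaximal_principal hM S) (pb M)
    (fun y hy => subpairLE_principal hM S (Subgroup.zpowers_le.2 hy))
    (fun y => wt (S : Subgroup G) (y : G) * (Nat.card C⟨Subgroup.zpowers (y : G)⟩ : ℂ)⁻¹)
    (weights_sum hM hab) (stable_of_good S hab hf) (stable_of_good S hab hf') hη]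
  exact Finset.sum_congr rfl fun y _ => by rw [kk]; ring

lemma starFn_const (hM : IsPModular p M) {χ : IrrCharacter G} (hχ : χ ∈ principalBlock M G) :
    starFn p M (S : Subgroup G) (principalBlock M C⟨(S : Subgroup G)⟩) (fun _ => (1 : ℂ)) χ =
      (χ : G → ℂ) := by
  funext g
  rw [← starFn_one hM (isBlockFusionSystemOn_blockSystem hM (isMaximal_principal hM S)) hχ g]
  obtain ⟨x, hx⟩ := exists_isPPart' (Fact.out : p.Prime) g
  rw [starFn_eq hx, starFn_eq hx]
  refine Finset.sum_congr rfl fun F _ => ?_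
  congr 1
  unfold weight
  split_ifs with h
  · rw [show h.choose * x * h.choose⁻¹ =
      ((⟨_, h.choose_spec.mem⟩ : (S : Subgroup G)) : G) from rfl, lamFn_coe, MonoidHom.one_apply,
      Units.val_one]
  · rfl

/-- The coefficients are the matrices. -/
theorem coef_eq_mat (hM : IsPModular p M)
    (hab : ∀ a ∈ (S : Subgroup G), ∀ b ∈ (S : Subgroup G), a * b = b * a) {f : G → ℂ}
    (hf : Good S f) {η θ : IrrCharacter G} (hη : η ∈ principalBlock M G)
    (hθ : θ ∈ principalBlock M G) : coef M S f η θ = mat p M (S : Subgroup G) f η θ := by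
  rw [coef, ← starFn_const (S := S) hM hθ, classInner_star hM hab hf (good_one S) hη]
  exact mat_congr _ (fun y => by simp) η θ

theorem mat_one (hM : IsPModular p M)
    (hab : ∀ a ∈ (S : Subgroup G), ∀ b ∈ (S : Subgroup G), a * b = b * a) {η θ : IrrCharacter G}
    (hη : η ∈ principalBlock M G) (hθ : θ ∈ principalBlock M G) :
    mat p M (S : Subgroup G) (fun _ => 1) η θ = if η = θ then 1 else 0 := by
  rw [← coef_eq_mat hM hab (good_one S) hη hθ, coef, starFn_const (S := S) hM hη]
  exact classInner_irrCharacter η θ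

/-- The matrices are integral. -/
theorem exists_int_mat (hM : IsPModular p M)
    (hab : ∀ a ∈ (S : Subgroup G), ∀ b ∈ (S : Subgroup G), a * b = b * a) {f : G → ℂ}
    (hf : Good S f) {η θ : IrrCharacter G} (hη : η ∈ principalBlock M G)
    (hθ : θ ∈ principalBlock M G) : ∃ z : ℤ, mat p M (S : Subgroup G) f η θ = (z : ℂ) := by
  rw [← coef_eq_mat hM hab hf hη hθ, coef]
  exact IsGeneralizedCharacter.exists_mult (isGeneralized_starFn hM (isMaximal_principal hM S) (stable_of_good S hab hf) hf.gen
    hη) θ.2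

/-- Products of functions go to products of matrices. -/
theorem mat_mul (hM : IsPModular p M)
    (hab : ∀ a ∈ (S : Subgroup G), ∀ b ∈ (S : Subgroup G), a * b = b * a) {f f' : G → ℂ}
    (hf : Good S f) (hf' : Good S f') {η χ : IrrCharacter G} (hη : η ∈ principalBlock M G)
    (hχ : χ ∈ principalBlock M G) :
    ∑ θ ∈ Finset.univ.filter (· ∈ principalBlock M G),
      mat p M (S : Subgroup G) f η θ * conj (mat p M (S : Subgroup G) f' χ θ) =
      mat p M (S : Subgroup G) (fun g => f g * conj (f' g)) η χ := by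
  set c := principalBlock M C⟨(S : Subgroup G)⟩ with hc
  rw [← classInner_star hM hab hf hf' hη, ← hc]
  have hgen := isGeneralized_starFn hM (isMaximal_principal hM S) (stable_of_good S hab hf) hf.gen hη
  have hd : starFn p M (S : Subgroup G) c f η =
      ∑ θ : IrrCharacter G, classInner (starFn p M (S : Subgroup G) c f η) (θ : G → ℂ) • (θ : G → ℂ) :=
    classFunction_expand (isClassFunction_generalized hgen)
  conv_rhs => rw [hd, classInner_sum_left]
  rw [← Finset.sum_filter_add_sum_filter_not Finset.univ (· ∈ principalBlock M G) (fun θ : IrrCharacter G =>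
    classInner (classInner (starFn p M (S : Subgroup G) c f η) (θ : G → ℂ) • (θ : G → ℂ))
      (starFn p M (S : Subgroup G) c f' χ)), Finset.sum_eq_zero
      (s := Finset.univ.filter fun θ : IrrCharacter G => ¬ θ ∈ principalBlock M G) (fun θ hθ => by
    rw [classInner_smul_left, show classInner (starFn p M (S : Subgroup G) c f η) (θ : G → ℂ) = 0 from
      coef_eq_zero hM f hη (Finset.mem_filter.1 hθ).2, zero_mul]), add_zero]
  refine Finset.sum_congr rfl fun θ hθ => ?_
  have hθ' := (Finset.mem_filter.1 hθ).2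
  rw [classInner_smul_left, ← coef_eq_mat hM hab hf hη hθ', ← coef_eq_mat hM hab hf' hχ hθ',
    coef, coef, classInner_conj_symm]

/-- The part at an element, evaluated at one. -/
theorem part_one (hM : IsPModular p M) {y : G} (hy : IsPElem p y) {χ : IrrCharacter G}
    (hχ : χ ∈ principalBlock M G) :
    blockPart (pb M y) (secFn y (χ : G → ℂ)) 1 = (χ : G → ℂ) y := by
  have h := apply_mul_eq_sum_blockPart (H := C⟨Subgroup.zpowers y⟩) hM hy rfl
    (isPBlock_blockOf (principal G)) hχ
    (y := 1) (by rw [orderOf_one]; exact (Fact.out : p.Prime).not_dvd_one)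
  change (χ : G → ℂ) (y * _) = ∑ b ∈ (blocksFinset M C⟨Subgroup.zpowers y⟩).filter
    (fun b => IsInducedBlock M C⟨Subgroup.zpowers y⟩ b (principalBlock M G)), _ at h
  rw [filter_induced_principal hM hy rfl, Finset.sum_singleton, Subgroup.coe_one, mul_one] at h
  exact h.symm

/-- The trace of a matrix. -/
theorem sum_mat_self (hM : IsPModular p M)
    (hab : ∀ a ∈ (S : Subgroup G), ∀ b ∈ (S : Subgroup G), a * b = b * a) (f : G → ℂ) :
    ∑ χ ∈ Finset.univ.filter (· ∈ principalBlock M G), mat p M (S : Subgroup G) f χ χ =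
      ∑ y : (S : Subgroup G), f y * wt (S : Subgroup G) (y : G) * (blockRank p (pb M (y : G)) : ℂ) := by
  simp only [mat]
  rw [Finset.sum_comm]
  refine Finset.sum_congr rfl fun y _ => ?_
  rw [← Finset.mul_sum]
  congr 1
  have hy : IsPElem p (y : G) := isPElem_of_mem S.2 y.2
  have hind : IsInducedBlock M C⟨Subgroup.zpowers (y : G)⟩ (pb M (y : G)) (principalBlock M G) :=
    ((isBrauerPairOf_iff hM _ _ _).1 ((principal_pair_iff hM).2 ⟨hy.isPGroup, rfl⟩)).2
  have h := sum_contribution_self hM hy rfl hind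
  simp only [contribution_eq_sum_regular hM hind.1] at h
  simp only [mul_assoc, ← Finset.mul_sum] at h
  have hp0 : (p : ℂ) ^ blockDefect p (pb M (y : G)) ≠ 0 :=
    pow_ne_zero _ (Nat.cast_ne_zero.2 (Fact.out : p.Prime).ne_zero)
  have h2 := mul_left_cancel₀ hp0 h
  simp only [kk, ← Finset.mul_sum]
  exact h2

/-- A diagonal contribution is a nonnegative number, positive if the value is not zero. -/
theorem kk_self_ne_zero (hM : IsPModular p M) {y : G} (hy : IsPElem p y) {χ : IrrCharacter G}
    (hχ : χ ∈ principalBlock M G) (h : (χ : G → ℂ) y ≠ 0) : kk p M y χ χ ≠ 0 := by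
  intro h0
  rw [kk, mul_eq_zero] at h0
  rcases h0 with h0 | h0
  · exact inv_ne_zero (Nat.cast_ne_zero.2 Nat.card_pos.ne') h0
  · rw [secDot] at h0
    simp only [Complex.mul_conj] at h0
    rw [← Complex.ofReal_sum, Complex.ofReal_eq_zero,
      Finset.sum_eq_zero_iff_of_nonneg fun w _ => Complex.normSq_nonneg _] at h0
    have h1 := h0 1 (Finset.mem_filter.2 ⟨Finset.mem_univ _, by
      rw [orderOf_one]; exact (Fact.out : p.Prime).not_dvd_one⟩)
    rw [Complex.normSq_eq_zero, part_one hM hy hχ] at h1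
    exact h h1

/-- With a normal `p`-complement the contribution is the product of the values. -/
theorem kk_of_complement (hM : IsPModular p M) {y : G} (hy : y ∈ (S : Subgroup G))
    (hab : ∀ a ∈ (S : Subgroup G), ∀ b ∈ (S : Subgroup G), a * b = b * a)
    (hN : HasNormalPComplement p C⟨Subgroup.zpowers y⟩) {η χ : IrrCharacter G}
    (hη : η ∈ principalBlock M G) (hχ : χ ∈ principalBlock M G) :
    kk p M y η χ = (Nat.card (S : Subgroup G) : ℂ)⁻¹ * ((η : G → ℂ) y * conj ((χ : G → ℂ) y)) := by
  have hye : IsPElem p y := isPElem_of_mem S.2 hy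
  set H := C⟨Subgroup.zpowers y⟩ with hH
  obtain ⟨K, hKn, hKc, k, hk⟩ := Cfsg.Lib.Transfer.hasNormalPComplement_iff.1 hN
  have hp : p.Prime := Fact.out
  have hK : ¬ p ∣ Nat.card K := hp.coprime_iff_not_dvd.1 hKc.symm
  have hKreg : (Finset.univ.filter fun v : H => ¬ p ∣ orderOf v) = Finset.univ.filter (· ∈ K) := by
    refine Finset.filter_congr fun v _ => ⟨mem_of_pRegular_of_index_eq_pow hp K hk, fun hv h => hK ?_⟩
    exact h.trans ((Subgroup.orderOf_coe (⟨v, hv⟩ : K)).dvd.trans (orderOf_dvd_natCard _))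
  have hpart : ∀ θ : IrrCharacter G, θ ∈ principalBlock M G → ∀ w ∈ Finset.univ.filter (· ∈ K),
      blockPart (pb M y) (secFn y (θ : G → ℂ)) w = (θ : G → ℂ) y := by
    intro θ hθ w hw
    rw [← part_one hM hye hθ, blockPart_eq_sum, blockPart_eq_sum]
    refine Finset.sum_congr rfl fun φ hφ => ?_
    rw [(mem_principalBlock_iff hM K hK hk φ).1 (Finset.mem_filter.1 hφ).2 w (Finset.mem_filter.1 hw).2]
  rw [kk, secDot]
  rw [hKreg, Finset.sum_congr rfl fun w hw => by rw [hpart η hη w hw, hpart χ hχ w hw],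
    Finset.sum_const, nsmul_eq_mul]
  have hcard : Nat.card H = (Finset.univ.filter (· ∈ K)).card * Nat.card (S : Subgroup G) := by
    have hS : (S : Subgroup G) ≤ H := le_centralizer_zpowers hab hy
    set SH := S.subtype hS
    have hc := Cfsg.Lib.Transfer.isComplement'_sylow_of_coprime_index hKc hk SH
    rw [← hc.card_mul_card]
    have hSc : Nat.card (SH : Subgroup H) = Nat.card (S : Subgroup G) :=
      Nat.card_congr (Subgroup.subgroupOfEquivOfLe hS).toEquiv
    rw [hSc, Nat.card_eq_fintype_card (α := K), Fintype.card_subtype]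
  rw [hcard]
  have h1 : ((Finset.univ.filter (· ∈ K)).card : ℂ) ≠ 0 :=
    Nat.cast_ne_zero.2 (Finset.card_pos.2 ⟨1, by simp⟩).ne'
  have h2 : (Nat.card (S : Subgroup G) : ℂ) ≠ 0 := Nat.cast_ne_zero.2 Nat.card_pos.ne'
  push_cast
  field_simp
  rfl

end Cfsg.Lib.Blocks.PrincipalStar
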