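import Mathlib
import Cfsg.Agent.Blocks.Star.Linear

/-!
# Counting modulo the centre

The linear characters of `P` trivial on the focal subgroup act on each height set of the block
with stabilizers inside the characters trivial on the centre of `P`.
-/

set_option autoImplicit false
set_option linter.unusedSectionVars false
set_option linter.style.haveILetI false

namespace Cfsg.Lib.Blocks.Star

open Cfsg.Lib.Chars
open scoped Classical

universe u v

local notation "C⟨" P "⟩" => Subgroup.centralizer (SetLike.coe P)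

/-- Stabilizers inside `K`: the index of `K` divides the number of points. -/
theorem index_dvd_card {A : Type u} [Group A] {X : Type v} [MulAction A X] [Finite X]
    (K : Subgroup A) (h : ∀ x : X, MulAction.stabilizer A x ≤ K) : K.index ∣ Nat.card X := by
  haveI : Fintype (MulAction.orbitRel.Quotient A X) := Fintype.ofFinite _
  rw [Nat.card_congr (MulAction.selfEquivSigmaOrbits A X), Nat.card_sigma]
  refine Finset.dvd_sum fun ω _ => ?_
  rw [Nat.card_coe_set_eq, ← MulAction.index_stabilizer A ω.out]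
  exact Subgroup.index_dvd_of_le (h _)

variable {G : Type u} [Group G] [Fintype G] {M : Ideal AlgInt} {p : ℕ} [Fact p.Prime]
  {P : Subgroup G} {c : Set (IrrCharacter C⟨P⟩)} {B : Set (IrrCharacter G)} {F : FusionSystem P}

/-- The focal subgroup contains the commutators. -/
lemma commutator_mem_focal (F : FusionSystem P) {a y : G} (ha : a ∈ P) (hy : y ∈ P) :
    y⁻¹ * (a * y * a⁻¹) ∈ F.focalSubgroup :=
  Subgroup.subset_closure ⟨P, conjHom P a, ⟨y, hy⟩, F.conj_mem le_rfl ha, rfl⟩

lemma normal_focal (F : FusionSystem P) : (F.focalSubgroup.subgroupOf P).Normal := by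
  refine ⟨fun n hn g => ?_⟩
  rw [Subgroup.mem_subgroupOf] at hn ⊢
  have h := mul_mem hn (commutator_mem_focal F g.2 n.2)
  rw [show (n : G) * ((n : G)⁻¹ * ((g : G) * n * (g : G)⁻¹)) = (g : G) * n * (g : G)⁻¹ by group] at h
  exact h

theorem center_count (hM : IsPModular p M) (hF : IsBlockFusionSystemOn p M B P c F) (h : ℕ) :
    ((P ⊓ C⟨P⟩ ⊓ F.focalSubgroup).subgroupOf (P ⊓ C⟨P⟩)).index ∣
      Nat.card {χ : IrrCharacter G // χ ∈ B ∧ blockHeight p B (χ : G → ℂ) = h} := by
  letI act := starAction hM hF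
  set N := F.focalSubgroup.subgroupOf P with hN
  haveI : N.Normal := normal_focal F
  letI : CommGroup (P ⧸ N) :=
    { (inferInstance : Group (P ⧸ N)) with
      mul_comm := fun x y => by
        induction x using QuotientGroup.induction_on with
        | _ a =>
          induction y using QuotientGroup.induction_on with
          | _ b =>
            rw [← QuotientGroup.mk_mul, ← QuotientGroup.mk_mul, QuotientGroup.eq, hN,
              Subgroup.mem_subgroupOf]
            have h := commutator_mem_focal F (inv_mem a.2) (mul_mem a.2 b.2)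
            rw [show ((a : G) * b)⁻¹ * ((a : G)⁻¹ * (a * b) * (a : G)⁻¹⁻¹) =
              ((a : G) * b)⁻¹ * (b * a) by group] at h
            simpa using h }
  set q : P →* P ⧸ N := QuotientGroup.mk' N
  set Zp := C⟨P⟩.subgroupOf P with hZp
  set Zb := Zp.map q with hZb
  let lf : focTriv F → (P ⧸ N →* ℂˣ) := fun lam => QuotientGroup.lift N lam.1 fun y hy => lam.2 y hy
  have lf_apply : ∀ lam y, lf lam (q y) = lam.1 y := fun lam y => rfl
  let ρ : focTriv F →* (Zb →* ℂˣ) :=
    { toFun := fun lam => (lf lam).comp Zb.subtype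
      map_one' := MonoidHom.ext fun z => by
        obtain ⟨y, -, hy⟩ := z.2
        show lf 1 (z : P ⧸ N) = 1
        rw [← hy, lf_apply]; rfl
      map_mul' := fun lam mu => MonoidHom.ext fun z => by
        obtain ⟨y, -, hy⟩ := z.2
        show lf (lam * mu) (z : P ⧸ N) = lf lam (z : P ⧸ N) * lf mu (z : P ⧸ N)
        rw [← hy, lf_apply, lf_apply, lf_apply]; rfl }
  have hρ : Function.Surjective ρ := fun χ0 => by
    obtain ⟨ε, hε⟩ := MonoidHom.domRestrict_surjective ℂ Zb χ0
    refine ⟨⟨ε.comp q, fun y hy => ?_⟩, ?_⟩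
    · show ε (q y) = 1
      rw [show q y = 1 from (QuotientGroup.eq_one_iff y).2 hy, map_one]
    · rw [← hε]
      refine MonoidHom.ext fun z => ?_
      obtain ⟨y, -, hy⟩ := z.2
      show lf _ (z : P ⧸ N) = ε (z : P ⧸ N)
      rw [← hy, lf_apply]; rfl
  have hidx : ρ.ker.index = (P ⊓ C⟨P⟩ ⊓ F.focalSubgroup).relIndex (P ⊓ C⟨P⟩) := by
    rw [Subgroup.index_ker, MonoidHom.range_eq_top.2 hρ, Subgroup.card_top,
      CommGroup.card_monoidHom_of_hasEnoughRootsOfUnity Zb ℂ,
      show Nat.card Zb = N.relIndex Zp by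
        rw [hZb, ← Subgroup.relIndex_ker, QuotientGroup.ker_mk']]
    rw [← Subgroup.relIndex_map_map_of_injective N Zp P.subtype_injective, hN, hZp,
      Subgroup.subgroupOf_map_subtype, Subgroup.subgroupOf_map_subtype, inf_comm C⟨P⟩ P,
      Subgroup.inf_relIndex_left]
    refine (Subgroup.inf_relIndex_right _ _).symm.trans ?_
    rw [inf_assoc, show P ⊓ (P ⊓ C⟨P⟩) = P ⊓ C⟨P⟩ by rw [← inf_assoc, inf_idem],
      Subgroup.inf_relIndex_right]
  let S : Type u := {χ : {χ : IrrCharacter G // χ ∈ B} // blockHeight p B (χ.1 : G → ℂ) = h}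
  letI : MulAction (focTriv F) S :=
    { smul := fun lam χ => ⟨lam • χ.1, (height_starIrr hM hF lam χ.1).trans χ.2⟩
      one_smul := fun χ => Subtype.ext (one_smul _ χ.1)
      mul_smul := fun lam mu χ => Subtype.ext (mul_smul lam mu χ.1) }
  show (P ⊓ C⟨P⟩ ⊓ F.focalSubgroup).relIndex (P ⊓ C⟨P⟩) ∣ _
  rw [← hidx, ← Nat.card_congr (Equiv.subtypeSubtypeEquivSubtypeInter (· ∈ B)
    fun χ : IrrCharacter G => blockHeight p B (χ : G → ℂ) = h)]
  refine index_dvd_card (X := S) _ fun χ lam hlam => MonoidHom.ext fun z => ?_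
  obtain ⟨⟨y, hy⟩, hyZ, hyz⟩ := z.2
  have hfix : starFn p M P c (lamFn P lam.1) χ.1.1 = (χ.1.1 : G → ℂ) := by
    have h1 : lam • χ.1 = χ.1 := congrArg Subtype.val (MulAction.mem_stabilizer_iff.1 hlam)
    exact congrArg (fun a : {χ : IrrCharacter G // χ ∈ B} => ((a.1 : IrrCharacter G) : G → ℂ)) h1
  have hyc : ∀ a ∈ P, a * y = y * a := fun a ha =>
    Subgroup.mem_centralizer_iff.1 (Subgroup.mem_subgroupOf.1 hyZ) a ha
  obtain ⟨b, hb, hbelow, w, hw, hne⟩ := exists_major_part_ne_zero hM hF.1 χ.1.2 hy hyc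
  have h1 := lam_eq_one_of_fixed hM hF lam.2 hfix (isPElem_of_mem hF.1.1.1.1 hy) hb hbelow hw hne
  show lf lam (z : P ⧸ N) = 1
  rw [← hyz, lf_apply]
  rw [← h1]
  congr 1
  exact Subtype.ext (by simp)

end Cfsg.Lib.Blocks.Star
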