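import Mathlib
import Cfsg.Agent.Blocks.Star.Center

/-!
# Counting the members of height zero

A member of height zero meets every section of the block, so the linear characters of `P` trivial
on the focal subgroup act freely on the members of height zero.
-/

set_option autoImplicit false
set_option linter.unusedSectionVars false
set_option linter.style.haveILetI false

namespace Cfsg.Lib.Blocks.Star

open Cfsg.Lib.Chars
open scoped Classical

universe u

local notation "C⟨" P "⟩" => Subgroup.centralizer (SetLike.coe P)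

variable {G : Type u} [Group G] [Fintype G] {M : Ideal AlgInt} {p : ℕ} [Fact p.Prime]
  {P : Subgroup G} {c : Set (IrrCharacter C⟨P⟩)} {B : Set (IrrCharacter G)} {F : FusionSystem P}

/-- A member of height zero has a nonzero part in every section of the block. -/
theorem exists_part_ne_zero_height_zero (hM : IsPModular p M)
    (hmax : IsMaximalBrauerPair p M B P c) {χ : IrrCharacter G} (hχ : χ ∈ B)
    (h0 : blockHeight p B (χ : G → ℂ) = 0) {y : G} (hy : y ∈ P) :
    ∃ b : Set (IrrCharacter C⟨Subgroup.zpowers y⟩), IsPBlock M b ∧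
      Below p M P c y (bi M _ b) 1 ∧
      ∃ w : C⟨Subgroup.zpowers y⟩, ¬ p ∣ orderOf w ∧ blockPart b (secFn y (χ : G → ℂ)) w ≠ 0 := by
  obtain ⟨b, hb, -⟩ := existsUnique_subpairLE hM hmax.1.1 (Subgroup.zpowers_le.2 hy)
  have hbp := subpairLE_isBrauerPair hmax.1.1 hb
  have hind := ((isBrauerPairOf_iff hM B _ b).1 ((isBrauerPairOf_congr hM hb B).1 hmax.1)).2
  refine ⟨b, hbp.2, ⟨_, b, by simp, hb, (cj_one _).symm⟩, ?_⟩
  by_contra hno
  push Not at hno
  refine res_contribution_self_ne_zero rfl (isPElem_of_mem hmax.1.1.1 hy) hM hind hχ h0 ?_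
  rw [contribution_eq_sum_regular hM hbp.2, Finset.sum_eq_zero fun w hw => ?_, mul_zero, res_zero]
  have h := hno w (Finset.mem_filter.1 hw).2
  unfold secFn at h
  rw [h, zero_mul]

theorem height_zero_count (hM : IsPModular p M) (hF : IsBlockFusionSystemOn p M B P c F) :
    (F.focalSubgroup.subgroupOf P).index ∣
      Nat.card {χ : IrrCharacter G // χ ∈ B ∧ blockHeight p B (χ : G → ℂ) = 0} := by
  letI act := starAction hM hF
  set N := F.focalSubgroup.subgroupOf P with hN
  haveI : N.Normal := normal_focal F
  letI : CommGroup (P ⧸ N) :=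
    { (inferInstance : Group (P ⧸ N)) with
      mul_comm := fun x y => by
        induction x using QuotientGroup.induction_on with
        | _ a =>
          induction y using QuotientGroup.induction_on with
          | _ b =>
            rw [← QuotientGroup.mk_mul, ← QuotientGroup.mk_mul, QuotientGroup.eq, hN,
              Subgroup.mem_subgroupOf]
            have h := commutator_mem_focal F (inv_mem a.2) (mul_mem a.2 b.2)
            rw [show ((a : G) * b)⁻¹ * ((a : G)⁻¹ * (a * b) * (a : G)⁻¹⁻¹) =
              ((a : G) * b)⁻¹ * (b * a) by group] at h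
            simpa using h }
  let eqv : focTriv F ≃ (P ⧸ N →* ℂˣ) :=
    { toFun := fun lam => QuotientGroup.lift N lam.1 fun y hy => lam.2 y hy
      invFun := fun ε => ⟨ε.comp (QuotientGroup.mk' N), fun y hy => by
        show ε (QuotientGroup.mk' N y) = 1
        rw [show QuotientGroup.mk' N y = 1 from (QuotientGroup.eq_one_iff y).2 hy, map_one]⟩
      left_inv := fun lam => Subtype.ext (MonoidHom.ext fun y => rfl)
      right_inv := fun ε => MonoidHom.ext fun z => QuotientGroup.induction_on z fun y => rfl }
  have hidx : (⊥ : Subgroup (focTriv F)).index = N.index := by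
    rw [Subgroup.index_bot, Nat.card_congr eqv,
      CommGroup.card_monoidHom_of_hasEnoughRootsOfUnity (P ⧸ N) ℂ, Subgroup.index_eq_card]
  let S : Type u := {χ : {χ : IrrCharacter G // χ ∈ B} // blockHeight p B (χ.1 : G → ℂ) = 0}
  letI : MulAction (focTriv F) S :=
    { smul := fun lam χ => ⟨lam • χ.1, (height_starIrr hM hF lam χ.1).trans χ.2⟩
      one_smul := fun χ => Subtype.ext (one_smul _ χ.1)
      mul_smul := fun lam mu χ => Subtype.ext (mul_smul lam mu χ.1) }
  rw [← hidx, ← Nat.card_congr (Equiv.subtypeSubtypeEquivSubtypeInter (· ∈ B)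
    fun χ : IrrCharacter G => blockHeight p B (χ : G → ℂ) = 0)]
  refine index_dvd_card (X := S) _ fun χ lam hlam => Subgroup.mem_bot.2 ?_
  refine Subtype.ext (MonoidHom.ext fun y => ?_)
  obtain ⟨y, hy⟩ := y
  have hfix : starFn p M P c (lamFn P lam.1) χ.1.1 = (χ.1.1 : G → ℂ) := by
    have h1 : lam • χ.1 = χ.1 := congrArg Subtype.val (MulAction.mem_stabilizer_iff.1 hlam)
    exact congrArg (fun a : {χ : IrrCharacter G // χ ∈ B} => ((a.1 : IrrCharacter G) : G → ℂ)) h1
  obtain ⟨b, hb, hbelow, w, hw, hne⟩ := exists_part_ne_zero_height_zero hM hF.1 χ.1.2 χ.2 hy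
  have h1 := lam_eq_one_of_fixed hM hF lam.2 hfix (isPElem_of_mem hF.1.1.1.1 hy) hb hbelow hw hne
  show lam.1 ⟨y, hy⟩ = 1
  rw [← h1]
  congr 1
  exact Subtype.ext (by simp)

end Cfsg.Lib.Blocks.Star
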