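import Mathlib
import Cfsg.Agent.Blocks.Star.NilpotentInner
import Cfsg.Agent.Blocks.Star.HeightZero

/-!
# The characters of a nilpotent block

A member of height zero has all its diagonal contributions equal to one, by integrality and the
inequality between the arithmetic and geometric mean; so its stars by the irreducible characters
of the defect group are the members of the block.
-/

set_option autoImplicit false
set_option linter.unusedSectionVars false
set_option linter.style.haveILetI false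

namespace Cfsg.Lib.Blocks.Star

open Cfsg.Lib.Chars
open scoped Classical ComplexConjugate

universe u

local notation "C⟨" P "⟩" => Subgroup.centralizer (SetLike.coe P)

variable {G : Type u} [Group G] [Fintype G] {M : Ideal AlgInt} {p : ℕ} [Fact p.Prime]
  {P : Subgroup G} {c : Set (IrrCharacter C⟨P⟩)} {B : Set (IrrCharacter G)}
  {fQ : ∀ Q : Subgroup G, Set (IrrCharacter C⟨Q⟩)}

lemma lamFn_one_apply (y : P) : lamFn P (1 : P →* ℂˣ) (y : G) = 1 := by
  rw [lamFn_coe, MonoidHom.one_apply, Units.val_one]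

/-- The diagonal contributions of a member of height zero are one. -/
theorem contribution_self_eq_one (hM : IsPModular p M) (hmax : IsMaximalBrauerPair p M B P c)
    (hnil : IsNilpotentBlock p M B) (hfQ : ∀ Q ≤ P, SubpairLE p M Q (fQ Q) P c)
    {χ : IrrCharacter G} (hχ : χ ∈ B) (h0 : blockHeight p B (χ : G → ℂ) = 0) (y : P) :
    contribution p (y : G) (fQ (Subgroup.zpowers (y : G))) χ χ = 1 := by
  set m : P → ℂ := fun y => contribution p (y : G) (fQ (Subgroup.zpowers (y : G))) χ χ with hm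
  have hpair : ∀ y : P, IsBrauerPairOf p M B _ (fQ (Subgroup.zpowers (y : G))) := fun y =>
    isBrauerPairOf_of_le hM hmax (hfQ _ (Subgroup.zpowers_le.2 y.2))
  choose r hr0 hr using fun y : P =>
    contribution_self_eq (x := (y : G)) hM (hpair y).1.2 χ
  have hne : ∀ y, m y ≠ 0 := fun y h => by
    refine res_contribution_self_ne_zero rfl (isPElem_of_mem hmax.1.1.1 y.2) hM
      ((isBrauerPairOf_iff hM B _ _).1 (hpair y)).2 hχ h0 ?_
    rw [show contribution p (y : G) (fQ (Subgroup.zpowers (y : G))) χ χ = 0 from h, res_zero]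
  have hpos : ∀ y, 0 < r y := fun y => (hr0 y).lt_of_ne fun h => hne y (by
    rw [hm]
    exact (hr y).trans (by rw [← h, Complex.ofReal_zero]))
  -- the total
  have hF := isBlockFusionSystemOn_blockSystem hM hmax
  have hst := stable_lamFn hM hF (one_mem _)
  have hid : starFn p M P c (lamFn P (1 : P →* ℂˣ)) χ = (χ : G → ℂ) :=
    funext (starFn_one hM hF hχ)
  have htot : ∑ y : P, r y = Nat.card P := by
    have h := classInner_starFn hM hmax hnil hfQ hst hst hχ hχ
    rw [hid, classInner_self_irr χ.2] at h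
    simp only [lamFn_one_apply, map_one, one_mul, hr] at h
    apply Complex.ofReal_injective
    push_cast
    rw [eq_comm, inv_mul_eq_one₀ (Nat.cast_ne_zero.2 Nat.card_pos.ne')] at h
    exact h.symm
  -- the product is a positive integer
  set n := Nat.card P with hn
  haveI : NeZero n := ⟨Nat.card_pos.ne'⟩
  have hyn : ∀ y : P, (y : G) ^ n = 1 := fun y => congrArg Subtype.val (pow_card_eq_one' (x := y))
  have hz : ∀ (y : P) (i : IrrCharacter C⟨Subgroup.zpowers (y : G)⟩ ×
      IrrCharacter C⟨Subgroup.zpowers (y : G)⟩),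
      (centralValue (y : G) i.1 * conj (centralValue (y : G) i.2)) ^ n = 1 := fun y i => by
    rw [mul_pow, ← map_pow, centralValue_pow rfl (hyn y), centralValue_pow rfl (hyn y), map_one,
      mul_one]
  have hrep : ∀ y : P, m y = _ := fun y =>
    (congrArg (fun g => contribution p g (fQ (Subgroup.zpowers (y : G))) χ χ)
      (pow_one (y : G)).symm).trans
      (contribution_pow_eq rfl (fQ (Subgroup.zpowers (y : G))) χ χ 1)
  have hmem : ∀ y, m y ∈ cycField n := fun y => by
    rw [hrep y]
    exact sum_mem fun i _ => mul_mem (intCast_mem _ _)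
      (pow_mem (mem_cycField_of_pow_eq_one n (hz y i)) _)
  have hint : ∀ y, IsIntegral ℤ (m y) := fun y =>
    isIntegral_contribution rfl (isPElem_of_mem hmax.1.1.1 y.2) hM _ χ χ
  obtain ⟨q, hq⟩ := rat_of_galConj_fixed (prod_mem fun y _ => hmem y :
      ∏ y : P, m y ∈ cycField n) fun σ j hj hσ => by
    rw [map_prod]
    refine Fintype.prod_equiv (powCoprime hj.symm) _ _ fun y => ?_
    have hzp : Subgroup.zpowers ((y : G) ^ j) = Subgroup.zpowers (y : G) := by
      have hord : orderOf ((y : G) ^ j) = orderOf (y : G) :=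
        Nat.Coprime.orderOf_pow (hj.symm.coprime_dvd_left (orderOf_dvd_of_pow_eq_one (hyn y)))
      exact Subgroup.eq_of_le_of_card_ge (Subgroup.zpowers_le.2 (Subgroup.pow_mem _
        (Subgroup.mem_zpowers _) _)) (by rw [Nat.card_zpowers, Nat.card_zpowers, hord])
    have key : ∀ Q Q' : Subgroup G, Q = Q' → contribution p ((y : G) ^ j) (fQ Q) χ χ =
        contribution p ((y : G) ^ j) (fQ Q') χ χ := by
      rintro _ _ rfl; rfl
    rw [show m (powCoprime hj.symm y) = _ from key _ _ hzp, contribution_pow_eq rfl, hrep y, map_sum]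
    refine Finset.sum_congr rfl fun i _ => ?_
    rw [pow_one, map_mul, map_intCast, hσ _ (hz y i)]
  obtain ⟨w, hw⟩ := int_of_isIntegral_rat (q := q) (hq ▸ IsIntegral.prod _ fun y _ => hint y)
  have hwr : ∏ y : P, r y = (w : ℝ) := by
    apply Complex.ofReal_injective
    push_cast
    simp only [← hr]
    rw [show ∏ y : P, m y = (q : ℂ) from hq, hw, Rat.cast_intCast]
  have hw1 : (1 : ℝ) ≤ ∏ y : P, r y := by
    have h := Finset.prod_pos (s := Finset.univ) fun y _ => hpos y
    rw [hwr] at h ⊢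
    have : (0 : ℤ) < w := by exact_mod_cast h
    exact_mod_cast this
  -- equality in the mean inequality
  have hlog : 0 ≤ ∑ y : P, Real.log (r y) := by
    rw [← Real.log_prod fun y _ => (hpos y).ne']
    exact Real.log_nonneg hw1
  have hzero : ∑ y : P, (r y - 1 - Real.log (r y)) = 0 := by
    refine le_antisymm ?_ (Finset.sum_nonneg fun y _ => by
      linarith [Real.log_le_sub_one_of_pos (hpos y)])
    rw [Finset.sum_sub_distrib, Finset.sum_sub_distrib, htot, Finset.sum_const, Finset.card_univ,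
      nsmul_one, ← Nat.card_eq_fintype_card]
    linarith
  have h1 := (Finset.sum_eq_zero_iff_of_nonneg fun y _ => by
    linarith [Real.log_le_sub_one_of_pos (hpos y)]).1 hzero y (Finset.mem_univ y)
  by_cases hy1 : r y = 1
  · rw [hr y, hy1, Complex.ofReal_one]
  · linarith [Real.log_lt_sub_one_of_pos (hpos y) hy1]

/-- A character of the defect group, on the group. -/
noncomputable def irrFn (P : Subgroup G) (ζ : IrrCharacter P) : G → ℂ :=
  extendByZero P (ζ : P → ℂ)

lemma irrFn_coe (ζ : IrrCharacter P) (y : P) : irrFn P ζ (y : G) = (ζ : P → ℂ) y :=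
  extendByZero_mem _ y.2

lemma stable_irrFn (hM : IsPModular p M) (hmax : IsMaximalBrauerPair p M B P c)
    (hnil : IsNilpotentBlock p M B) (ζ : IrrCharacter P) : Stable p M P c (irrFn P ζ) :=
  stable_of_nilpotent hM hmax hnil fun u hu y hy => by
    rw [show u * y * u⁻¹ = (((⟨u, hu⟩ : P) * ⟨y, hy⟩ * ⟨u, hu⟩⁻¹ : P) : G) from rfl, irrFn_coe,
      show irrFn P ζ y = irrFn P ζ ((⟨y, hy⟩ : P) : G) from rfl, irrFn_coe]
    exact isClassFunction_irr ζ _ _

/-- The values of a star at the regular elements. -/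
theorem starFn_regular (hM : IsPModular p M) (hmax : IsMaximalBrauerPair p M B P c) {ψ : G → ℂ}
    (hψ : Stable p M P c ψ) {χ : IrrCharacter G} (hχ : χ ∈ B) {g : G} (hg : ¬ p ∣ orderOf g) :
    starFn p M P c ψ χ g = ψ 1 * (χ : G → ℂ) g := by
  have h1 : IsPElem p (1 : G) := ⟨0, by simp⟩
  have hmem : g ∈ C⟨Subgroup.zpowers (1 : G)⟩ := by
    rw [centralizer_zpowers, Subgroup.mem_centralizer_singleton_iff, one_mul, mul_one]
  have hw : ¬ p ∣ orderOf (⟨g, hmem⟩ : C⟨Subgroup.zpowers (1 : G)⟩) := by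
    rwa [← Subgroup.orderOf_coe]
  rw [← one_mul g, show (1 : G) * g = 1 * ((⟨g, hmem⟩ : C⟨Subgroup.zpowers (1 : G)⟩) : G) from rfl,
    starFn_section hM χ h1 _ hw]
  refine Eq.trans ?_ (congrArg (ψ 1 * ·)
    (sum_blockPart hM (isClassFunction_secFn 1 (isClassFunction_irr χ)) ⟨g, hmem⟩))
  rw [Finset.mul_sum]
  refine Finset.sum_congr rfl fun b hb => ?_
  rcases below_or_part_eq_zero hM hmax hχ h1 ((mem_blocksFinset hM).1 hb) with ⟨t, ht⟩ | h
  · rw [weight_eq hψ ht, show t * 1 * t⁻¹ = (1 : G) by group]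
  · rw [h _ hw, mul_zero, mul_zero]

/-- **The characters of a nilpotent block.** -/
theorem nilpotent_characters (hM : IsPModular p M) (hmax : IsMaximalBrauerPair p M B P c)
    (hnil : IsNilpotentBlock p M B) :
    ∃ χ₀ ∈ B, blockHeight p B (χ₀ : G → ℂ) = 0 ∧ ∃ Φ : IrrCharacter P ≃ B, ∀ (ζ : IrrCharacter P)
      (g : G), ¬ p ∣ orderOf g → ((Φ ζ : IrrCharacter G) : G → ℂ) g =
        (ζ : P → ℂ) 1 * (χ₀ : G → ℂ) g := by
  have hB := hmax.1.2.1
  obtain ⟨χ, hχ, h0⟩ := exists_height_zero hM hB
  refine ⟨χ, hχ, h0, ?_⟩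
  let fQ : ∀ Q : Subgroup G, Set (IrrCharacter C⟨Q⟩) := fun Q =>
    if h : Q ≤ P then (existsUnique_subpairLE hM hmax.1.1 h).choose else ∅
  have hfQ : ∀ Q ≤ P, SubpairLE p M Q (fQ Q) P c := fun Q hQ => by
    simp only [fQ, dif_pos hQ]
    exact (existsUnique_subpairLE hM hmax.1.1 hQ).choose_spec.1
  have hgen : ∀ ζ : IrrCharacter P, IsGeneralizedCharacter P (fun y : P => irrFn P ζ y) := fun ζ => by
    simp only [irrFn_coe]
    exact IsCharacter.isGeneralized (isCharacter_of_irr ζ.2)
  have hst := stable_irrFn hM hmax hnil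
  have horth : ∀ ζ ζ' : IrrCharacter P,
      classInner (starFn p M P c (irrFn P ζ) χ) (starFn p M P c (irrFn P ζ') χ) =
        if ζ = ζ' then 1 else 0 := fun ζ ζ' => by
    rw [classInner_starFn hM hmax hnil hfQ (hst ζ) (hst ζ') hχ hχ, ← classInner_irrCharacter,
      classInner_def]
    refine congrArg _ (Finset.sum_congr rfl fun y _ => ?_)
    rw [contribution_self_eq_one hM hmax hnil hfQ hχ h0 y, mul_one, irrFn_coe, irrFn_coe]
  have h1p : ¬ p ∣ orderOf (1 : G) := by simpa using (Fact.out : p.Prime).ne_one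
  have hone : ∀ ζ : IrrCharacter P,
      starFn p M P c (irrFn P ζ) χ 1 = (ζ : P → ℂ) 1 * (χ : G → ℂ) 1 := fun ζ => by
    rw [starFn_regular hM hmax (hst ζ) hχ h1p,
      show irrFn P ζ 1 = irrFn P ζ ((1 : P) : G) from rfl, irrFn_coe]
  have hirr : ∀ ζ : IrrCharacter P, IsIrrCharacter G (starFn p M P c (irrFn P ζ) χ) := fun ζ => by
    refine (isIrr_or_neg_of_norm_one (isGeneralized_starFn hM hmax (hst ζ) (hgen ζ) hχ)
      ((horth ζ ζ).trans (if_pos rfl))).resolve_right fun h => ?_
    obtain ⟨m, hm⟩ := IsCharacter.apply_one (isCharacter_of_irr h)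
    rw [Pi.neg_apply, hone, irr_apply_one_eq_deg χ, irr_apply_one_eq_deg ζ,
      neg_eq_iff_add_eq_zero] at hm
    have h' : deg (ζ : P → ℂ) * deg (χ : G → ℂ) + m = 0 := by exact_mod_cast hm
    have := Nat.mul_pos (deg_irr_pos ζ) (deg_irr_pos χ)
    omega
  have hreg : ∀ (ζ : IrrCharacter P) (g : G), ¬ p ∣ orderOf g →
      starFn p M P c (irrFn P ζ) χ g = (ζ : P → ℂ) 1 * (χ : G → ℂ) g := fun ζ g hg => by
    rw [starFn_regular hM hmax (hst ζ) hχ hg,
      show irrFn P ζ 1 = irrFn P ζ ((1 : P) : G) from rfl, irrFn_coe]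
  have hmem : ∀ ζ : IrrCharacter P, (⟨_, hirr ζ⟩ : IrrCharacter G) ∈ B := fun ζ => by
    by_contra hnot
    have hz := classInner_pRegularPart_eq_zero hM hB hχ hnot
    have key : classInner (pRegularPart p (χ : G → ℂ)) (starFn p M P c (irrFn P ζ) χ) =
        conj ((ζ : P → ℂ) 1) *
          (((Nat.card G : ℝ)⁻¹ * ∑ g : G, ‖pRegularPart p (χ : G → ℂ) g‖ ^ 2 : ℝ) : ℂ) := by
      rw [classInner_def]
      push_cast
      rw [mul_left_comm, Finset.mul_sum _ _ (conj _)]
      congr 1
      refine Finset.sum_congr rfl fun g _ => ?_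
      rw [← Complex.mul_conj', pRegularPart_apply]
      by_cases hg : p ∣ orderOf g
      · simp [hg]
      · simp only [if_neg hg]
        rw [hreg ζ g hg, map_mul]
        ring
    rw [key, mul_eq_zero, map_eq_zero] at hz
    have hz' := hz.resolve_left (IsIrrCharacter.apply_one_ne_zero ζ.2)
    rw [Complex.ofReal_eq_zero, mul_eq_zero, inv_eq_zero, Nat.cast_eq_zero] at hz'
    have h2 := (Finset.sum_eq_zero_iff_of_nonneg fun g _ => sq_nonneg _).1
      (hz'.resolve_left Nat.card_pos.ne') 1 (Finset.mem_univ _)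
    rw [sq_eq_zero_iff, norm_eq_zero, pRegularPart_apply, if_neg h1p] at h2
    exact IsIrrCharacter.apply_one_ne_zero χ.2 h2
  let Φ : IrrCharacter P → B := fun ζ => ⟨⟨_, hirr ζ⟩, hmem ζ⟩
  have hinj : Function.Injective Φ := fun ζ ζ' h => by
    by_contra hne
    have h' : starFn p M P c (irrFn P ζ) χ = starFn p M P c (irrFn P ζ') χ :=
      congrArg (fun a : B => ((a : IrrCharacter G) : G → ℂ)) h
    have := horth ζ ζ'
    rw [h', horth ζ' ζ', if_pos rfl, if_neg hne] at this
    exact one_ne_zero this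
  have hsurj : Function.Surjective Φ := by
    rintro ⟨η, hη⟩
    by_contra hno
    push Not at hno
    have hF := isBlockFusionSystemOn_blockSystem hM hmax
    have hid : starFn p M P c (lamFn P (1 : P →* ℂˣ)) η = (η : G → ℂ) :=
      funext (starFn_one hM hF hη)
    set a : P → ℂ := fun y => contribution p (y : G) (fQ (Subgroup.zpowers (y : G))) η χ with ha
    have hcoef : ∀ ζ : IrrCharacter P, ∑ y : P, conj ((ζ : P → ℂ) y) * a y = 0 := fun ζ => by
      have h := classInner_starFn hM hmax hnil hfQ (stable_lamFn hM hF (one_mem _)) (hst ζ) hη hχ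
      rw [hid, show classInner (η : G → ℂ) (starFn p M P c (irrFn P ζ) χ) = 0 from
        (classInner_irrCharacter η ⟨_, hirr ζ⟩).trans
          (if_neg fun h => hno ζ (Subtype.ext h.symm)), eq_comm, mul_eq_zero, inv_eq_zero,
        Nat.cast_eq_zero] at h
      rw [← h.resolve_left Nat.card_pos.ne']
      exact Finset.sum_congr rfl fun y _ => by rw [lamFn_one_apply, one_mul, irrFn_coe]
    have ha1 : a 1 = 0 := by
      have h : ∑ ζ : IrrCharacter P, (ζ : P → ℂ) 1 * ∑ y : P, conj ((ζ : P → ℂ) y) * a y = 0 :=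
        Finset.sum_eq_zero fun ζ _ => by rw [hcoef ζ, mul_zero]
      simp only [Finset.mul_sum, ← mul_assoc] at h
      rw [Finset.sum_comm] at h
      simp only [← Finset.sum_mul] at h
      have hd : ∀ y : P, ∑ ζ : IrrCharacter P, (ζ : P → ℂ) 1 * conj ((ζ : P → ℂ) y) =
          if y = 1 then (Nat.card P : ℂ) else 0 := fun y => by
        have hs := congrArg conj (sum_deg_mul y)
        simp only [map_sum, map_mul, apply_ite conj, map_natCast, map_zero] at hs
        rw [← hs]
        exact Finset.sum_congr rfl fun ζ _ => by rw [irr_apply_one_eq_deg ζ, map_natCast]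
      simp only [hd, ite_mul, zero_mul, Finset.sum_ite_eq', Finset.mem_univ, if_true,
        mul_eq_zero, Nat.cast_eq_zero] at h
      exact h.resolve_left Nat.card_pos.ne'
    have hD := isDefectGroup_of_noExtension hM hmax.1 (noExtension_of_maximal hM hmax)
    have hN : P ≤ Subgroup.normalizer (Subgroup.zpowers ((1 : P) : G) : Set G) := fun b _ => by
      refine (Subgroup.centralizer_le_normalizer _) ?_
      rw [centralizer_zpowers, Subgroup.mem_centralizer_singleton_iff]
      simp
    obtain ⟨b, hb, -⟩ := existsUnique_normalSubpair hM hmax.1.1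
      (Subgroup.zpowers_le.2 (1 : P).2) hN
    obtain rfl : b = fQ (Subgroup.zpowers ((1 : P) : G)) :=
      (existsUnique_subpairLE hM hmax.1.1 (Subgroup.zpowers_le.2 (1 : P).2)).unique
        (Relation.ReflTransGen.single hb) (hfQ _ (Subgroup.zpowers_le.2 (1 : P).2))
    obtain ⟨hbp, -, -, -, -, hbc⟩ := (isNormalSubpair_iff hM _ _ _ _).1 hb
    obtain ⟨hind, -, hdef⟩ := major_section hM hD hmax.1 (1 : P).2 (fun _ _ => by simp) ⟨hbp.2, hbc⟩
    exact (contribution_height rfl (isPElem_of_mem hmax.1.1.1 (1 : P).2) hM hind hdef hη hχ h0).1 ha1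
  exact ⟨Equiv.ofBijective Φ ⟨hinj, hsurj⟩, hreg⟩

end Cfsg.Lib.Blocks.Star
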