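import Mathlib
import Cfsg.Agent.Blocks.Star.HeightZero
import Cfsg.Agent.Blocks.ContributionRows
import Cfsg.Agent.Blocks.FirstMain
import Cfsg.Agent.Blocks.BlockSystem
import Cfsg.Agent.Fusion.FocalProper

/-!
# The number of characters of height zero as a multiple of `p`

The regular contributions of a member of height zero to the others satisfy a quadratic relation modulo
`p`.  When the linear characters trivial on the focal subgroup form a group of order `p`, this relation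
descends to their orbits, of which there are then at least two, and three for `p ≡ 3` modulo `4`.
-/

set_option autoImplicit false
set_option linter.unusedSectionVars false
set_option linter.style.haveILetI false

namespace Cfsg.Lib.Blocks.KZeroMult

open Cfsg.Lib.Chars Cfsg.Lib.Blocks.Star
open scoped Classical ComplexConjugate

universe u

local notation "C⟨" P "⟩" => Subgroup.centralizer (SetLike.coe P)

variable {G : Type u} [Group G] [Fintype G] {M : Ideal AlgInt} {p : ℕ} [Fact p.Prime]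
  {B : Set (IrrCharacter G)}

/-- The block itself, as a block of the centraliser of the identity. -/
theorem exists_top_block (hM : IsPModular p M) (hB : IsPBlock M B) :
    ∃ b : Set (IrrCharacter C⟨Subgroup.zpowers (1 : G)⟩),
      IsInducedBlock M C⟨Subgroup.zpowers (1 : G)⟩ b B ∧ blockDefect p b = blockDefect p B := by
  have htop : C⟨Subgroup.zpowers (1 : G)⟩ = ⊤ := by
    rw [centralizer_zpowers]
    exact eq_top_iff.2 fun g _ => Subgroup.mem_centralizer_singleton_iff.2 (by simp)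
  let e : C⟨Subgroup.zpowers (1 : G)⟩ ≃* G := (MulEquiv.subgroupCongr htop).trans Subgroup.topEquiv
  have he : ∀ x, e x = (x : G) := fun x => rfl
  obtain ⟨χ, hχ⟩ := IsPBlock.nonempty hM hB
  refine ⟨irrEquiv e '' B, ?_, ?_⟩
  · refine (isInducedBlock_iff hM _ (IsPBlock.image_irrEquiv e hB) hB ⟨χ, hχ, rfl⟩ hχ).2 fun g => ?_
    rw [inducedCentralChar_eq_omega, ← omega_cls_irr]
    congr 1
    simp only [omega, chiEval, irrEquiv_apply, fn_resElem, map_one]
    congr 1
    exact Fintype.sum_equiv e.toEquiv _ _ fun x => by simp [he]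
  · unfold blockDefect
    rw [Nat.card_congr e.toEquiv, Set.image_image]
    simp [charDegree]

variable {b : Set (IrrCharacter C⟨Subgroup.zpowers (1 : G)⟩)}

/-- The products of opposite entries of the row of a member `χ₀`. -/
noncomputable def rowTerm (p : ℕ) (b : Set (IrrCharacter C⟨Subgroup.zpowers (1 : G)⟩))
    (χ₀ ψ : IrrCharacter G) : ℂ :=
  contribution p (1 : G) b χ₀ ψ * contribution p (1 : G) b ψ χ₀

lemma one_pel : ∃ k : ℕ, orderOf (1 : G) = p ^ k := ⟨0, by simp⟩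

theorem sum_rowTerm (hM : IsPModular p M)
    (hind : IsInducedBlock M C⟨Subgroup.zpowers (1 : G)⟩ b B) (χ₀ : IrrCharacter G) :
    ∑ ψ ∈ Finset.univ.filter (· ∈ B), rowTerm p b χ₀ ψ =
      (p : ℂ) ^ blockDefect p b * contribution p (1 : G) b χ₀ χ₀ := by
  rw [← sum_contribution_mul_conj hM one_pel rfl hind χ₀]
  exact Finset.sum_congr rfl fun ψ _ => by rw [rowTerm, conj_contribution hM.1]

theorem isIntegral_rowTerm (hM : IsPModular p M) (χ₀ ψ : IrrCharacter G) :
    IsIntegral ℤ (rowTerm p b χ₀ ψ) :=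
  (isIntegral_contribution rfl one_pel hM b χ₀ ψ).mul (isIntegral_contribution rfl one_pel hM b ψ χ₀)

/-- Terms of positive height are divisible by `p²`. -/
theorem rowTerm_pos (hM : IsPModular p M)
    (hind : IsInducedBlock M C⟨Subgroup.zpowers (1 : G)⟩ b B)
    (hdef : blockDefect p b = blockDefect p B) (χ₀ : IrrCharacter G) {ψ : IrrCharacter G}
    (hψ : ψ ∈ B) (h : blockHeight p B (ψ : G → ℂ) ≠ 0) :
    IsIntegral ℤ (rowTerm p b χ₀ ψ / (p : ℂ) ^ 2) := by
  obtain ⟨k, hk⟩ : ∃ k, blockHeight p B (ψ : G → ℂ) = k + 1 :=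
    ⟨_, (Nat.succ_pred_eq_of_ne_zero h).symm⟩
  have h1 := (isIntegral_contribution_div rfl one_pel hM hind hdef hψ χ₀).1
  rw [hk, Nat.cast_pow, pow_succ'] at h1
  have hp0 : (p : ℂ) ≠ 0 := Nat.cast_ne_zero.2 hM.1.ne_zero
  have h2 : IsIntegral ℤ (contribution p (1 : G) b ψ χ₀ / p) := by
    have e : contribution p (1 : G) b ψ χ₀ / (p : ℂ) =
        contribution p (1 : G) b ψ χ₀ / ((p : ℂ) * (p : ℂ) ^ k) * (p : ℂ) ^ k := by
      rw [div_mul_eq_mul_div, mul_div_mul_right _ _ (pow_ne_zero k hp0)]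
    rw [e]
    exact h1.mul ((isIntegral_natCast' p).pow k)
  have h3 : IsIntegral ℤ (contribution p (1 : G) b χ₀ ψ / p) := by
    have := h2.map (starRingEnd ℂ).toIntAlgHom
    simpa [conj_contribution hM.1] using this
  have e : rowTerm p b χ₀ ψ / (p : ℂ) ^ 2 =
      contribution p (1 : G) b χ₀ ψ / p * (contribution p (1 : G) b ψ χ₀ / p) := by
    show contribution p (1 : G) b χ₀ ψ * contribution p (1 : G) b ψ χ₀ / (p : ℂ) ^ 2 = _
    ring
  rw [e]
  exact h3.mul h2

/-- The terms of height zero are squares of residues of integers, up to a common factor. -/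
theorem rowTerm_zero (hM : IsPModular p M)
    (hind : IsInducedBlock M C⟨Subgroup.zpowers (1 : G)⟩ b B) {χ₀ : IrrCharacter G}
    (hχ₀ : χ₀ ∈ B) (h0 : blockHeight p B (χ₀ : G → ℂ) = 0) :
    ∃ (κ : Res M) (z : IrrCharacter G → ℤ), κ ≠ 0 ∧
      ∀ ψ ∈ B, blockHeight p B (ψ : G → ℂ) = 0 →
        (z ψ : Res M) ≠ 0 ∧ res M (rowTerm p b χ₀ ψ) = κ * (z ψ : Res M) ^ 2 := by
  obtain ⟨θ₀, hθ₀, hθ0⟩ := exists_height_zero hM hind.1
  let z : IrrCharacter G → ℤ := fun ψ =>
    ∑ θ ∈ Finset.univ.filter (· ∈ b), (resMult C⟨Subgroup.zpowers (1 : G)⟩ ψ θ : ℤ) * regRed p b θ θ₀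
  have hz : ∀ ψ, (z ψ : Res M) =
      ∑ θ ∈ Finset.univ.filter (· ∈ b), (resMult C⟨Subgroup.zpowers (1 : G)⟩ ψ θ : Res M) * (regRed p b θ θ₀ : Res M) :=
    fun ψ => by simp [z]
  have hr := regRed_self_ne_zero hM hind.1 hθ₀ hθ0
  set r : Res M := (regRed p b θ₀ θ₀ : Res M) with hrdef
  have hm := fun χ ψ => res_contribution_mul (x := (1 : G)) (H := C⟨Subgroup.zpowers (1 : G)⟩) rfl one_pel hM hind.1 hθ₀ χ ψ
  have hne : ∀ ψ ∈ B, blockHeight p B (ψ : G → ℂ) = 0 → (z ψ : Res M) ≠ 0 := fun ψ hψ h hz0 => by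
    have h1 := (hm ψ ψ).2
    rw [← hz, hz0, zero_mul] at h1
    exact res_contribution_self_ne_zero rfl one_pel hM hind hψ h ((mul_eq_zero.1 h1).resolve_right hr)
  refine ⟨(z χ₀ : Res M) ^ 2 * (r ^ 2)⁻¹, z,
    mul_ne_zero (pow_ne_zero _ (hne χ₀ hχ₀ h0)) (inv_ne_zero (pow_ne_zero _ hr)),
    fun ψ hψ h => ⟨hne ψ hψ h, ?_⟩⟩
  have h1 := (hm χ₀ ψ).2
  have h2 := (hm ψ χ₀).2
  rw [← hz, ← hz] at h1 h2
  rw [rowTerm, res_mul (hm χ₀ ψ).1 (hm ψ χ₀).1, show (z χ₀ : Res M) ^ 2 * (r ^ 2)⁻¹ * (z ψ : Res M) ^ 2 =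
    ((z χ₀ : Res M) * z ψ) * ((z ψ : Res M) * z χ₀) * (r ^ 2)⁻¹ by ring, ← h1, ← h2, hrdef]
  have hr' : (regRed p b θ₀ θ₀ : Res M) ≠ 0 := hrdef ▸ hr
  field_simp

/-- For `p ≤ 3` the number of members of height zero is divisible by `p`. -/
theorem dvd_of_small (hM : IsPModular p M) (hB : IsPBlock M B) (hd : blockDefect p B ≠ 0)
    (hp3 : p ≤ 3) :
    p ∣ Nat.card {χ : IrrCharacter G // χ ∈ B ∧ blockHeight p B (χ : G → ℂ) = 0} := by
  obtain ⟨b, hind, hdef⟩ := exists_top_block hM hB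
  obtain ⟨χ₀, hχ₀, h0⟩ := exists_height_zero hM hB
  obtain ⟨κ, z, hκ, hz⟩ := rowTerm_zero hM hind hχ₀ h0
  have hres := congrArg (res M) (sum_rowTerm hM hind χ₀)
  rw [res_sum _ _ fun ψ _ => isIntegral_mem_place hM (isIntegral_rowTerm hM χ₀ ψ),
    res_mul (pow_mem (natCast_mem_place _) _)
      (isIntegral_mem_place hM (isIntegral_contribution rfl one_pel hM b χ₀ χ₀)),
    ← Nat.cast_pow, res_natCast, (res_natCast_eq_zero_iff hM _).2 (dvd_pow_self p (hdef ▸ hd)),
    zero_mul] at hres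
  rw [← Finset.sum_filter_add_sum_filter_not (Finset.univ.filter (· ∈ B))
    (fun ψ => blockHeight p B (ψ : G → ℂ) = 0)] at hres
  rw [Finset.sum_eq_zero (s := Finset.filter (fun ψ => ¬ _) _) (fun ψ hψ => ?_), add_zero,
    Finset.filter_filter] at hres
  swap
  · obtain ⟨hψB, hψh⟩ := Finset.mem_filter.1 hψ
    have hi := rowTerm_pos hM hind hdef χ₀ (Finset.mem_filter.1 hψB).2 hψh
    rw [show rowTerm p b χ₀ ψ = ((p ^ 2 : ℕ) : ℂ) * (rowTerm p b χ₀ ψ / (p : ℂ) ^ 2) by
        push_cast; field_simp [hM.1.ne_zero],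
      res_mul (natCast_mem_place _) (isIntegral_mem_place hM hi), res_natCast,
      (res_natCast_eq_zero_iff hM _).2 (dvd_pow_self p two_ne_zero), zero_mul]
  haveI := charP_res hM
  have hsq : ∀ ψ ∈ B, blockHeight p B (ψ : G → ℂ) = 0 → res M (rowTerm p b χ₀ ψ) = κ := by
    intro ψ hψ h
    obtain ⟨hz0, hz'⟩ := hz ψ hψ h
    have hnd : ((z ψ : ℤ) : ZMod p) ≠ 0 := fun e => hz0
      ((CharP.intCast_eq_zero_iff (Res M) p _).2 ((ZMod.intCast_zmod_eq_zero_iff_dvd _ p).1 e))
    have h2 : ((z ψ : ℤ) : ZMod p) ^ 2 = 1 := by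
      have hf := ZMod.pow_card_sub_one_eq_one hnd
      have := hM.1.two_le
      interval_cases p
      · rw [show (2 : ℕ) - 1 = 1 from rfl, pow_one] at hf; rw [hf, one_pow]
      · exact hf
    rw [hz']
    have h3 : (((z ψ) ^ 2 - 1 : ℤ) : ZMod p) = 0 := by push_cast; rw [h2, sub_self]
    have h4 := (CharP.intCast_eq_zero_iff (Res M) p _).2 ((ZMod.intCast_zmod_eq_zero_iff_dvd _ p).1 h3)
    push_cast at h4
    rw [sub_eq_zero.1 h4, mul_one]
  rw [Finset.sum_congr rfl (fun ψ hψ => hsq ψ (Finset.mem_filter.1 hψ).2.1 (Finset.mem_filter.1 hψ).2.2),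
    Finset.sum_const, nsmul_eq_mul, mul_eq_zero, or_iff_left hκ, res_natCast_eq_zero_iff hM] at hres
  rwa [Nat.card_eq_fintype_card, Fintype.card_subtype]

variable {P : Subgroup G} {c : Set (IrrCharacter C⟨P⟩)} {F : FusionSystem P}

set_option maxHeartbeats 1000000 in
/-- Focal index `p`: at least two orbits, three for `p ≡ 3` modulo `4`. -/
theorem orbits_bound (hM : IsPModular p M) (hF : IsBlockFusionSystemOn p M B P c F)
    (hd : 2 ≤ blockDefect p B) (hidx : (F.focalSubgroup.subgroupOf P).index = p) :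
    2 * p ≤ Nat.card {χ : IrrCharacter G // χ ∈ B ∧ blockHeight p B (χ : G → ℂ) = 0} ∧
      (p % 4 = 3 → 3 * p ≤ Nat.card {χ : IrrCharacter G // χ ∈ B ∧ blockHeight p B (χ : G → ℂ) = 0}) := by
  have hB : IsPBlock M B := hF.1.1.2.1
  obtain ⟨b, hind, hdef⟩ := exists_top_block hM hB
  obtain ⟨χ₀, hχ₀, h0⟩ := exists_height_zero hM hB
  obtain ⟨κ, z, hκ, hz⟩ := rowTerm_zero hM hind hχ₀ h0
  letI act := starAction hM hF
  set N := F.focalSubgroup.subgroupOf P with hN
  haveI : N.Normal := normal_focal F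
  letI : CommGroup (P ⧸ N) :=
    { (inferInstance : Group (P ⧸ N)) with
      mul_comm := fun x y => by
        induction x using QuotientGroup.induction_on with
        | _ a =>
          induction y using QuotientGroup.induction_on with
          | _ b =>
            rw [← QuotientGroup.mk_mul, ← QuotientGroup.mk_mul, QuotientGroup.eq, hN,
              Subgroup.mem_subgroupOf]
            have h := commutator_mem_focal F (inv_mem a.2) (mul_mem a.2 b.2)
            rw [show ((a : G) * b)⁻¹ * ((a : G)⁻¹ * (a * b) * (a : G)⁻¹⁻¹) =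
              ((a : G) * b)⁻¹ * (b * a) by group] at h
            simpa using h }
  let eqv : focTriv F ≃ (P ⧸ N →* ℂˣ) :=
    { toFun := fun lam => QuotientGroup.lift N lam.1 fun y hy => lam.2 y hy
      invFun := fun ε => ⟨ε.comp (QuotientGroup.mk' N), fun y hy => by
        show ε (QuotientGroup.mk' N y) = 1
        rw [show QuotientGroup.mk' N y = 1 from (QuotientGroup.eq_one_iff y).2 hy, map_one]⟩
      left_inv := fun lam => Subtype.ext (MonoidHom.ext fun y => rfl)
      right_inv := fun ε => MonoidHom.ext fun z => QuotientGroup.induction_on z fun y => rfl }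
  have hA : Nat.card (focTriv F) = p := by
    rw [Nat.card_congr eqv, CommGroup.card_monoidHom_of_hasEnoughRootsOfUnity (P ⧸ N) ℂ,
      ← Subgroup.index_eq_card, hidx]
  let S : Type u := {χ : {χ : IrrCharacter G // χ ∈ B} // blockHeight p B (χ.1 : G → ℂ) = 0}
  letI : MulAction (focTriv F) S :=
    { smul := fun lam χ => ⟨lam • χ.1, (height_starIrr hM hF lam χ.1).trans χ.2⟩
      one_smul := fun χ => Subtype.ext (one_smul _ χ.1)
      mul_smul := fun lam mu χ => Subtype.ext (mul_smul lam mu χ.1) }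
  have hfree : ∀ χ : S, MulAction.stabilizer (focTriv F) χ = ⊥ := by
    intro χ
    refine (Subgroup.eq_bot_iff_forall _).2 fun lam hlam => Subtype.ext (MonoidHom.ext fun y => ?_)
    obtain ⟨y, hy⟩ := y
    have hfix : starFn p M P c (lamFn P lam.1) χ.1.1 = (χ.1.1 : G → ℂ) := by
      have h1 : lam • χ.1 = χ.1 := congrArg Subtype.val (MulAction.mem_stabilizer_iff.1 hlam)
      exact congrArg (fun a : {χ : IrrCharacter G // χ ∈ B} => ((a.1 : IrrCharacter G) : G → ℂ)) h1
    obtain ⟨b', hb', hbelow, w, hw, hne⟩ := exists_part_ne_zero_height_zero hM hF.1 χ.1.2 χ.2 hy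
    have h1 := lam_eq_one_of_fixed hM hF lam.2 hfix (isPElem_of_mem hF.1.1.1.1 hy) hb' hbelow hw hne
    show lam.1 ⟨y, hy⟩ = 1
    rw [← h1]
    congr 1
    exact Subtype.ext (by simp)
  -- the terms are constant on orbits
  have hconst : ∀ (lam : focTriv F) (χ : S),
      rowTerm p b χ₀ (lam • χ).1.1 = rowTerm p b χ₀ χ.1.1 := by
    intro lam χ
    have hreg : ∀ v : C⟨Subgroup.zpowers (1 : G)⟩, ¬ p ∣ orderOf v →
        ((lam • χ).1.1 : G → ℂ) (1 * (v : G)) = (χ.1.1 : G → ℂ) (1 * (v : G)) := fun v hv =>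
      starFn_eq_of_regular hM hF lam.2 χ.1.2 (by rwa [one_mul, Subgroup.orderOf_coe])
    simp only [rowTerm, contribution_eq_sum_regular hM hind.1]
    congr 2 <;> refine Finset.sum_congr rfl fun w hw => ?_
    · rw [Star.blockPart_congr_regular hM hind.1 hreg (Finset.mem_filter.1 hw).2]
    · rw [Star.blockPart_congr_regular hM hind.1 hreg (Finset.mem_filter.1 hw).2]
  haveI : Fintype (MulAction.orbitRel.Quotient (focTriv F) S) := Fintype.ofFinite _
  set Ω := MulAction.orbitRel.Quotient (focTriv F) S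
  have horb : ∀ ω : Ω, Nat.card (MulAction.orbit (focTriv F) ω.out) = p := fun ω => by
    rw [Nat.card_coe_set_eq, ← MulAction.index_stabilizer, hfree, Subgroup.index_bot, hA]
  have hcard : Nat.card {χ : IrrCharacter G // χ ∈ B ∧ blockHeight p B (χ : G → ℂ) = 0} =
      Nat.card Ω * p := by
    rw [← Nat.card_congr (Equiv.subtypeSubtypeEquivSubtypeInter (· ∈ B)
      fun χ : IrrCharacter G => blockHeight p B (χ : G → ℂ) = 0)]
    show Nat.card S = _
    rw [Nat.card_congr (MulAction.selfEquivSigmaOrbits (focTriv F) S), Nat.card_sigma,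
      Finset.sum_congr rfl fun ω _ => horb ω, Finset.sum_const, Finset.card_univ,
      Nat.card_eq_fintype_card, smul_eq_mul]
  have hsum : ∑ ψ ∈ (Finset.univ.filter (fun ψ : IrrCharacter G => ψ ∈ B)).filter (fun ψ : IrrCharacter G => blockHeight p B (ψ : G → ℂ) = 0),
      rowTerm p b χ₀ ψ = (p : ℂ) * ∑ ω : Ω, rowTerm p b χ₀ ω.out.1.1 := by
    calc _ = ∑ χ : S, rowTerm p b χ₀ χ.1.1 := by
          symm
          refine Finset.sum_bij (fun χ _ => χ.1.1) (fun χ _ => by simp [χ.1.2, χ.2])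
            (fun a _ b _ h => Subtype.ext (Subtype.ext h)) (fun ψ hψ => ?_) (fun _ _ => rfl)
          obtain ⟨h1, h2⟩ := Finset.mem_filter.1 hψ
          exact ⟨⟨⟨ψ, (Finset.mem_filter.1 h1).2⟩, h2⟩, Finset.mem_univ _, rfl⟩
      _ = ∑ x : (Σ ω : Ω, MulAction.orbit (focTriv F) ω.out), rowTerm p b χ₀ x.1.out.1.1 := by
          refine Fintype.sum_equiv (MulAction.selfEquivSigmaOrbits (focTriv F) S) _ _ fun χ => ?_
          obtain ⟨lam, hlam⟩ := ((MulAction.selfEquivSigmaOrbits (focTriv F) S) χ).2.2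
          have hχ : ((((MulAction.selfEquivSigmaOrbits (focTriv F) S) χ).2 : _) : S) = χ := by
            conv_rhs => rw [← (MulAction.selfEquivSigmaOrbits (focTriv F) S).symm_apply_apply χ]
            rfl
          conv_lhs => rw [← hχ, ← hlam]
          exact hconst lam _
      _ = _ := by
          rw [Fintype.sum_sigma, Finset.mul_sum]
          refine Finset.sum_congr rfl fun ω _ => ?_
          dsimp only
          rw [Finset.sum_const, Finset.card_univ, ← Nat.card_eq_fintype_card, horb, nsmul_eq_mul]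
  set R := ∑ ω : Ω, rowTerm p b χ₀ ω.out.1.1 with hR
  have hR0 : res M R = 0 := by
    set T := (Finset.univ.filter (fun ψ : IrrCharacter G => ψ ∈ B)).filter (fun ψ : IrrCharacter G => ¬ blockHeight p B (ψ : G → ℂ) = 0)
    set W := ∑ ψ ∈ T, rowTerm p b χ₀ ψ / (p : ℂ) ^ 2 with hW
    have hWi : IsIntegral ℤ W := IsIntegral.sum _ fun ψ hψ => by
      obtain ⟨h1, h2⟩ := Finset.mem_filter.1 hψ
      exact rowTerm_pos hM hind hdef χ₀ (Finset.mem_filter.1 h1).2 h2
    have hp0 : (p : ℂ) ≠ 0 := Nat.cast_ne_zero.2 hM.1.ne_zero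
    have htot := sum_rowTerm hM hind χ₀
    rw [← Finset.sum_filter_add_sum_filter_not (Finset.univ.filter (· ∈ B))
      (fun ψ => blockHeight p B (ψ : G → ℂ) = 0), hsum] at htot
    have hT : ∑ ψ ∈ T, rowTerm p b χ₀ ψ = (p : ℂ) ^ 2 * W := by
      rw [hW, Finset.mul_sum]
      exact Finset.sum_congr rfl fun ψ _ => by field_simp
    rw [hT] at htot
    obtain ⟨k, hk⟩ : ∃ k, blockDefect p b = k + 2 := ⟨blockDefect p b - 2, by omega⟩
    have hRe : R = (p : ℕ) * ((p : ℂ) ^ k * contribution p (1 : G) b χ₀ χ₀ - W) := by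
      refine mul_left_cancel₀ hp0 ?_
      rw [hk] at htot
      linear_combination htot
    rw [hRe, res_mul (natCast_mem_place _) (isIntegral_mem_place hM
      ((((isIntegral_natCast' p).pow k).mul (isIntegral_contribution rfl one_pel hM b χ₀ χ₀)).sub hWi)),
      res_natCast, (res_natCast_eq_zero_iff hM _).2 dvd_rfl, zero_mul]
  have hprop : ∀ ω : Ω, (z ω.out.1.1 : Res M) ≠ 0 ∧
      res M (rowTerm p b χ₀ ω.out.1.1) = κ * (z ω.out.1.1 : Res M) ^ 2 :=
    fun ω => hz _ ω.out.1.2 ω.out.2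
  rw [hR, res_sum _ _ (fun ω _ => isIntegral_mem_place hM (isIntegral_rowTerm hM χ₀ _)),
    Finset.sum_congr rfl (fun ω _ => (hprop ω).2), ← Finset.mul_sum, mul_eq_zero,
    or_iff_right hκ] at hR0
  haveI : Nonempty Ω := ⟨Quotient.mk'' ⟨⟨χ₀, hχ₀⟩, h0⟩⟩
  have hm1 : Nat.card Ω ≠ 1 := fun h => by
    obtain ⟨hs, ⟨ω⟩⟩ := Nat.card_eq_one_iff_unique.1 h
    rw [Fintype.sum_subsingleton _ ω] at hR0
    exact (hprop ω).1 (pow_eq_zero_iff two_ne_zero |>.1 hR0)
  have hpos : 0 < Nat.card Ω := Nat.card_pos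
  rw [hcard]
  refine ⟨Nat.mul_le_mul_right p (by omega), fun h4 => Nat.mul_le_mul_right p ?_⟩
  by_contra hlt
  have h2 : Nat.card Ω = 2 := by omega
  obtain ⟨a, a', hne, huniv⟩ := Nat.card_eq_two_iff.1 h2
  rw [show (Finset.univ : Finset Ω) = {a, a'} from Finset.ext fun x => by
    simpa using (Set.eq_univ_iff_forall.1 huniv x), Finset.sum_pair hne] at hR0
  haveI := charP_res hM
  set z₁ := z a.out.1.1
  set z₂ := z a'.out.1.1
  have hzero : ((z₁ : ZMod p)) ^ 2 + (z₂ : ZMod p) ^ 2 = 0 := by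
    have := (ZMod.intCast_zmod_eq_zero_iff_dvd (z₁ ^ 2 + z₂ ^ 2) p).2
      ((CharP.intCast_eq_zero_iff (Res M) p _).1 (by push_cast; exact hR0))
    push_cast at this
    exact this
  have hz2 : (z₂ : ZMod p) ≠ 0 := fun e => (hprop a').1
    ((CharP.intCast_eq_zero_iff (Res M) p _).2 ((ZMod.intCast_zmod_eq_zero_iff_dvd _ p).1 e))
  exact ZMod.mod_four_ne_three_of_sq_eq_neg_one (y := (z₁ : ZMod p) * (z₂ : ZMod p)⁻¹) (by
    field_simp
    linear_combination hzero) h4

/-- Defect groups with a `p`-group of automorphisms. -/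
theorem kzero_of_aut (hM : IsPModular p M) (hB : IsPBlock M B) {D : Subgroup G}
    (hD : IsDefectGroup p M B D) (hD1 : D ≠ ⊥) (hAut : IsPGroup p (MulAut D)) :
    p ∣ Nat.card {χ : IrrCharacter G // χ ∈ B ∧ blockHeight p B (χ : G → ℂ) = 0} ∧
      (3 < p →
        2 * p ≤ Nat.card {χ : IrrCharacter G // χ ∈ B ∧ blockHeight p B (χ : G → ℂ) = 0} ∧
        (p % 4 = 3 →
          3 * p ≤ Nat.card {χ : IrrCharacter G // χ ∈ B ∧ blockHeight p B (χ : G → ℂ) = 0})) := by
  have hcard := IsDefectGroup.card hM hB hD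
  have hd : blockDefect p B ≠ 0 := fun h => hD1 (Subgroup.card_eq_one.1 (by rw [hcard, h, pow_zero]))
  have hp := hM.1
  by_cases hp3 : p ≤ 3
  · exact ⟨dvd_of_small hM hB hd hp3, fun h => absurd h (by omega)⟩
  have hp5 : 5 ≤ p := by
    rcases Nat.lt_or_ge p 5 with h | h
    · obtain rfl : p = 4 := by omega
      exact absurd hp (by decide)
    · exact h
  have hd2 : 2 ≤ blockDefect p B := by
    by_contra hlt
    have hDp : Nat.card D = p := by rw [hcard, show blockDefect p B = 1 by omega, pow_one]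
    haveI : IsCyclic D := isCyclic_of_prime_card hDp
    have hA : Nat.card (MulAut D) = p - 1 := by
      rw [IsCyclic.card_mulAut, hDp, Nat.totient_prime hp]
    obtain ⟨k, hk⟩ := IsPGroup.iff_card.1 hAut
    rcases k with _ | k
    · rw [pow_zero] at hk; omega
    · have := Nat.le_self_pow (n := k + 1) (by omega) p
      omega
  obtain ⟨c, hmax⟩ := exists_pair_of_defect hM hB hD
  have hF := isBlockFusionSystemOn_blockSystem hM hmax
  set F := blockSystem hM hmax.1.1
  have hlt := Cfsg.Lib.Fusion.focal_lt (IsDefectGroup.isPGroup hD) (saturated_block hM hF) hp5 hD1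
    (hAut.to_subgroup _)
  set n := (F.focalSubgroup.subgroupOf D).index with hn
  have hn1 : n ≠ 1 := fun h => by
    rw [hn, Subgroup.index_eq_one, Subgroup.subgroupOf_eq_top] at h
    exact hlt.not_ge h
  obtain ⟨i, -, hi⟩ := (Nat.dvd_prime_pow hp).1 (hcard ▸ hn ▸ Subgroup.index_dvd_card _ : n ∣ p ^ _)
  have hdvd := height_zero_count hM hF
  rw [← hn] at hdvd
  have hi0 : i ≠ 0 := fun h => hn1 (by rw [hi, h, pow_zero])
  refine ⟨(hi ▸ dvd_pow_self p hi0).trans hdvd, fun _ => ?_⟩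
  by_cases hi1 : i = 1
  · exact orbits_bound hM hF hd2 (by rw [← hn, hi, hi1, pow_one])
  · obtain ⟨χ₀, hχ₀, h0⟩ := exists_height_zero hM hB
    haveI : Nonempty {χ : IrrCharacter G // χ ∈ B ∧ blockHeight p B (χ : G → ℂ) = 0} :=
      ⟨⟨χ₀, hχ₀, h0⟩⟩
    have h2 : p * p ∣ Nat.card {χ : IrrCharacter G // χ ∈ B ∧ blockHeight p B (χ : G → ℂ) = 0} := by
      rw [← sq]
      exact (pow_dvd_pow p (by omega : 2 ≤ i)).trans (hi ▸ hdvd)
    have h3 := Nat.le_of_dvd Nat.card_pos h2
    constructor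
    · exact le_trans (Nat.mul_le_mul_right p (by omega)) h3
    · exact fun _ => le_trans (Nat.mul_le_mul_right p (by omega)) h3

end Cfsg.Lib.Blocks.KZeroMult
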